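import Cfsg.Agent.H608.BlockRank
import Cfsg.Agent.Blocks.PrincipalSection
import Cfsg.Agent.Blocks.SectionSum
import Cfsg.Agent.Characters.ClassMul

/-!
# The principal block part of a class function on a `p`-section

Let `z` be a `p`-element of `G` whose centralizer `H` has a normal `p`-complement.

* `apply_mul_eq`: members of the principal block are constant on `z y`, `y ∈ H` `p`-regular;
* `sum_reg_eq_zero`: the other irreducible characters have sum zero over these elements;
* `sum_reg_eq`: for a class function `f`,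
  `∑ f (z y) = |O_{p'}(H)| ∑_{ζ ∈ B₀} ⟨f, ζ⟩ ζ(z)`, the left sum over the `p`-regular `y ∈ H`;
* `class_pairs`, `square_roots`: the cases of products of two conjugates and of square roots.
-/

set_option autoImplicit false

open Cfsg Cfsg.Agent.Blocks.Basic Cfsg.Agent.Blocks.Local Cfsg.Agent.Characters
open Cfsg.Agent.H608.BlockRank Subgroup
open scoped ComplexConjugate

namespace Cfsg.Agent.H608.SecProj

universe u

variable {G : Type u} [Group G]

open Classical in
/-- Sum of a class function over a section. -/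
theorem sum_section [Fintype G] (p : ℕ) [Fact p.Prime] {f : G → ℂ} (hf : IsClassFunction G f) (z : G)
    (hz : ∃ k : ℕ, orderOf z = p ^ k) :
    ∑ g : G, cut p z f g = (Nat.card {x : G // IsConj z x} : ℂ) *
      ∑ y ∈ Finset.univ.filter (fun y : G => Commute z y ∧ ¬ p ∣ orderOf y), f (z * y) := by
  rw [Blocks.SectionSum.sum_eq_sum_sections p (cut p z f)]
  have h1 : ∀ x ∈ Finset.univ.filter (fun x : G => ∃ k : ℕ, orderOf x = p ^ k),
      ∑ y ∈ Finset.univ.filter (fun y : G => Commute x y ∧ ¬ p ∣ orderOf y), cut p z f (x * y) =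
      if IsConj z x then
        ∑ y ∈ Finset.univ.filter (fun y : G => Commute z y ∧ ¬ p ∣ orderOf y), f (z * y)
      else 0 := by
    intro x hx
    have hx' : ∃ k : ℕ, orderOf x = p ^ k := by simpa using hx
    by_cases h : IsConj z x
    · rw [if_pos h]
      obtain ⟨c, hc⟩ := isConj_iff.1 h
      symm
      refine Finset.sum_bij (fun y _ => c * y * c⁻¹) ?_ ?_ ?_ ?_
      · intro y hy
        obtain ⟨h1, h2⟩ := (Finset.mem_filter.1 hy).2
        refine Finset.mem_filter.2 ⟨Finset.mem_univ _, ?_, ?_⟩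
        · rw [← hc]
          show c * z * c⁻¹ * (c * y * c⁻¹) = c * y * c⁻¹ * (c * z * c⁻¹)
          have := h1.eq
          calc c * z * c⁻¹ * (c * y * c⁻¹) = c * (z * y) * c⁻¹ := by group
            _ = c * (y * z) * c⁻¹ := by rw [this]
            _ = _ := by group
        · have : orderOf (c * y * c⁻¹) = orderOf y := by
            have := (MulAut.conj c).orderOf_eq y
            simpa using this
          rw [this]; exact h2
      · intro a _ b _ hab
        exact mul_left_cancel (mul_right_cancel hab)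
      · intro y hy
        obtain ⟨h1, h2⟩ := (Finset.mem_filter.1 hy).2
        refine ⟨c⁻¹ * y * c, Finset.mem_filter.2 ⟨Finset.mem_univ _, ?_, ?_⟩, by group⟩
        · have hz' : z = c⁻¹ * x * c := by rw [← hc]; group
          rw [hz']
          show c⁻¹ * x * c * (c⁻¹ * y * c) = c⁻¹ * y * c * (c⁻¹ * x * c)
          have := h1.eq
          calc c⁻¹ * x * c * (c⁻¹ * y * c) = c⁻¹ * (x * y) * c := by group
            _ = c⁻¹ * (y * x) * c := by rw [this]
            _ = _ := by group
        · have : orderOf (c⁻¹ * y * c) = orderOf y := by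
            have := (MulAut.conj c⁻¹).orderOf_eq y
            simpa using this
          rw [this]; exact h2
      · intro y hy
        obtain ⟨h1, h2⟩ := (Finset.mem_filter.1 hy).2
        have hcy : Commute x (c * y * c⁻¹) := by
          rw [← hc]
          show c * z * c⁻¹ * (c * y * c⁻¹) = c * y * c⁻¹ * (c * z * c⁻¹)
          have := h1.eq
          calc c * z * c⁻¹ * (c * y * c⁻¹) = c * (z * y) * c⁻¹ := by group
            _ = c * (y * z) * c⁻¹ := by rw [this]
            _ = _ := by group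
        have ho : ¬ p ∣ orderOf (c * y * c⁻¹) := by
          have : orderOf (c * y * c⁻¹) = orderOf y := by
            have := (MulAut.conj c).orderOf_eq y
            simpa using this
          rw [this]; exact h2
        rw [cut_of ((inSection_mul_iff hx' hcy ho).2 h)]
        have : x * (c * y * c⁻¹) = c * (z * y) * c⁻¹ := by rw [← hc]; group
        rw [this, hf]
    · rw [if_neg h]
      refine Finset.sum_eq_zero fun y hy => ?_
      obtain ⟨h1, h2⟩ := (Finset.mem_filter.1 hy).2
      exact cut_of_not (fun h' => h ((inSection_mul_iff hx' h1 h2).1 h')) f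
  rw [Finset.sum_congr rfl h1, ← Finset.sum_filter, Finset.sum_const, nsmul_eq_mul]
  congr 2
  rw [Nat.card_eq_fintype_card, Fintype.card_subtype, Finset.filter_filter]
  congr 1
  ext x
  simp only [Finset.mem_filter, Finset.mem_univ, true_and, and_iff_right_iff_imp]
  intro h
  obtain ⟨k, hk⟩ := hz
  obtain ⟨c, hc⟩ := isConj_iff.1 h
  refine ⟨k, ?_⟩
  have := (MulAut.conj c).orderOf_eq z
  rw [← hc, ← hk]
  simpa using this

section Main

variable [Finite G] {p : ℕ} [Fact p.Prime] {M : Ideal AlgInt}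

/-- The hypothesis: `z` is a `p`-element whose centralizer `H` has a normal `p`-complement. -/
structure Hyp (p : ℕ) (z : G) (H : Subgroup G) : Prop where
  pelt : ∃ k : ℕ, orderOf z = p ^ k
  eq : H = Subgroup.centralizer ({z} : Set G)
  nc : ∃ k : ℕ, (pPrimeCore p H).index = p ^ k

theorem apply_mul_eq (hM : IsPModular p M) {z : G} {H : Subgroup G} (h : Hyp p z H) {y : H}
    (hy : ¬ p ∣ orderOf y) {ζ : IrrCharacter G} (hζ : ζ ∈ principalBlock M G) :
    (ζ : G → ℂ) (z * (y : G)) = (ζ : G → ℂ) z := by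
  classical
  have : Finite (IrrCharacter G) := Core.finite_irr
  have := Fintype.ofFinite (IrrCharacter G)
  have key : ∀ y y' : H, ¬ p ∣ orderOf y → ¬ p ∣ orderOf y' →
      ∑ ζ ∈ (principalBlock M G).toFinset, (ζ : G → ℂ) (z * (y : G)) *
        conj ((ζ : G → ℂ) (z * (y' : G))) = ((p ^ (Nat.card H).factorization p : ℕ) : ℂ) := by
    intro y y' hy hy'
    rw [← finsum_mem_eq_toFinset_sum, Blocks.PrincipalSection.sum_principalBlock_section hM z h.pelt
      h.eq y y' hy hy', Blocks.PrincipalSection.sum_principalBlock_of_pComplement hM h.nc hy hy']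
  have h1 : ¬ p ∣ orderOf (1 : H) := by
    rw [orderOf_one, Nat.dvd_one]
    exact (Fact.out : p.Prime).ne_one
  have hsum : ∑ ζ ∈ (principalBlock M G).toFinset,
      ((ζ : G → ℂ) (z * (y : G)) - (ζ : G → ℂ) z) *
        conj ((ζ : G → ℂ) (z * (y : G)) - (ζ : G → ℂ) z) = 0 := by
    have e : ∀ ζ : IrrCharacter G, ((ζ : G → ℂ) (z * (y : G)) - (ζ : G → ℂ) z) *
        conj ((ζ : G → ℂ) (z * (y : G)) - (ζ : G → ℂ) z) =
        (ζ : G → ℂ) (z * (y : G)) * conj ((ζ : G → ℂ) (z * (y : G))) -
        (ζ : G → ℂ) (z * (y : G)) * conj ((ζ : G → ℂ) (z * ((1 : H) : G))) -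
        (ζ : G → ℂ) (z * ((1 : H) : G)) * conj ((ζ : G → ℂ) (z * (y : G))) +
        (ζ : G → ℂ) (z * ((1 : H) : G)) * conj ((ζ : G → ℂ) (z * ((1 : H) : G))) := by
      intro ζ
      rw [map_sub, Subgroup.coe_one, mul_one]
      ring
    rw [Finset.sum_congr rfl fun ζ _ => e ζ, Finset.sum_add_distrib, Finset.sum_sub_distrib,
      Finset.sum_sub_distrib, key y y hy hy, key y 1 hy h1, key 1 y h1 hy, key 1 1 h1 h1]
    ring
  have hsum' : ∑ ζ ∈ (principalBlock M G).toFinset,
      ‖(ζ : G → ℂ) (z * (y : G)) - (ζ : G → ℂ) z‖ ^ 2 = 0 := by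
    apply Complex.ofReal_injective
    rw [Complex.ofReal_sum, Complex.ofReal_zero, ← hsum]
    refine Finset.sum_congr rfl fun ζ _ => ?_
    rw [Complex.mul_conj, Complex.normSq_eq_norm_sq]
  have h2 := (Finset.sum_eq_zero_iff_of_nonneg (fun ζ _ => sq_nonneg _)).1 hsum' ζ
    (Set.mem_toFinset.2 hζ)
  have h3 : ‖(ζ : G → ℂ) (z * (y : G)) - (ζ : G → ℂ) z‖ = 0 := by
    simpa using h2
  exact sub_eq_zero.1 (norm_eq_zero.1 h3)

theorem isUnion_principalBlock [M.IsPrime] : IsUnion M (principalBlock M G) :=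
  isUnion_of_isPBlock Blocks.PrincipalSection.isPBlock_principalBlock

open Classical in
theorem sum_reg_eq_zero [Fintype G] (hM : IsPModular p M) {z : G} (hz : ∃ k : ℕ, orderOf z = p ^ k)
    {ζ : IrrCharacter G} (hζ : ζ ∉ principalBlock M G) :
    ∑ y ∈ Finset.univ.filter (fun y : G => Commute z y ∧ ¬ p ∣ orderOf y),
      (ζ : G → ℂ) (z * y) = 0 := by
  have hMp := isPrime_of_isPModular hM
  have : Finite (IrrCharacter G) := Core.finite_irr
  have := Fintype.ofFinite (IrrCharacter G)
  have h1 : ((1 : G → ℂ)) ∈ charSpan (principalBlock M G) := by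
    refine Submodule.subset_span ⟨⟨fun _ => 1, isIrrCharacter_one⟩,
      Blocks.PrincipalSection.one_mem_principalBlock, rfl⟩
  have h2 := cut_mem hM (isUnion_principalBlock (M := M)) z h1
  have h3 : classInner (cut p z (1 : G → ℂ)) (ζ : G → ℂ) = 0 := by
    have : ∀ θ ∈ charSpan (principalBlock M G), classInner θ (ζ : G → ℂ) = 0 := by
      intro θ hθ
      refine Submodule.span_induction ?_ ?_ ?_ ?_ hθ
      · rintro _ ⟨χ, hχ, rfl⟩
        have hne : χ ≠ ζ := fun h => hζ (h ▸ hχ)
        exact Core.classInner_irr_ne χ.2 ζ.2 fun h => hne (Subtype.ext h)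
      · simp [classInner]
      · intro a b _ _ ha hb
        rw [Core.classInner_add_left, ha, hb, add_zero]
      · intro c a _ ha
        rw [Core.classInner_smul_left, ha, mul_zero]
    exact this _ h2
  have h4 : ∑ g : G, cut p z (ζ : G → ℂ) g = 0 := by
    rw [classInner_def] at h3
    have hG : (Nat.card G : ℂ)⁻¹ ≠ 0 := inv_ne_zero (by exact_mod_cast Nat.card_pos.ne')
    have h5 := (mul_eq_zero.1 h3).resolve_left hG
    have h6 := congrArg conj h5
    rw [map_sum, map_zero] at h6
    rw [← h6]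
    refine Finset.sum_congr rfl fun g _ => ?_
    by_cases hg : InSection p z g
    · rw [cut_of hg, cut_of hg, map_mul, Complex.conj_conj]; simp
    · rw [cut_of_not hg, cut_of_not hg]; simp
  rw [sum_section p (Core.isIrr_isClassFunction ζ.2) z hz] at h4
  refine (mul_eq_zero.1 h4).resolve_left ?_
  have : Nonempty {x : G // IsConj z x} := ⟨⟨z, IsConj.refl z⟩⟩
  exact_mod_cast Nat.card_pos.ne'

open Classical in
omit [Finite G] in
theorem sum_centralizer_eq [Fintype G] (p : ℕ) {z : G} {H : Subgroup G}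
    (hH : H = Subgroup.centralizer ({z} : Set G)) (F : G → ℂ) :
    ∑ y ∈ Finset.univ.filter (fun y : G => Commute z y ∧ ¬ p ∣ orderOf y), F y =
      ∑ y ∈ Finset.univ.filter (fun y : H => ¬ p ∣ orderOf y), F y := by
  symm
  refine Finset.sum_bij (fun y _ => (y : G)) ?_ ?_ ?_ ?_
  · intro y hy
    have h1 := (Finset.mem_filter.1 hy).2
    refine Finset.mem_filter.2 ⟨Finset.mem_univ _, ?_, ?_⟩
    · exact (Subgroup.mem_centralizer_singleton_iff.1 (hH.le y.2)).symm
    · rw [Subgroup.orderOf_coe]; exact h1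
  · intro a _ b _ hab
    exact Subtype.ext hab
  · intro y hy
    obtain ⟨h1, h2⟩ := (Finset.mem_filter.1 hy).2
    refine ⟨⟨y, ?_⟩, Finset.mem_filter.2 ⟨Finset.mem_univ _, ?_⟩, rfl⟩
    · rw [hH, Subgroup.mem_centralizer_singleton_iff]
      exact h1.symm
    · rw [← Subgroup.orderOf_coe]; exact h2
  · intro _ _; rfl

open Classical in
theorem card_regular {K : Type*} [Group K] [Fintype K]
    (hnc : ∃ k : ℕ, (pPrimeCore p K).index = p ^ k) :
    (Finset.univ.filter (fun y : K => ¬ p ∣ orderOf y)).card = Nat.card (pPrimeCore p K) := by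
  rw [Nat.card_eq_fintype_card, Fintype.card_subtype]
  congr 1
  ext y
  simp only [Finset.mem_filter, Finset.mem_univ, true_and]
  constructor
  · exact Blocks.PrincipalSection.mem_pPrimeCore_of_regular hnc
  · intro hy hp
    have h1 : orderOf y ∣ Nat.card (pPrimeCore p K) := by
      have := orderOf_dvd_natCard (⟨y, hy⟩ : pPrimeCore p K)
      rwa [← Subgroup.orderOf_coe] at this
    have h2 : ¬ p ∣ Nat.card (pPrimeCore p K) :=
      (Nat.Prime.coprime_iff_not_dvd (Fact.out : p.Prime)).1 (Lib.Cores.pPrimeCore_coprime p).symm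
    exact h2 (hp.trans h1)

open Classical in
/-- The principal block part of a class function. -/
theorem sum_reg_eq [Fintype G] (hM : IsPModular p M) {z : G} {H : Subgroup G} (h : Hyp p z H)
    {f : G → ℂ} (hf : IsClassFunction G f) :
    ∑ y ∈ Finset.univ.filter (fun y : H => ¬ p ∣ orderOf y), f (z * (y : G)) =
      (Nat.card (pPrimeCore p H) : ℂ) *
        ∑ᶠ ζ ∈ principalBlock M G, classInner f (ζ : G → ℂ) * (ζ : G → ℂ) z := by
  have : Finite (IrrCharacter G) := Core.finite_irr
  have := Fintype.ofFinite (IrrCharacter G)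
  have h1 : ∀ ζ : IrrCharacter G,
      ∑ y ∈ Finset.univ.filter (fun y : H => ¬ p ∣ orderOf y), (ζ : G → ℂ) (z * (y : G)) =
        if ζ ∈ principalBlock M G then (Nat.card (pPrimeCore p H) : ℂ) * (ζ : G → ℂ) z else 0 := by
    intro ζ
    split_ifs with hζ
    · rw [Finset.sum_congr rfl (g := fun _ => (ζ : G → ℂ) z), Finset.sum_const, nsmul_eq_mul,
        card_regular h.nc]
      intro y hy
      exact apply_mul_eq hM h (Finset.mem_filter.1 hy).2 hζ
    · rw [← sum_centralizer_eq p h.eq (fun y => (ζ : G → ℂ) (z * y))]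
      exact sum_reg_eq_zero hM h.pelt hζ
  have h2 : ∀ g : G, f g = ∑ ζ : IrrCharacter G, classInner f (ζ : G → ℂ) * (ζ : G → ℂ) g := by
    intro g
    conv_lhs => rw [Core.classFunction_eq_sum hf]
    rw [Finset.sum_apply]
    rfl
  rw [Finset.sum_congr rfl fun (y : H) _ => h2 (z * (y : G)), Finset.sum_comm,
    finsum_mem_eq_toFinset_sum, Finset.mul_sum,
    ← Finset.sum_subset (Finset.subset_univ (principalBlock M G).toFinset)]
  · refine Finset.sum_congr rfl fun ζ hζ => ?_
    rw [← Finset.mul_sum, h1, if_pos (Set.mem_toFinset.1 hζ)]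
    ring
  · intro ζ _ hζ
    rw [← Finset.mul_sum, h1, if_neg (fun h => hζ (Set.mem_toFinset.2 h)), mul_zero]

section Pairs

open Classical in
/-- The number of pairs of conjugates of `x` and `y` with product `g`. -/
noncomputable def pairF [Fintype G] (x y : G) (g : G) : ℂ :=
  ∑ s : G, ∑ t : G, if IsConj x s ∧ IsConj y t ∧ s * t = g then (1 : ℂ) else 0

omit [Finite G] in
theorem isConj_conj_iff {x s k : G} : IsConj x (k * s * k⁻¹) ↔ IsConj x s := by
  have h1 : IsConj s (k * s * k⁻¹) := isConj_iff.2 ⟨k, rfl⟩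
  exact ⟨fun h => h.trans h1.symm, fun h => h.trans h1⟩

omit [Finite G] in
theorem pairF_class [Fintype G] (x y : G) : IsClassFunction G (pairF x y) := by
  classical
  intro g k
  unfold pairF
  symm
  refine Fintype.sum_equiv (MulAut.conj k).toEquiv _ _ fun s => ?_
  refine Fintype.sum_equiv (MulAut.conj k).toEquiv _ _ fun t => ?_
  have h1 : (MulAut.conj k).toEquiv s = k * s * k⁻¹ := rfl
  have h2 : (MulAut.conj k).toEquiv t = k * t * k⁻¹ := rfl
  rw [h1, h2]
  have h3 : k * s * k⁻¹ * (k * t * k⁻¹) = k * g * k⁻¹ ↔ s * t = g := by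
    have : k * s * k⁻¹ * (k * t * k⁻¹) = k * (s * t) * k⁻¹ := by group
    rw [this]
    constructor
    · intro h; exact mul_left_cancel (mul_right_cancel h)
    · intro h; rw [h]
  have h4 : (IsConj x s ∧ IsConj y t ∧ s * t = g) ↔ (IsConj x (k * s * k⁻¹) ∧
      IsConj y (k * t * k⁻¹) ∧ k * s * k⁻¹ * (k * t * k⁻¹) = k * g * k⁻¹) := by
    rw [isConj_conj_iff, isConj_conj_iff, h3]
  by_cases h : IsConj x s ∧ IsConj y t ∧ s * t = g
  · rw [if_pos h, if_pos (h4.1 h)]
  · rw [if_neg h, if_neg (fun h' => h (h4.2 h'))]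

theorem classInner_pairF [Fintype G] (x y : G) (ζ : IrrCharacter G) :
    classInner (pairF x y) (ζ : G → ℂ) =
      ((centralizer ({x} : Set G)).index : ℂ) * ((centralizer ({y} : Set G)).index : ℂ) *
        conj ((ζ : G → ℂ) x) * conj ((ζ : G → ℂ) y) / ((Nat.card G : ℂ) * (ζ : G → ℂ) 1) := by
  classical
  have h1 : ∑ g : G, pairF x y g * conj ((ζ : G → ℂ) g) =
      conj (∑ s with IsConj x s, ∑ t with IsConj y t, (ζ : G → ℂ) (s * t)) := by
    unfold pairF
    simp only [Finset.sum_mul]
    rw [Finset.sum_comm, map_sum, Finset.sum_filter]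
    refine Finset.sum_congr rfl fun s _ => ?_
    rw [Finset.sum_comm]
    by_cases hs : IsConj x s
    · rw [if_pos hs, map_sum, Finset.sum_filter]
      refine Finset.sum_congr rfl fun t _ => ?_
      by_cases ht : IsConj y t
      · rw [if_pos ht]
        simp only [hs, ht, true_and, ite_mul, one_mul, zero_mul, Finset.sum_ite_eq,
          Finset.mem_univ, if_true]
      · rw [if_neg ht]
        refine Finset.sum_eq_zero fun g _ => ?_
        rw [if_neg (fun h => ht h.2.1), zero_mul]
    · rw [if_neg hs]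
      refine Finset.sum_eq_zero fun t _ => Finset.sum_eq_zero fun g _ => ?_
      rw [if_neg (fun h => hs h.1), zero_mul]
  obtain ⟨d, hd0, hd⟩ := Core.isIrr_apply_one ζ.2
  have hd0' : (d : ℂ) ≠ 0 := by exact_mod_cast hd0.ne'
  have hG : (Nat.card G : ℂ) ≠ 0 := by exact_mod_cast Nat.card_pos.ne'
  have h2 := ClassMul.sum_class_sum_class_char_mul ζ.2 x y
  have h3 : ∑ s with IsConj x s, ∑ t with IsConj y t, (ζ : G → ℂ) (s * t) =
      (d : ℂ) * ∑ s with IsConj x s, ∑ t with IsConj y t, (ζ : G → ℂ) (s * t) / (ζ : G → ℂ) 1 := by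
    rw [Finset.mul_sum]
    refine Finset.sum_congr rfl fun s _ => ?_
    rw [Finset.mul_sum]
    refine Finset.sum_congr rfl fun t _ => ?_
    rw [hd]
    field_simp
  rw [classInner_def, h1, h3, h2, hd]
  simp only [map_mul, map_div₀, map_natCast]
  field_simp

open Classical in
/-- Pairs of conjugates whose product lies in `z O_{p'}(C(z))`. -/
theorem sum_pairs [Fintype G] (hM : IsPModular p M) {z : G} {H : Subgroup G} (h : Hyp p z H)
    (x y : G) :
    ∑ u ∈ Finset.univ.filter (fun u : H => ¬ p ∣ orderOf u), pairF x y (z * (u : G)) =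
      (Nat.card (pPrimeCore p H) : ℂ) * ((centralizer ({x} : Set G)).index : ℂ) *
        ((centralizer ({y} : Set G)).index : ℂ) / (Nat.card G : ℂ) *
        ∑ᶠ ζ ∈ principalBlock M G, conj ((ζ : G → ℂ) x) * conj ((ζ : G → ℂ) y) *
          (ζ : G → ℂ) z / (ζ : G → ℂ) 1 := by
  have : Finite (IrrCharacter G) := Core.finite_irr
  have := Fintype.ofFinite (IrrCharacter G)
  rw [sum_reg_eq hM h (pairF_class x y), finsum_mem_eq_toFinset_sum, finsum_mem_eq_toFinset_sum,
    Finset.mul_sum, Finset.mul_sum]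
  refine Finset.sum_congr rfl fun ζ _ => ?_
  rw [classInner_pairF]
  obtain ⟨d, hd0, hd⟩ := Core.isIrr_apply_one ζ.2
  have hd0' : (d : ℂ) ≠ 0 := by exact_mod_cast hd0.ne'
  have hG : (Nat.card G : ℂ) ≠ 0 := by exact_mod_cast Nat.card_pos.ne'
  rw [hd]
  field_simp

/-- The degree relation `∑ ζ(1) ζ(z) = 0` over the principal block. -/
theorem sum_degree (hM : IsPModular p M) {z : G} {H : Subgroup G} (h : Hyp p z H)
    (hz1 : z ≠ 1) : ∑ᶠ ζ ∈ principalBlock M G, (ζ : G → ℂ) 1 * (ζ : G → ℂ) z = 0 := by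
  classical
  have := Fintype.ofFinite G
  have : Finite (IrrCharacter G) := Core.finite_irr
  have := Fintype.ofFinite (IrrCharacter G)
  let f : G → ℂ := fun g => if g = 1 then 1 else 0
  have hf : IsClassFunction G f := by
    intro g k
    have : k * g * k⁻¹ = 1 ↔ g = 1 := by
      constructor
      · intro h
        calc g = k⁻¹ * (k * g * k⁻¹) * k := by group
          _ = 1 := by rw [h]; group
      · rintro rfl; group
    simp only [f, this]
  have h1 := sum_reg_eq hM h hf
  have h2 : ∑ u ∈ Finset.univ.filter (fun u : H => ¬ p ∣ orderOf u), f (z * (u : G)) = 0 := by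
    refine Finset.sum_eq_zero fun u hu => ?_
    have hu' : ¬ p ∣ orderOf u := (Finset.mem_filter.1 hu).2
    have : z * (u : G) ≠ 1 := by
      intro hzu
      have hzu' : (u : G) = z⁻¹ := eq_inv_of_mul_eq_one_right hzu
      obtain ⟨k, hk⟩ := h.pelt
      have h3 : orderOf (u : G) = p ^ k := by rw [hzu', orderOf_inv, hk]
      rw [Subgroup.orderOf_coe] at h3
      rcases Nat.eq_zero_or_pos k with rfl | hk0
      · rw [pow_zero, orderOf_eq_one_iff] at hk
        exact hz1 hk
      · apply hu'
        rw [h3]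
        exact dvd_pow_self p hk0.ne'
    simp only [f, this, if_false]
  rw [h2] at h1
  have h3 : ∀ ζ : IrrCharacter G, classInner f (ζ : G → ℂ) =
      (Nat.card G : ℂ)⁻¹ * (ζ : G → ℂ) 1 := by
    intro ζ
    obtain ⟨d, hd0, hd⟩ := Core.isIrr_apply_one ζ.2
    rw [classInner_def, Finset.sum_eq_single (1 : G)]
    · simp only [f, if_true, one_mul, hd, map_natCast]
    · intro g _ hg
      simp only [f, hg, if_false, zero_mul]
    · intro h; exact absurd (Finset.mem_univ _) h
  have hO : (Nat.card (pPrimeCore p H) : ℂ) ≠ 0 := by exact_mod_cast Nat.card_pos.ne'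
  have h4 := (mul_eq_zero.1 h1.symm).resolve_left hO
  rw [finsum_mem_eq_toFinset_sum] at h4 ⊢
  have hG : (Nat.card G : ℂ)⁻¹ ≠ 0 := inv_ne_zero (by exact_mod_cast Nat.card_pos.ne')
  refine (mul_eq_zero.1 (?_ : (Nat.card G : ℂ)⁻¹ * _ = 0)).resolve_left hG
  rw [← h4, Finset.mul_sum]
  refine Finset.sum_congr rfl fun ζ _ => ?_
  rw [h3]
  ring

/-- If no square lies in `z O_{p'}(C(z))`, the indicators of the principal block satisfy
`∑ ν(ζ) ζ(z) = 0`. -/
theorem sum_indicator [Fintype G] (hM : IsPModular p M) {z : G} {H : Subgroup G} (h : Hyp p z H)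
    (hno : ∀ (s : G) (u : H), ¬ p ∣ orderOf u → s * s ≠ z * (u : G)) :
    ∑ᶠ ζ ∈ principalBlock M G, conj ((Nat.card G : ℂ)⁻¹ * ∑ s : G, (ζ : G → ℂ) (s * s)) *
      (ζ : G → ℂ) z = 0 := by
  classical
  have : Finite (IrrCharacter G) := Core.finite_irr
  have := Fintype.ofFinite (IrrCharacter G)
  let f : G → ℂ := fun g => ∑ s : G, if s * s = g then (1 : ℂ) else 0
  have hf : IsClassFunction G f := by
    intro g k
    symm
    refine Fintype.sum_equiv (MulAut.conj k).toEquiv _ _ fun s => ?_
    have h1 : (MulAut.conj k).toEquiv s = k * s * k⁻¹ := rfl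
    have h3 : k * s * k⁻¹ * (k * s * k⁻¹) = k * g * k⁻¹ ↔ s * s = g := by
      have : k * s * k⁻¹ * (k * s * k⁻¹) = k * (s * s) * k⁻¹ := by group
      rw [this]
      constructor
      · intro h; exact mul_left_cancel (mul_right_cancel h)
      · intro h; rw [h]
    rw [h1]
    simp only [h3]
  have h1 := sum_reg_eq hM h hf
  have h2 : ∑ u ∈ Finset.univ.filter (fun u : H => ¬ p ∣ orderOf u), f (z * (u : G)) = 0 := by
    refine Finset.sum_eq_zero fun u hu => ?_
    have hu' : ¬ p ∣ orderOf u := (Finset.mem_filter.1 hu).2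
    refine Finset.sum_eq_zero fun s _ => ?_
    rw [if_neg (hno s u hu')]
  rw [h2] at h1
  have hO : (Nat.card (pPrimeCore p H) : ℂ) ≠ 0 := by exact_mod_cast Nat.card_pos.ne'
  have h4 := (mul_eq_zero.1 h1.symm).resolve_left hO
  rw [← h4]
  refine finsum_mem_congr rfl fun ζ _ => ?_
  congr 1
  rw [classInner_def, map_mul, map_inv₀, map_natCast, map_sum]
  congr 1
  have e : ∀ g : G, f g * conj ((ζ : G → ℂ) g) =
      ∑ s : G, if s * s = g then conj ((ζ : G → ℂ) g) else 0 := by
    intro g
    show (∑ s : G, if s * s = g then (1 : ℂ) else 0) * _ = _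
    rw [Finset.sum_mul]
    refine Finset.sum_congr rfl fun s _ => ?_
    split_ifs <;> simp
  rw [Finset.sum_congr rfl fun g _ => e g, Finset.sum_comm]
  refine Finset.sum_congr rfl fun s _ => ?_
  rw [Finset.sum_ite_eq]
  simp

end Pairs

end Main

end Cfsg.Agent.H608.SecProj
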