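import Mathlib
import Cfsg.Agent.H613.SubFus
import Cfsg.Agent.H641.Inertial
import Cfsg.Agent.H645.FusCount
import Cfsg.Agent.S4677

/-!
# Fusion in a block controlled by the stabilizer of the maximal pair

`a` a maximal Brauer pair of `B`, `stab a` its stabilizer.

* `exists_stab_of_fus`: if `a.1` is normal in the fusion system of `B` then fusion of elements of
  `a.1` is controlled by `stab a`;
* `exists_stable_hom`: for a linear character `μ` of `a.1` there are a `stab a`-invariant linear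
  character `l` and `m` prime to `p` with `l v = μ v ^ m` for all `v` fixed by `stab a`.
-/

set_option autoImplicit false
set_option linter.unusedSectionVars false

open Cfsg

namespace Cfsg.Agent.H608.F5

open Cfsg.Agent.Blocks.Blau Cfsg.Agent.Blocks.Local Cfsg.Agent.Characters
open Cfsg.Agent.H613.SubSys Cfsg.Agent.H613.SubFus
open Cfsg.Agent.H639 Cfsg.Agent.H649 Cfsg.Agent.H651
open Cfsg.Agent.H645.FusCount (stab mem_stab)

universe u

variable {G : Type u} [Group G] [Finite G] {p : ℕ} [Fact p.Prime] {M : Ideal AlgInt}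
  {B : Set (IrrCharacter G)} {a : BrauerPairIdx G}

theorem eq_of_le_of_fst (hM : IsPModular p M) (ha : IsBrauerPair p M a.1 a.2)
    {c : BrauerPairIdx G} (h1 : c.1 = a.1) (hc : LEIdx p M c a) : c = a := by
  have := Fintype.ofFinite G
  obtain ⟨Q, f⟩ := c
  obtain ⟨P, e⟩ := a
  have h2 : Q = P := h1
  subst h2
  have h3 : f = e := subpair_unique hM ha hc (Relation.ReflTransGen.refl)
  rw [h3]

theorem stab_conj_mem {t u : G} (ht : t ∈ stab a) (hu : u ∈ a.1) : t * u * t⁻¹ ∈ a.1 := by
  have h1 := congrArg Sigma.fst (mem_stab.1 ht)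
  rw [conjIdx_fst] at h1
  rw [← h1]
  exact ⟨u, hu, rfl⟩

theorem stab_le_normalizer : stab a ≤ Subgroup.normalizer (a.1 : Set G) := by
  intro t ht
  rw [Subgroup.mem_normalizer_iff]
  intro u
  refine ⟨fun hu => stab_conj_mem ht hu, fun hu => ?_⟩
  have h1 := stab_conj_mem ((stab a).inv_mem ht) hu
  have h2 : t⁻¹ * (t * u * t⁻¹) * t⁻¹⁻¹ = u := by group
  rwa [h2] at h1

theorem exists_stab_of_fus (hM : IsPModular p M) (hmax : IsMaximalBrauerPair p M B a.1 a.2)
    (hN : ∀ F : FusionSystem a.1, F.IsSaturated p → F.IsNormal a.1) {u v : G} (hu : u ∈ a.1)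
    (hv : v ∈ a.1) (h : Fus p M a u v) : ∃ t ∈ stab a, t * u * t⁻¹ = v := by
  have := Fintype.ofFinite G
  have := isPrime_of_isPModular hM
  have ha := hmax.1.1
  obtain ⟨F, hF, hsat⟩ := Cfsg.Agent.S4677.result p M hM B a.1 a.2 hmax
  obtain ⟨x, hx1, hx2⟩ := h
  have hQ : Subgroup.zpowers u ≤ a.1 := by rwa [Subgroup.zpowers_le]
  have hmap : (Subgroup.zpowers u).map (MulAut.conj x).toMonoidHom = Subgroup.zpowers v := by
    rw [MonoidHom.map_zpowers]
    congr 1
  have hφ : conjHom (Subgroup.zpowers u) x ∈ F.Hom (Subgroup.zpowers u) := by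
    rw [hF.2]
    refine ⟨hQ, x, fun w => rfl, ?_, (bel p M a u).2, bel_le hM ha hu, ?_⟩
    · rw [hmap, Subgroup.zpowers_le]; exact hv
    · have h1 : LEIdx p M (conjIdx x (bel p M a u)) a := by
        rw [hx2]; exact bel_le hM ha hv
      have h2 : conjIdx x (bel p M a u) = ⟨(Subgroup.zpowers u).map (MulAut.conj x).toMonoidHom,
          conjBlock (Subgroup.zpowers u) x (bel p M a u).2⟩ := conjIdx_mk x _ _
      rw [h2] at h1
      exact h1
  obtain ⟨ψ, hψ, hext, -⟩ := (hN F hsat).2 _ _ hφ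
  rw [hF.2] at hψ
  obtain ⟨hle, g, hg, hgP, f, hf1, hf2⟩ := hψ
  have hsup : Subgroup.zpowers u ⊔ a.1 = a.1 := sup_eq_right.2 hQ
  have hc : (⟨Subgroup.zpowers u ⊔ a.1, f⟩ : BrauerPairIdx G) = a :=
    eq_of_le_of_fst hM ha hsup hf1
  have hc2 : LEIdx p M (conjIdx g a) a := by
    have h5 : LEIdx p M (conjIdx g (⟨Subgroup.zpowers u ⊔ a.1, f⟩ : BrauerPairIdx G)) a := by
      rw [conjIdx_mk]
      exact hf2
    rwa [hc] at h5
  have hfst : (conjIdx g a).1 = a.1 := by
    refine Subgroup.eq_of_le_of_card_ge (LEIdx.le hc2) ?_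
    rw [conjIdx_fst]
    exact (Nat.card_congr (a.1.equivMapOfInjective _ (MulAut.conj g).injective).toEquiv).le
  refine ⟨g, eq_of_le_of_fst hM ha hfst hc2, ?_⟩
  have h3 := hext ⟨u, Subgroup.mem_zpowers u⟩
  rw [hg] at h3
  have h4 : g * u * g⁻¹ = x * u * x⁻¹ := h3
  rw [h4, hx1]

/-- The automorphism of `a.1` induced by an element of the stabilizer. -/
noncomputable def act (a : BrauerPairIdx G) : stab a →* MulAut a.1 :=
  (Subgroup.normalizerMonoidHom a.1).comp (Subgroup.inclusion stab_le_normalizer)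

theorem act_coe (s : stab a) (v : a.1) : ((act a s v : a.1) : G) = s * v * (s : G)⁻¹ := rfl

theorem pairStab_eq [M.IsPrime] (hM : IsPModular p M)
    (hmax : IsMaximalBrauerPair p M B a.1 a.2) :
    Cfsg.Agent.H644.pairStab M a.1 a.2 = stab a := by
  ext x
  rw [Cfsg.Agent.H644.mem_pairStab_iff_stabilizesBlock hM hmax.1.1.2, mem_stab]
  exact (conjIdx_eq_iff hmax.1.1.2 x).symm

/-- The index of `P C_G(P)` in the stabilizer is prime to `p`. -/
theorem not_dvd_relIndex_stab (hM : IsPModular p M) (hmax : IsMaximalBrauerPair p M B a.1 a.2) :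
    ¬ p ∣ (a.1 ⊔ Subgroup.centralizer (a.1 : Set G)).relIndex (stab a) := by
  have := isPrime_of_isPModular hM
  have h := Cfsg.Agent.H641.not_dvd_relIndex hM hmax
  rwa [pairStab_eq hM hmax] at h

theorem self_le_stab (hM : IsPModular p M) (hmax : IsMaximalBrauerPair p M B a.1 a.2) :
    a.1 ≤ stab a := fun _ hx => conjIdx_self hM hmax.1.1 hx

theorem centralizer_le_stab (hM : IsPModular p M) (hmax : IsMaximalBrauerPair p M B a.1 a.2) :
    Subgroup.centralizer (a.1 : Set G) ≤ stab a := by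
  have := isPrime_of_isPModular hM
  intro x hx
  exact centralizer_le_idxStab (Q := a.1) (f := a.2) hmax.1.1.2 hx

theorem sup_le_stab (hM : IsPModular p M) (hmax : IsMaximalBrauerPair p M B a.1 a.2) :
    a.1 ⊔ Subgroup.centralizer (a.1 : Set G) ≤ stab a :=
  sup_le (self_le_stab hM hmax) (centralizer_le_stab hM hmax)

/-- Averaging a linear character over the stabilizer. -/
theorem exists_stable_hom (hM : IsPModular p M) (hmax : IsMaximalBrauerPair p M B a.1 a.2)
    (μ : a.1 →* ℂˣ) :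
    ∃ (l : a.1 →* ℂˣ) (m : ℕ), ¬ p ∣ m ∧ (∀ (s : stab a) (v : a.1), l (act a s v) = l v) ∧
      ∀ v : a.1, (∀ s : stab a, act a s v = v) → l v = μ v ^ m := by
  classical
  have := Fintype.ofFinite G
  set K : Subgroup (stab a) :=
    (a.1 ⊔ Subgroup.centralizer (a.1 : Set G)).subgroupOf (stab a) with hK
  have hfin : Finite (stab a ⧸ K) := inferInstance
  have := Fintype.ofFinite (stab a ⧸ K)
  have hidx : ¬ p ∣ K.index := not_dvd_relIndex_stab hM hmax
  -- `μ` is invariant under `K`
  have hinv : ∀ k ∈ K, ∀ v : a.1, μ (act a k v) = μ v := by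
    let T : Subgroup (stab a) :=
      { carrier := {k | ∀ v : a.1, μ (act a k v) = μ v}
        one_mem' := fun v => by rw [map_one, MulAut.one_apply]
        mul_mem' := fun {x y} hx hy v => by rw [map_mul, MulAut.mul_apply, hx, hy]
        inv_mem' := fun {x} hx v => by
          have h1 := hx (act a x⁻¹ v)
          rw [← MulAut.mul_apply, ← map_mul, mul_inv_cancel, map_one, MulAut.one_apply] at h1
          exact h1.symm }
    have hKT : a.1 ⊔ Subgroup.centralizer (a.1 : Set G) ≤ T.map (stab a).subtype := by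
      refine sup_le ?_ ?_
      · intro x hx
        refine ⟨⟨x, self_le_stab hM hmax hx⟩, fun v => ?_, rfl⟩
        have h1 : act a ⟨x, self_le_stab hM hmax hx⟩ v = ⟨x, hx⟩ * v * (⟨x, hx⟩ : a.1)⁻¹ :=
          Subtype.ext rfl
        rw [h1, map_mul, map_mul, map_inv, mul_comm, inv_mul_cancel_left]
      · intro x hx
        refine ⟨⟨x, centralizer_le_stab hM hmax hx⟩, fun v => ?_, rfl⟩
        congr 1
        apply Subtype.ext
        rw [act_coe]
        change x * (v : G) * x⁻¹ = v
        rw [← Subgroup.mem_centralizer_iff.1 hx v v.2, mul_inv_cancel_right]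
    intro k hk
    obtain ⟨k', hk', h2⟩ := hKT (Subgroup.mem_subgroupOf.1 hk)
    have h3 : k' = k := Subtype.ext h2
    rw [← h3]
    exact hk'
  refine ⟨∏ q : stab a ⧸ K, μ.comp (act a (Quotient.out q)⁻¹).toMonoidHom, K.index, hidx, ?_, ?_⟩
  · intro s v
    rw [MonoidHom.finsetProd_apply, MonoidHom.finsetProd_apply]
    refine Fintype.prod_equiv (MulAction.toPerm s⁻¹) _ _ fun q => ?_
    change μ (act a (Quotient.out q)⁻¹ (act a s v)) = μ (act a (Quotient.out (s⁻¹ • q))⁻¹ v)
    have h1 : (Quotient.out (s⁻¹ • q))⁻¹ * (s⁻¹ * Quotient.out q) ∈ K := by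
      rw [← QuotientGroup.eq]
      rw [QuotientGroup.out_eq']
      conv_lhs => rw [← QuotientGroup.out_eq' q]
      rfl
    have h2 : (Quotient.out q)⁻¹ * s = ((Quotient.out (s⁻¹ • q))⁻¹ * (s⁻¹ * Quotient.out q))⁻¹ *
        (Quotient.out (s⁻¹ • q))⁻¹ := by group
    rw [← MulAut.mul_apply, ← map_mul, h2, map_mul, MulAut.mul_apply,
      hinv _ (K.inv_mem h1)]
  · intro v hv
    rw [MonoidHom.finsetProd_apply]
    have h5 : ∀ q : stab a ⧸ K, (μ.comp (act a (Quotient.out q)⁻¹).toMonoidHom) v = μ v :=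
      fun q => congrArg μ (hv _)
    rw [Finset.prod_congr rfl fun q _ => h5 q, Finset.prod_const, Finset.card_univ,
      Subgroup.index, Nat.card_eq_fintype_card]

end Cfsg.Agent.H608.F5
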