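import Mathlib

/-!
# The groups `Q₈ × C₂` and `Q₈ * C₄`

`IsGe P z`: `P` is a nonabelian group of order 16, squares and commutators of elements of `P` are
`1` or `z`, and `P` has no elementary abelian subgroup of order 8.
-/

set_option autoImplicit false

namespace Cfsg.Agent.H608.F5

variable {G : Type*} [Group G]

/-- `P ≅ Q₈ × C₂` or `P ≅ Q₈ * C₄`, with derived subgroup `⟨z⟩`. -/
structure IsGe (P : Subgroup G) (z : G) : Prop where
  card : Nat.card P = 16
  mem : z ∈ P
  ne : z ≠ 1
  sq : ∀ x ∈ P, x * x = 1 ∨ x * x = z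
  comm : ∀ x ∈ P, ∀ y ∈ P, x * y = y * x ∨ x * y = z * (y * x)
  na : ∃ x ∈ P, ∃ y ∈ P, x * y ≠ y * x
  no8 : ∀ E : Subgroup G, E ≤ P → Nat.card E = 8 → ∃ x ∈ E, x * x ≠ 1

/-- A subgroup with `a⁻¹ b` in it for all `a`, `b` outside of it has index at most two. -/
theorem card_le_two_mul [Finite G] {E H : Subgroup G} (hHE : H ≤ E)
    (h : ∀ a ∈ E, ∀ b ∈ E, a ∉ H → b ∉ H → a⁻¹ * b ∈ H) : Nat.card E ≤ 2 * Nat.card H := by
  classical
  have h1 := Subgroup.card_mul_index (H.subgroupOf E)
  rw [Nat.card_congr (Subgroup.subgroupOfEquivOfLe hHE).toEquiv] at h1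
  have h2 : (H.subgroupOf E).index ≤ 2 := by
    by_contra hcon
    push Not at hcon
    have h3 : 2 < Nat.card (E ⧸ H.subgroupOf E) := hcon
    have hfin : Finite (E ⧸ H.subgroupOf E) := inferInstance
    have := Fintype.ofFinite (E ⧸ H.subgroupOf E)
    rw [Nat.card_eq_fintype_card, Fintype.two_lt_card_iff] at h3
    obtain ⟨p, q, r, hpq, hpr, hqr⟩ := h3
    -- one of the three cosets is `H`, the other two coincide
    have key : ∀ p q : E ⧸ H.subgroupOf E, p ≠ QuotientGroup.mk 1 → q ≠ QuotientGroup.mk 1 →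
        p = q := by
      intro p q
      induction p using QuotientGroup.induction_on with
      | H x =>
      induction q using QuotientGroup.induction_on with
      | H y =>
      intro hx hy
      have hx' : (x : G) ∉ H := by
        intro h4
        apply hx
        rw [eq_comm, QuotientGroup.eq, inv_one, one_mul, Subgroup.mem_subgroupOf]
        exact h4
      have hy' : (y : G) ∉ H := by
        intro h4
        apply hy
        rw [eq_comm, QuotientGroup.eq, inv_one, one_mul, Subgroup.mem_subgroupOf]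
        exact h4
      rw [QuotientGroup.eq, Subgroup.mem_subgroupOf]
      exact h x x.2 y y.2 hx' hy'
    by_cases hp : p = QuotientGroup.mk 1
    · exact hqr (key q r (fun h5 => hpq (hp.trans h5.symm)) (fun h5 => hpr (hp.trans h5.symm)))
    · by_cases hq : q = QuotientGroup.mk 1
      · exact hpr (key p r hp (fun h5 => hqr (hq.trans h5.symm)))
      · exact hpq (key p q hp hq)
  rw [← h1]
  nlinarith

variable {P : Subgroup G} {z : G}

theorem IsGe.finite (h : IsGe P z) : Finite P :=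
  Nat.finite_of_card_ne_zero (by rw [h.card]; norm_num)

theorem IsGe.zz (h : IsGe P z) : z * z = 1 := by
  rcases h.sq z h.mem with h1 | h1
  · exact h1
  · exact absurd (mul_eq_left.1 h1) h.ne

theorem IsGe.z_inv (h : IsGe P z) : z⁻¹ = z := inv_eq_of_mul_eq_one_left h.zz

theorem IsGe.z_comm (h : IsGe P z) {y : G} (hy : y ∈ P) : z * y = y * z := by
  rcases h.comm z h.mem y hy with h1 | h1
  · exact h1
  · exfalso
    have h2 : y = y * z := mul_left_cancel h1
    exact h.ne (left_eq_mul.1 h2)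

theorem IsGe.pow_four (h : IsGe P z) {x : G} (hx : x ∈ P) : x ^ 4 = 1 := by
  have h1 : x ^ 4 = (x * x) * (x * x) := by simp only [pow_succ, pow_zero, one_mul, mul_assoc]
  rw [h1]
  rcases h.sq x hx with h2 | h2
  · rw [h2, one_mul]
  · rw [h2, h.zz]

/-- `x⁻¹ y` commutes with `t` if neither `x` nor `y` does. -/
theorem IsGe.comm_inv_mul (h : IsGe P z) {t x y : G} (ht : t ∈ P) (hx : x ∈ P) (hy : y ∈ P)
    (hxt : x * t ≠ t * x) (hyt : y * t ≠ t * y) : x⁻¹ * y * t = t * (x⁻¹ * y) := by
  have h1 := (h.comm x hx t ht).resolve_left hxt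
  have h2 := (h.comm y hy t ht).resolve_left hyt
  have h3 : x⁻¹ * (z * t) = t * x⁻¹ := by
    rw [inv_mul_eq_iff_eq_mul, ← mul_assoc, h1, mul_assoc, mul_inv_cancel_right]
  calc x⁻¹ * y * t = x⁻¹ * (z * (t * y)) := by rw [mul_assoc, h2]
    _ = x⁻¹ * (z * t) * y := by group
    _ = t * (x⁻¹ * y) := by rw [h3, mul_assoc]

variable [Finite G]

/-- The centralizer of an element in a subgroup has index at most two. -/
theorem IsGe.card_le (h : IsGe P z) {E : Subgroup G} (hE : E ≤ P) {t : G} (ht : t ∈ P) :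
    Nat.card E ≤ 2 * Nat.card (E ⊓ Subgroup.centralizer ({t} : Set G) : Subgroup G) := by
  refine card_le_two_mul inf_le_left fun x hx y hy hx' hy' => ?_
  refine Subgroup.mem_inf.2 ⟨E.mul_mem (E.inv_mem hx) hy, ?_⟩
  rw [Subgroup.mem_centralizer_singleton_iff]
  refine h.comm_inv_mul ht (hE hx) (hE hy) (fun h1 => hx' ?_) (fun h1 => hy' ?_)
  · exact Subgroup.mem_inf.2 ⟨hx, Subgroup.mem_centralizer_singleton_iff.2 h1⟩
  · exact Subgroup.mem_inf.2 ⟨hy, Subgroup.mem_centralizer_singleton_iff.2 h1⟩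

theorem card_eq_half {E H : Subgroup G} (hHE : H ≤ E) {n : ℕ} (hE : Nat.card E = 2 * n)
    (hle : Nat.card E ≤ 2 * Nat.card H) {x : G} (hx : x ∈ E) (hxH : x ∉ H) : Nat.card H = n := by
  have h1 := Subgroup.card_mul_index (H.subgroupOf E)
  rw [Nat.card_congr (Subgroup.subgroupOfEquivOfLe hHE).toEquiv] at h1
  have h2 : (H.subgroupOf E).index ≠ 1 := by
    intro h3
    rw [Subgroup.index_eq_one] at h3
    apply hxH
    have h4 : (⟨x, hx⟩ : E) ∈ H.subgroupOf E := by rw [h3]; exact Subgroup.mem_top _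
    exact Subgroup.mem_subgroupOf.1 h4
  have h3 : (H.subgroupOf E).index ≠ 0 := Subgroup.index_ne_zero_of_finite
  have h4 : 0 < Nat.card H := Nat.card_pos
  have h5 : (H.subgroupOf E).index ≤ 2 := by
    by_contra h6
    push Not at h6
    have : 2 * Nat.card H < Nat.card H * (H.subgroupOf E).index := by nlinarith
    omega
  have h6 : (H.subgroupOf E).index = 2 := by omega
  rw [h6] at h1
  omega

/-- The centre of `P`. -/
theorem IsGe.exists_c (h : IsGe P z) : ∃ c ∈ P, (∀ y ∈ P, c * y = y * c) ∧ c ≠ 1 ∧ c ≠ z ∧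
    ∀ w ∈ P, (∀ y ∈ P, w * y = y * w) → w = 1 ∨ w = z ∨ w = c ∨ w = c * z := by
  classical
  obtain ⟨x, hx, y, hy, hxy⟩ := h.na
  set W : Subgroup G := P ⊓ Subgroup.centralizer ({x} : Set G) ⊓
    Subgroup.centralizer ({y} : Set G) with hW
  have hWP : W ≤ P := inf_le_left.trans inf_le_left
  have hA : Nat.card (P ⊓ Subgroup.centralizer ({x} : Set G) : Subgroup G) = 8 :=
    card_eq_half inf_le_left (n := 8) h.card (h.card_le le_rfl hx) hy (fun h1 =>
      hxy (Subgroup.mem_centralizer_singleton_iff.1 (Subgroup.mem_inf.1 h1).2).symm)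
  have hW4 : Nat.card W = 4 :=
    card_eq_half inf_le_left (n := 4) hA (h.card_le inf_le_left hy)
      (Subgroup.mem_inf.2 ⟨hx, Subgroup.mem_centralizer_singleton_iff.2 rfl⟩) (fun h1 =>
      hxy (Subgroup.mem_centralizer_singleton_iff.1 (Subgroup.mem_inf.1 h1).2))
  have hmemW : ∀ {w : G}, w ∈ W ↔ w ∈ P ∧ w * x = x * w ∧ w * y = y * w := by
    intro w
    rw [hW, Subgroup.mem_inf, Subgroup.mem_inf, Subgroup.mem_centralizer_singleton_iff,
      Subgroup.mem_centralizer_singleton_iff, and_assoc]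
  -- `W` is abelian
  have hWab : ∀ w ∈ W, ∀ w' ∈ W, w * w' = w' * w := by
    intro w hw w' hw'
    have hc : Nat.card W = 2 ^ 2 := hW4
    have : Fact (Nat.Prime 2) := ⟨Nat.prime_two⟩
    have h1 := (IsPGroup.isMulCommutative_of_card_eq_prime_sq hc)
    exact congrArg Subtype.val (h1.is_comm.comm (⟨w, hw⟩ : W) ⟨w', hw'⟩)
  -- `W` is central
  have hWc : ∀ w ∈ W, ∀ g ∈ P, w * g = g * w := by
    intro w hw g hg
    obtain ⟨hwP, hwx, hwy⟩ := hmemW.1 hw
    -- adjust `g`
    obtain ⟨g', hg', hgg⟩ : ∃ g' ∈ W, (w * g' = g' * w → w * g = g * w) := by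
      by_cases h1 : g * x = x * g <;> by_cases h2 : g * y = y * g
      · exact ⟨g, hmemW.2 ⟨hg, h1, h2⟩, id⟩
      · -- `x⁻¹ g`
        refine ⟨x⁻¹ * g, hmemW.2 ⟨P.mul_mem (P.inv_mem hx) hg, ?_, ?_⟩, fun h3 => ?_⟩
        · rw [mul_assoc, h1, inv_mul_cancel_left, mul_inv_cancel_left]
        · exact h.comm_inv_mul hy hx hg hxy h2
        · have h4 : w * g = x * (w * (x⁻¹ * g)) := by
            rw [← mul_assoc x, ← hwx]; group
          rw [h4, h3]; group
      · -- `y⁻¹ g`
        refine ⟨y⁻¹ * g, hmemW.2 ⟨P.mul_mem (P.inv_mem hy) hg, ?_, ?_⟩, fun h3 => ?_⟩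
        · exact h.comm_inv_mul hx hy hg (Ne.symm hxy) h1
        · rw [mul_assoc, h2, inv_mul_cancel_left, mul_inv_cancel_left]
        · have h4 : w * g = y * (w * (y⁻¹ * g)) := by
            rw [← mul_assoc y, ← hwy]; group
          rw [h4, h3]; group
      · -- `(x y)⁻¹ g`
        have h5 : (x * y) * x ≠ x * (x * y) := by
          intro h6
          apply hxy
          have h7 : x * (y * x) = x * (x * y) := by rw [← mul_assoc, h6]
          exact (mul_left_cancel h7).symm
        have h6 : (x * y) * y ≠ y * (x * y) := by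
          intro h7
          apply hxy
          have h8 : x * y * y = y * x * y := by rw [h7, mul_assoc]
          exact mul_right_cancel h8
        refine ⟨(x * y)⁻¹ * g, hmemW.2 ⟨P.mul_mem (P.inv_mem (P.mul_mem hx hy)) hg, ?_, ?_⟩,
          fun h3 => ?_⟩
        · exact h.comm_inv_mul hx (P.mul_mem hx hy) hg h5 h1
        · exact h.comm_inv_mul hy (P.mul_mem hx hy) hg h6 h2
        · have h7 : w * (x * y) = x * y * w := by
            rw [← mul_assoc, hwx, mul_assoc, hwy, mul_assoc]
          have h4 : w * g = (x * y) * (w * ((x * y)⁻¹ * g)) := by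
            rw [← mul_assoc (x * y), ← h7]; group
          rw [h4, h3]; group
    exact hgg (hWab w hw g' hg')
  have hzW : z ∈ W := hmemW.2 ⟨h.mem, h.z_comm hx, h.z_comm hy⟩
  -- an element outside of `{1, z}`
  obtain ⟨c, hc, hc1, hcz⟩ : ∃ c ∈ W, c ≠ 1 ∧ c ≠ z := by
    by_contra hcon
    push Not at hcon
    have h1 : (W : Set G) ⊆ (({1, z} : Finset G) : Set G) := by
      intro w hw
      simp only [Finset.coe_insert, Finset.coe_singleton, Set.mem_insert_iff,
        Set.mem_singleton_iff]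
      by_cases hw1 : w = 1
      · exact Or.inl hw1
      · exact Or.inr (hcon w hw hw1)
    have h2 := Set.ncard_le_ncard h1 (Finset.finite_toSet _)
    rw [Set.ncard_coe_finset] at h2
    have h3 : (W : Set G).ncard = 4 := hW4
    have h4 := Finset.card_le_two (a := (1 : G)) (b := z)
    omega
  obtain ⟨hcP, -, -⟩ := hmemW.1 hc
  refine ⟨c, hcP, hWc c hc, hc1, hcz, fun w hw hwc => ?_⟩
  have hwW : w ∈ W := hmemW.2 ⟨hw, hwc x hx, hwc y hy⟩
  by_contra hcon
  push Not at hcon
  obtain ⟨n1, n2, n3, n4⟩ := hcon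
  have hcz' : c * z ≠ 1 := by
    intro h1
    apply hcz
    rw [← h.z_inv]
    exact eq_inv_of_mul_eq_one_left h1
  have h1 : (({1, z, c, c * z, w} : Finset G) : Set G) ⊆ (W : Set G) := by
    intro v hv
    simp only [Finset.coe_insert, Finset.coe_singleton, Set.mem_insert_iff,
      Set.mem_singleton_iff] at hv
    rcases hv with rfl | rfl | rfl | rfl | rfl
    · exact W.one_mem
    · exact hzW
    · exact hc
    · exact W.mul_mem hc hzW
    · exact hwW
  have h2 := Set.ncard_le_ncard h1 (Set.toFinite _)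
  rw [Set.ncard_coe_finset] at h2
  have h3 : (W : Set G).ncard = 4 := hW4
  have h4 : ({1, z, c, c * z, w} : Finset G).card = 5 := by
    rw [Finset.card_insert_of_notMem, Finset.card_insert_of_notMem, Finset.card_insert_of_notMem,
      Finset.card_insert_of_notMem, Finset.card_singleton]
    · rw [Finset.mem_singleton]; exact Ne.symm n4
    · simp only [Finset.mem_insert, Finset.mem_singleton, not_or]
      exact ⟨fun h5 => h.ne (left_eq_mul.1 h5), Ne.symm n3⟩
    · simp only [Finset.mem_insert, Finset.mem_singleton, not_or]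
      exact ⟨Ne.symm hcz, fun h5 => hc1 (right_eq_mul.1 h5), Ne.symm n2⟩
    · simp only [Finset.mem_insert, Finset.mem_singleton, not_or]
      exact ⟨Ne.symm h.ne, Ne.symm hc1, Ne.symm hcz', Ne.symm n1⟩
  omega

/-- An element of odd order centralizing a subgroup of index at most two. -/
theorem IsGe.step (h : IsGe P z) {E : Subgroup G} (hE : E ≤ P) {g : G}
    (hg : ∀ e ∈ E, g * e * g⁻¹ ∈ E) (hodd : ¬ 2 ∣ orderOf g)
    (hle : Nat.card E ≤ 2 * Nat.card (E ⊓ Subgroup.centralizer ({g} : Set G) : Subgroup G)) :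
    ∀ e ∈ E, e * g = g * e := by
  intro e he
  by_contra hne
  set F : Subgroup G := E ⊓ Subgroup.centralizer ({g} : Set G) with hF
  have hmemF : ∀ {w : G}, w ∈ F ↔ w ∈ E ∧ w * g = g * w := by
    intro w
    rw [hF, Subgroup.mem_inf, Subgroup.mem_centralizer_singleton_iff]
  have heF : e ∉ F := fun h1 => hne (hmemF.1 h1).2
  have hFE : F ≤ E := inf_le_left
  -- index two
  have hidx : (F.subgroupOf E).index = 2 := by
    have h1 := Subgroup.card_mul_index (F.subgroupOf E)
    rw [Nat.card_congr (Subgroup.subgroupOfEquivOfLe hFE).toEquiv] at h1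
    have h2 : (F.subgroupOf E).index ≠ 1 := by
      intro h3
      rw [Subgroup.index_eq_one] at h3
      apply heF
      have h4 : (⟨e, he⟩ : E) ∈ F.subgroupOf E := by rw [h3]; exact Subgroup.mem_top _
      exact Subgroup.mem_subgroupOf.1 h4
    have h3 : (F.subgroupOf E).index ≠ 0 := Subgroup.index_ne_zero_of_finite
    have h4 : 0 < Nat.card F := Nat.card_pos
    by_contra h5
    have h6 : 3 ≤ (F.subgroupOf E).index := by omega
    have : 2 * Nat.card F < Nat.card F * (F.subgroupOf E).index := by nlinarith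
    omega
  have hgeF : g * e * g⁻¹ ∉ F := by
    intro h1
    apply heF
    have h2 := (hmemF.1 h1).2
    refine hmemF.2 ⟨he, ?_⟩
    have h3 : g * e = g * (g * e * g⁻¹) := by rw [← h2]; group
    have h4 : e = g * e * g⁻¹ := mul_left_cancel h3
    conv_lhs => rw [h4]
    group
  set f : G := e⁻¹ * (g * e * g⁻¹) with hf
  have hfF : f ∈ F := by
    have h1 := (Subgroup.mul_mem_iff_of_index_two hidx (a := ⟨e⁻¹, E.inv_mem he⟩)
      (b := ⟨g * e * g⁻¹, hg e he⟩)).2 (by
        rw [Subgroup.mem_subgroupOf, Subgroup.mem_subgroupOf]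
        exact ⟨fun h1 => absurd (by simpa using F.inv_mem h1) heF, fun h1 => absurd h1 hgeF⟩)
    exact h1
  obtain ⟨hfE, hfg⟩ := hmemF.1 hfF
  have hef : g * e * g⁻¹ = e * f := by rw [hf]; group
  have hpow : ∀ n : ℕ, g ^ n * e * (g ^ n)⁻¹ = e * f ^ n := by
    intro n
    induction n with
    | zero => simp
    | succ n ih =>
      have h1 : g ^ (n + 1) * e * (g ^ (n + 1))⁻¹ = g * (g ^ n * e * (g ^ n)⁻¹) * g⁻¹ := by
        rw [pow_succ']; group
      have h2 : g * f ^ n * g⁻¹ = f ^ n := by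
        have h3 : Commute g (f ^ n) := (show Commute g f from hfg.symm).pow_right n
        rw [h3.eq, mul_inv_cancel_right]
      calc g ^ (n + 1) * e * (g ^ (n + 1))⁻¹ = (g * e * g⁻¹) * (g * f ^ n * g⁻¹) := by
            rw [h1, ih]; group
        _ = e * f ^ (n + 1) := by rw [h2, hef, pow_succ', mul_assoc]
  have h1 := hpow (orderOf g)
  rw [pow_orderOf_eq_one, one_mul, inv_one, mul_one, left_eq_mul] at h1
  have h2 : f ^ 4 = 1 := h.pow_four (hE hfE)
  have h3 : orderOf f ∣ Nat.gcd (orderOf g) 4 :=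
    Nat.dvd_gcd (orderOf_dvd_of_pow_eq_one h1) (orderOf_dvd_of_pow_eq_one h2)
  have h4 : Nat.gcd (orderOf g) 4 = 1 := by
    have h5 : Nat.Coprime (orderOf g) 2 :=
      ((Nat.Prime.coprime_iff_not_dvd Nat.prime_two).2 hodd).symm
    exact Nat.Coprime.pow_right 2 h5
  rw [h4, Nat.dvd_one, orderOf_eq_one_iff] at h3
  rw [h3, mul_one] at hef
  apply hne
  conv_lhs => rw [← hef]
  group

end Cfsg.Agent.H608.F5
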