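import Mathlib
import Cfsg.Agent.H608.F5Grp
import Cfsg.Agent.H608.F5Ctrl
import Cfsg.Agent.H626.RealOddD
import Cfsg.Agent.S5233

/-!
# The groups `Q₈ × C₂` and `Q₈ * C₄`: automorphisms and fusion systems

* `IsGe.mem_centralizer`: elements of odd order normalizing a subgroup `E` of `P` and fixing a
  noncentral element of `P` contained in `E` centralize `E`;
* `IsGe.isNormal`: `P` is normal in every saturated fusion system on `P`;
* `IsGe.stab_comm`: the stabilizer of a maximal pair `(P, e)` centralizes the centre of `P`.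
-/

set_option autoImplicit false
set_option linter.unusedSectionVars false

open Cfsg

namespace Cfsg.Agent.H608.F5

section grp

variable {G : Type*} [Group G] [Finite G] {P : Subgroup G} {z : G}

theorem IsGe.mem_centralizer (h : IsGe P z) {E : Subgroup G} (hE : E ≤ P) {t : G} (ht : t ∈ E)
    (htn : ¬ ∀ y ∈ P, t * y = y * t) {g : G} (hg : g ∈ Subgroup.normalizer (E : Set G))
    (hgt : g * t = t * g) (hodd : ¬ 2 ∣ orderOf g) : g ∈ Subgroup.centralizer (E : Set G) := by
  have htP := hE ht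
  have hgE : ∀ e ∈ E, g * e * g⁻¹ ∈ E := fun e he => (Subgroup.mem_normalizer_iff.1 hg e).1 he
  set E₁ : Subgroup G := E ⊓ Subgroup.centralizer ({t} : Set G) with hE₁
  have hmem : ∀ {w : G}, w ∈ E₁ ↔ w ∈ E ∧ w * t = t * w := by
    intro w
    rw [hE₁, Subgroup.mem_inf, Subgroup.mem_centralizer_singleton_iff]
  have hE₁E : E₁ ≤ E := inf_le_left
  have hE₁P : E₁ ≤ P := hE₁E.trans hE
  have hgE₁ : ∀ e ∈ E₁, g * e * g⁻¹ ∈ E₁ := by
    intro e he
    obtain ⟨he1, he2⟩ := hmem.1 he
    refine hmem.2 ⟨hgE e he1, ?_⟩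
    have h2 : g⁻¹ * t = t * g⁻¹ := by
      rw [inv_mul_eq_iff_eq_mul, ← mul_assoc, hgt, mul_inv_cancel_right]
    calc g * e * g⁻¹ * t = g * e * (g⁻¹ * t) := by group
      _ = g * (e * t) * g⁻¹ := by rw [h2]; group
      _ = g * t * e * g⁻¹ := by rw [he2]; group
      _ = t * (g * e * g⁻¹) := by rw [hgt]; group
  have ht1 : t ≠ 1 := by
    rintro rfl
    exact htn fun y _ => by rw [one_mul, mul_one]
  have htz : t ≠ z := by
    rintro rfl
    exact htn fun y hy => h.z_comm hy
  have htE₁ : t ∈ E₁ := hmem.2 ⟨ht, rfl⟩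
  -- the order of `E₁`
  have hA : Nat.card (P ⊓ Subgroup.centralizer ({t} : Set G) : Subgroup G) = 8 := by
    push Not at htn
    obtain ⟨y, hy, hty⟩ := htn
    exact card_eq_half inf_le_left (n := 8) h.card (h.card_le le_rfl htP) hy (fun h1 =>
      hty (Subgroup.mem_centralizer_singleton_iff.1 (Subgroup.mem_inf.1 h1).2).symm)
  have hE₁A : E₁ ≤ P ⊓ Subgroup.centralizer ({t} : Set G) := inf_le_inf_right _ hE
  have hdvd : Nat.card E₁ ∣ 8 := by
    rw [← hA]; exact Subgroup.card_dvd_of_le hE₁A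
  -- `g` centralizes `E₁`
  have hmemF : ∀ {w : G}, w ∈ E₁ ⊓ Subgroup.centralizer ({g} : Set G) ↔ w ∈ E₁ ∧ w * g = g * w := by
    intro w
    rw [Subgroup.mem_inf, Subgroup.mem_centralizer_singleton_iff]
  have h1 : ∀ e ∈ E₁, e * g = g * e := by
    refine h.step hE₁P hgE₁ hodd ?_
    have htF : t ∈ E₁ ⊓ Subgroup.centralizer ({g} : Set G) := hmemF.2 ⟨htE₁, hgt.symm⟩
    by_cases h8 : Nat.card E₁ = 8
    · -- `z` is fixed
      obtain ⟨e, he, hee⟩ := h.no8 E₁ hE₁P h8
      have hez := (h.sq e (hE₁P he)).resolve_left hee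
      have hzE : z ∈ E₁ := by rw [← hez]; exact E₁.mul_mem he he
      have hgz : g * z * g⁻¹ = z := by
        have h2 : (g * e * g⁻¹) * (g * e * g⁻¹) = g * z * g⁻¹ := by rw [← hez]; group
        have h3 := h.sq _ (hE₁P (hgE₁ e he))
        rw [h2] at h3
        refine h3.resolve_left fun h4 => h.ne ?_
        rwa [conj_eq_one_iff] at h4
      have hzF : z ∈ E₁ ⊓ Subgroup.centralizer ({g} : Set G) := by
        refine hmemF.2 ⟨hzE, ?_⟩
        conv_lhs => rw [← hgz]
        group
      have h4 : 3 ≤ Nat.card (E₁ ⊓ Subgroup.centralizer ({g} : Set G) : Subgroup G) := by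
        classical
        have h5 : (({1, z, t} : Finset G) : Set G) ⊆
            ((E₁ ⊓ Subgroup.centralizer ({g} : Set G) : Subgroup G) : Set G) := by
          intro v hv
          simp only [Finset.coe_insert, Finset.coe_singleton, Set.mem_insert_iff,
            Set.mem_singleton_iff] at hv
          rcases hv with rfl | rfl | rfl
          · exact Subgroup.one_mem _
          · exact hzF
          · exact htF
        have h6 := Set.ncard_le_ncard h5 (Set.toFinite _)
        rw [Set.ncard_coe_finset, Finset.card_insert_of_notMem, Finset.card_insert_of_notMem,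
          Finset.card_singleton] at h6
        · exact h6
        · rw [Finset.mem_singleton]; exact Ne.symm htz
        · simp only [Finset.mem_insert, Finset.mem_singleton, not_or]
          exact ⟨Ne.symm h.ne, Ne.symm ht1⟩
      have h5 : Nat.card (E₁ ⊓ Subgroup.centralizer ({g} : Set G) : Subgroup G) ∣ 8 := by
        rw [← h8]; exact Subgroup.card_dvd_of_le inf_le_left
      have h6 := Nat.le_of_dvd (by norm_num) h5
      rw [h8]
      generalize Nat.card (E₁ ⊓ Subgroup.centralizer ({g} : Set G) : Subgroup G) = n at *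
      interval_cases n
      · omega
      · omega
      · omega
      · omega
      · omega
      · omega
    · have h2 : 2 ≤ Nat.card (E₁ ⊓ Subgroup.centralizer ({g} : Set G) : Subgroup G) := by
        have h3 : Nontrivial (E₁ ⊓ Subgroup.centralizer ({g} : Set G) : Subgroup G) :=
          ⟨⟨⟨t, htF⟩, 1, fun h4 => ht1 (congrArg Subtype.val h4)⟩⟩
        exact Finite.one_lt_card
      have h3 := Nat.le_of_dvd (by norm_num) hdvd
      have h4 : Nat.card E₁ ≤ 4 := by
        generalize Nat.card E₁ = n at *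
        interval_cases n <;> omega
      omega
  -- `g` centralizes `E`
  have h2 : ∀ e ∈ E, e * g = g * e := by
    refine h.step hE hgE hodd ((h.card_le hE htP).trans (Nat.mul_le_mul_left 2 ?_))
    refine Nat.card_le_card_of_injective (fun w : (E ⊓ Subgroup.centralizer ({t} : Set G) :
      Subgroup G) => (⟨(w : G), ?_⟩ : (E ⊓ Subgroup.centralizer ({g} : Set G) : Subgroup G))) ?_
    · refine Subgroup.mem_inf.2 ⟨hE₁E w.2, ?_⟩
      rw [Subgroup.mem_centralizer_singleton_iff]
      exact h1 w w.2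
    · intro w w' hww
      exact Subtype.ext (congrArg (fun v : (E ⊓ Subgroup.centralizer ({g} : Set G) :
        Subgroup G) => (v : G)) hww)
  rw [Subgroup.mem_centralizer_iff]
  exact h2

/-- Elements normalizing `P` centralize `z`. -/
theorem IsGe.conj_z (h : IsGe P z) {s : G} (hs : s ∈ Subgroup.normalizer (P : Set G)) :
    s * z * s⁻¹ = z := by
  have hsP : ∀ e ∈ P, s * e * s⁻¹ ∈ P := fun e he => (Subgroup.mem_normalizer_iff.1 hs e).1 he
  obtain ⟨x, hx, y, hy, hxy⟩ := h.na
  have h1 := (h.comm x hx y hy).resolve_left hxy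
  have h2 := h.comm _ (hsP x hx) _ (hsP y hy)
  have h3 : s * x * s⁻¹ * (s * y * s⁻¹) = s * (x * y) * s⁻¹ := by group
  have h4 : s * y * s⁻¹ * (s * x * s⁻¹) = s * (y * x) * s⁻¹ := by group
  rw [h3, h4] at h2
  rcases h2 with h2 | h2
  · exact absurd (mul_left_cancel (mul_right_cancel h2)) hxy
  · rw [h1] at h2
    have h5 : s * (z * (y * x)) * s⁻¹ = (s * z * s⁻¹) * (s * (y * x) * s⁻¹) := by group
    rw [h5] at h2
    exact mul_right_cancel h2

theorem IsGe.conj_c (h : IsGe P z) {c : G} (hc : c ∈ P) (hcc : ∀ y ∈ P, c * y = y * c)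
    (hc1 : c ≠ 1) (hcz : c ≠ z)
    (hcen : ∀ w ∈ P, (∀ y ∈ P, w * y = y * w) → w = 1 ∨ w = z ∨ w = c ∨ w = c * z) {s : G}
    (hs : s ∈ Subgroup.normalizer (P : Set G)) : s * c * s⁻¹ = c ∨ s * c * s⁻¹ = c * z := by
  have hsP : ∀ e ∈ P, s * e * s⁻¹ ∈ P := fun e he => (Subgroup.mem_normalizer_iff.1 hs e).1 he
  have hsP' : ∀ e ∈ P, s⁻¹ * e * s ∈ P := by
    intro e he
    have h1 := (Subgroup.mem_normalizer_iff.1 (Subgroup.inv_mem _ hs) e).1 he
    rwa [inv_inv] at h1
  rcases hcen _ (hsP c hc) (fun y hy => by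
    have h1 := hcc _ (hsP' y hy)
    calc s * c * s⁻¹ * y = s * (c * (s⁻¹ * y * s)) * s⁻¹ := by group
      _ = y * (s * c * s⁻¹) := by rw [h1]; group) with h1 | h1 | h1
  · exact absurd (conj_eq_one_iff.1 h1) hc1
  · exfalso
    apply hcz
    have h2 := h.conj_z hs
    rw [← h2] at h1
    exact mul_left_cancel (mul_right_cancel h1)
  · exact h1

theorem IsGe.isPGroup (h : IsGe P z) : IsPGroup 2 P := IsPGroup.of_card (n := 4) (by
  rw [h.card]; norm_num)

open scoped commutatorElement in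
theorem IsGe.card_commutator (h : IsGe P z) :
    commutator P = Subgroup.zpowers (⟨z, h.mem⟩ : P) ∧ Nat.card (commutator P) = 2 := by
  have hord : orderOf (⟨z, h.mem⟩ : P) = 2 := by
    refine orderOf_eq_prime ?_ ?_
    · rw [pow_two]; exact Subtype.ext h.zz
    · intro h1; exact h.ne (congrArg Subtype.val h1)
  have h1 : commutator P = Subgroup.zpowers (⟨z, h.mem⟩ : P) := by
    apply le_antisymm
    · rw [commutator_def, Subgroup.commutator_le]
      rintro ⟨x, hx⟩ - ⟨y, hy⟩ -
      rw [commutatorElement_def]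
      rcases h.comm x hx y hy with h2 | h2
      · have h3 : (⟨x, hx⟩ : P) * ⟨y, hy⟩ * (⟨x, hx⟩)⁻¹ * (⟨y, hy⟩)⁻¹ = 1 := by
          apply Subtype.ext
          change x * y * x⁻¹ * y⁻¹ = 1
          rw [h2]; group
        rw [h3]; exact Subgroup.one_mem _
      · have h3 : (⟨x, hx⟩ : P) * ⟨y, hy⟩ * (⟨x, hx⟩)⁻¹ * (⟨y, hy⟩)⁻¹ = ⟨z, h.mem⟩ := by
          apply Subtype.ext
          change x * y * x⁻¹ * y⁻¹ = z
          rw [h2]; group
        rw [h3]; exact Subgroup.mem_zpowers _
    · rw [Subgroup.zpowers_le, commutator_def]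
      obtain ⟨x, hx, y, hy, hxy⟩ := h.na
      have h2 := (h.comm x hx y hy).resolve_left hxy
      have h3 : (⟨z, h.mem⟩ : P) = ⁅(⟨x, hx⟩ : P), ⟨y, hy⟩⁆ := by
        rw [commutatorElement_def]
        apply Subtype.ext
        change z = x * y * x⁻¹ * y⁻¹
        rw [h2]; group
      rw [h3]
      exact Subgroup.commutator_mem_commutator (Subgroup.mem_top _) (Subgroup.mem_top _)
  refine ⟨h1, ?_⟩
  rw [h1, Nat.card_zpowers, hord]

theorem IsGe.frattini_eq (h : IsGe P z) : frattini P = commutator P := by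
  symm
  rw [Cfsg.Agent.H626.commutator_eq_frattini_iff h.isPGroup]
  intro x
  rw [h.card_commutator.1, pow_two]
  rcases h.sq x x.2 with h1 | h1
  · have h2 : x * x = 1 := Subtype.ext h1
    rw [h2]; exact Subgroup.one_mem _
  · have h2 : x * x = ⟨z, h.mem⟩ := Subtype.ext h1
    rw [h2]; exact Subgroup.mem_zpowers _

/-- A Klein four group in `D₈`. -/
def kl : Subgroup (DihedralGroup 4) where
  carrier := {x | x = DihedralGroup.r 0 ∨ x = DihedralGroup.r 2 ∨ x = DihedralGroup.sr 0 ∨
    x = DihedralGroup.sr 2}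
  one_mem' := Or.inl rfl
  mul_mem' := by
    intro a b ha hb
    simp only [Set.mem_ofPred_eq] at *
    revert a b
    decide
  inv_mem' := by
    intro a ha
    simp only [Set.mem_ofPred_eq] at *
    revert a
    decide

theorem card_kl : Nat.card kl = 4 := by
  have : DecidablePred (· ∈ kl) := fun x => by
    change Decidable (x = DihedralGroup.r 0 ∨ x = DihedralGroup.r 2 ∨ x = DihedralGroup.sr 0 ∨
      x = DihedralGroup.sr 2)
    infer_instance
  have h1 : (kl : Set (DihedralGroup 4)) = (({DihedralGroup.r 0, DihedralGroup.r 2,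
      DihedralGroup.sr 0, DihedralGroup.sr 2} : Finset (DihedralGroup 4)) :
      Set (DihedralGroup 4)) := by
    ext x
    simp only [Finset.coe_insert, Finset.coe_singleton, Set.mem_insert_iff,
      Set.mem_singleton_iff, SetLike.mem_coe]
    rfl
  change (kl : Set (DihedralGroup 4)).ncard = 4
  rw [h1, Set.ncard_coe_finset]
  rfl

theorem sq_kl {x : DihedralGroup 4} (hx : x ∈ kl) : x * x = 1 := by
  have hx' : x = DihedralGroup.r 0 ∨ x = DihedralGroup.r 2 ∨ x = DihedralGroup.sr 0 ∨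
    x = DihedralGroup.sr 2 := hx
  rcases hx' with rfl | rfl | rfl | rfl <;> rfl

theorem IsGe.not_dihedral (h : IsGe P z) : ¬ ∃ (A : Type) (_ : CommGroup A),
    (∀ a : A, a ^ 2 = 1) ∧ Nonempty (P ≃* DihedralGroup 4 × A) := by
  rintro ⟨A, _, hA, ⟨e⟩⟩
  have hfin := h.finite
  have h1 : Nat.card P = Nat.card (DihedralGroup 4) * Nat.card A := by
    rw [Nat.card_congr e.toEquiv, Nat.card_prod]
  rw [h.card, DihedralGroup.nat_card] at h1
  have h2 : Nat.card A = 2 := by omega
  set E : Subgroup G := ((kl.prod (⊤ : Subgroup A)).map e.symm.toMonoidHom).map P.subtype with hE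
  have hEP : E ≤ P := by
    rintro _ ⟨w, -, rfl⟩
    exact w.2
  have hcard : Nat.card E = 8 := by
    have h3 : Nat.card E = Nat.card (kl.prod (⊤ : Subgroup A)) := by
      rw [hE]
      rw [← Nat.card_congr (Subgroup.equivMapOfInjective _ P.subtype
        P.subtype_injective).toEquiv]
      exact (Nat.card_congr (Subgroup.equivMapOfInjective _ e.symm.toMonoidHom
        e.symm.injective).toEquiv).symm
    rw [h3, Nat.card_congr (Subgroup.prodEquiv kl (⊤ : Subgroup A)).toEquiv, Nat.card_prod,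
      card_kl, Subgroup.card_top, h2]
  obtain ⟨x, hx, hxx⟩ := h.no8 E hEP hcard
  obtain ⟨w, ⟨⟨d, b⟩, ⟨hd, -⟩, rfl⟩, rfl⟩ := hx
  apply hxx
  change ((e.symm (d, b) * e.symm (d, b) : P) : G) = 1
  rw [← map_mul, Prod.mk_mul_mk, sq_kl hd, ← pow_two, hA, ← Prod.one_eq_mk, map_one]
  rfl

/-- `P` is normal in every saturated fusion system on `P`. -/
theorem IsGe.isNormal (h : IsGe P z) (F : FusionSystem P) (hF : F.IsSaturated 2) :
    F.IsNormal P := by
  have : Fact (Nat.Prime 2) := ⟨Nat.prime_two⟩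
  have := h.finite
  refine Cfsg.Agent.S5233.result 2 h.isPGroup F hF P ⟨le_rfl, fun R hR φ hφ x =>
    (F.le_of_mem hφ).2 x⟩ ⟨h.frattini_eq, h.card_commutator.2⟩ (fun _ => h.not_dihedral)
    (fun h2 => absurd rfl h2)

end grp

section stab

open Cfsg.Agent.Blocks.Blau Cfsg.Agent.Blocks.Local Cfsg.Agent.Characters
open Cfsg.Agent.H613.SubSys Cfsg.Agent.H613.SubFus
open Cfsg.Agent.H639 Cfsg.Agent.H649 Cfsg.Agent.H651
open Cfsg.Agent.H645.FusCount (stab mem_stab)

universe u

variable {G : Type u} [Group G] [Finite G] {M : Ideal AlgInt} {B : Set (IrrCharacter G)}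
  {a : BrauerPairIdx G} {z : G}

/-- The stabilizer centralizes the centre of `P`. -/
theorem IsGe.stab_comm (h : IsGe a.1 z) (hM : IsPModular 2 M)
    (hmax : IsMaximalBrauerPair 2 M B a.1 a.2) {c : G} (hc : c ∈ a.1)
    (hcc : ∀ y ∈ a.1, c * y = y * c) (hc1 : c ≠ 1) (hcz : c ≠ z)
    (hcen : ∀ w ∈ a.1, (∀ y ∈ a.1, w * y = y * w) → w = 1 ∨ w = z ∨ w = c ∨ w = c * z) {s : G}
    (hs : s ∈ stab a) : s * c * s⁻¹ = c := by
  have : Fact (Nat.Prime 2) := ⟨Nat.prime_two⟩
  have hconj : ∀ s ∈ stab a, s * c * s⁻¹ = c ∨ s * c * s⁻¹ = c * z := fun s hs =>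
    h.conj_c hc hcc hc1 hcz hcen (stab_le_normalizer hs)
  set T : Subgroup G := stab a ⊓ Subgroup.centralizer ({c} : Set G) with hT
  have hmemT : ∀ {w : G}, w ∈ T ↔ w ∈ stab a ∧ w * c * w⁻¹ = c := by
    intro w
    rw [hT, Subgroup.mem_inf, Subgroup.mem_centralizer_singleton_iff, mul_inv_eq_iff_eq_mul]
  have hTS : T ≤ stab a := inf_le_left
  have hKT : a.1 ⊔ Subgroup.centralizer (a.1 : Set G) ≤ T := by
    refine sup_le (fun x hx => hmemT.2 ⟨self_le_stab hM hmax hx, ?_⟩)
      (fun x hx => hmemT.2 ⟨centralizer_le_stab hM hmax hx, ?_⟩)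
    · rw [← hcc x hx, mul_inv_cancel_right]
    · rw [← Subgroup.mem_centralizer_iff.1 hx c hc, mul_inv_cancel_right]
  have h1 : ¬ 2 ∣ T.relIndex (stab a) := by
    intro h2
    apply not_dvd_relIndex_stab hM hmax
    rw [← Subgroup.relIndex_mul_relIndex _ _ _ hKT hTS]
    exact Dvd.dvd.mul_left h2 _
  have h2 : Nat.card (stab a) ≤ 2 * Nat.card T := by
    refine card_le_two_mul hTS fun x hx y hy hx' hy' => ?_
    have h3 : x * c * x⁻¹ = c * z :=
      (hconj x hx).resolve_left fun h4 => hx' (hmemT.2 ⟨hx, h4⟩)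
    have h4 : y * c * y⁻¹ = c * z :=
      (hconj y hy).resolve_left fun h4 => hy' (hmemT.2 ⟨hy, h4⟩)
    refine hmemT.2 ⟨(stab a).mul_mem ((stab a).inv_mem hx) hy, ?_⟩
    calc x⁻¹ * y * c * (x⁻¹ * y)⁻¹ = x⁻¹ * (y * c * y⁻¹) * x := by group
      _ = x⁻¹ * (x * c * x⁻¹) * x := by rw [h4, h3]
      _ = c := by group
  have h3 : T.relIndex (stab a) = 1 := by
    have h4 := Subgroup.card_mul_index (T.subgroupOf (stab a))
    rw [Nat.card_congr (Subgroup.subgroupOfEquivOfLe hTS).toEquiv] at h4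
    change Nat.card T * T.relIndex (stab a) = _ at h4
    have h5 : 0 < Nat.card T := Nat.card_pos
    have h6 : T.relIndex (stab a) ≤ 2 := by
      by_contra h7
      push Not at h7
      have : 2 * Nat.card T < Nat.card T * T.relIndex (stab a) := by nlinarith
      omega
    have h7 : 0 < Nat.card (stab a) := Nat.card_pos
    have h8 : T.relIndex (stab a) ≠ 0 := by
      intro h9
      rw [h9, mul_zero] at h4
      omega
    have h9 : T.relIndex (stab a) ≠ 2 := fun h10 => h1 (by rw [h10])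
    omega
  exact (hmemT.1 (Subgroup.relIndex_eq_one.1 h3 hs)).2

end stab

end Cfsg.Agent.H608.F5
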