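import Mathlib
import Cfsg.Agent.H608.F5Grp2
import Cfsg.Agent.H602.Small.Trace
import Cfsg.Agent.H632.AbelEight
import Cfsg.Agent.H617.AbelRank
import Cfsg.Agent.H619.TameFin
import Cfsg.Agent.H658.Domin
import Cfsg.Agent.S4698

/-!
# The ranks of the local blocks for the defect groups `Q₈ × C₂` and `Q₈ * C₄`

`a` is a maximal Brauer pair of the 2-block `B` with `IsGe a.1 z`.

* `rank_noncentral`: `l(b_u) = 1` for noncentral `u`;
* `rank_c`: `l(b_c) ≤ 3` for central `c ≠ 1, z`;
* `rank_z`: `l(b_z)` is 1 or 3.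
-/

set_option autoImplicit false
set_option linter.unusedSectionVars false

open Cfsg

namespace Cfsg.Agent.H608.F5

open Cfsg.Agent.Blocks.Blau Cfsg.Agent.Blocks.Local Cfsg.Agent.Characters
open Cfsg.Agent.H613.SubSys Cfsg.Agent.H613.SubFus
open Cfsg.Agent.H639 Cfsg.Agent.H649 Cfsg.Agent.H651
open Cfsg.Agent.H645.FusCount (stab mem_stab)
open Cfsg.Agent.H644 (isMaximalBrauerPair_of_isDefectGroup isDefectGroup_of_isMaximalBrauerPair)
open Cfsg.Agent.H644.CentralQuot (defl blockRank_defl isPBlock_defl)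
open Cfsg.Agent.H619.Tame (Cl rep mkCl rep_mem rep_ne isSys_rep IsTm)

universe u

section small

variable {G : Type u} [Group G] [Finite G] {M : Ideal AlgInt} {B : Set (IrrCharacter G)}

/-- A block with defect groups of order 1, 2 or 4 has at most three Brauer characters. -/
theorem rank_le_three_of_dvd_four (hM : IsPModular 2 M) (hB : IsPBlock M B) {D : Subgroup G}
    (hD : IsDefectGroup 2 M B D) (h4 : Nat.card D ∣ 4) : blockRank 2 B ≤ 3 := by
  have : Fact (Nat.Prime 2) := ⟨Nat.prime_two⟩
  have := isPrime_of_isPModular hM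
  have := Fintype.ofFinite G
  obtain ⟨e, he⟩ := exists_pair_of_isDefectGroup hM hB hD
  have hmax : IsMaximalBrauerPair 2 M B (⟨D, e⟩ : BrauerPairIdx G).1
    (⟨D, e⟩ : BrauerPairIdx G).2 := isMaximalBrauerPair_of_isDefectGroup hM he hD
  have h1 := Cfsg.Agent.H602.Small.pow_blockDefect_eq hM hmax
  have h2 : Nat.card (⟨D, e⟩ : BrauerPairIdx G).1 ≤ 4 := Nat.le_of_dvd (by norm_num) h4
  have h3 : blockDefect 2 B ≤ 2 := by
    by_contra h
    push Not at h
    have := Nat.pow_le_pow_right (show 0 < 2 by norm_num) h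
    omega
  have h5 := (Cfsg.Agent.S4698.result 2 M hM B hB _ rfl).1 h3
  rw [h1] at h5
  have h6 := (isSys_rep hM hmax).card_eq hM hB
  by_cases hD1 : Nat.card D = 1
  · have h7 : Nat.card (⟨D, e⟩ : BrauerPairIdx G).1 = 1 := hD1
    omega
  · -- a nontrivial element
    have h7 : Nontrivial D := by
      rw [← Finite.one_lt_card_iff_nontrivial]
      have : 0 < Nat.card D := Nat.card_pos
      omega
    obtain ⟨u, hu⟩ := exists_ne (1 : D)
    have hu' : (u : G) ≠ 1 := fun h => hu (Subtype.ext h)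
    let i : Cl M (⟨D, e⟩ : BrauerPairIdx G) := mkCl M _ (u : G) u.2 hu'
    have h8 : 1 ≤ blockRank 2 (bel 2 M (⟨D, e⟩ : BrauerPairIdx G) (rep i)).2 :=
      H613.RankPos.one_le_blockRank (Blocks.Basic.isPBlock_nonempty
        (isPBlock_bel hM hmax.1.1 (rep_mem i)))
    have h9 := Finset.single_le_sum (f := fun j : Cl M (⟨D, e⟩ : BrauerPairIdx G) =>
      blockRank 2 (bel 2 M (⟨D, e⟩ : BrauerPairIdx G) (rep j)).2)
      (fun _ _ => Nat.zero_le _) (Finset.mem_univ i)
    omega

/-- A block with defect groups of order eight and a nontrivial central 2-element has one or three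
Brauer characters. -/
theorem rank_of_central (hM : IsPModular 2 M) (hB : IsPBlock M B) {D : Subgroup G}
    (hD : IsDefectGroup 2 M B D) (h8 : Nat.card D = 8) {u : G} (hu : u ∈ D) (hu1 : u ≠ 1)
    (huc : u ∈ Subgroup.center G) : blockRank 2 B = 1 ∨ blockRank 2 B = 3 := by
  have : Fact (Nat.Prime 2) := ⟨Nat.prime_two⟩
  have := isPrime_of_isPModular hM
  have := Fintype.ofFinite G
  have hodd := Cfsg.Agent.H632.AbelEight.odd_rank_of_central hM hB hD h8 hu hu1 huc
  have hle : blockRank 2 B ≤ 3 := by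
    set U : Subgroup G := Subgroup.zpowers u with hU
    have hUc : U ≤ Subgroup.center G := by
      rw [hU, Subgroup.zpowers_le]
      exact huc
    have hUn : U.Normal := ⟨fun n hn g => by
      have h1 := Subgroup.mem_center_iff.1 (hUc hn) g
      rw [h1, mul_inv_cancel_right]
      exact hn⟩
    have hUD : U ≤ D := by
      rw [hU, Subgroup.zpowers_le]
      exact hu
    have hUp : IsPGroup 2 U := (Cfsg.Agent.H641.isPGroup_of_isDefectGroup hD).to_le hUD
    have h2 := Cfsg.Agent.H658.isDefectGroup_defl hM hUc hUp hB hD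
    rw [← blockRank_defl hM hUc hUp hB]
    refine rank_le_three_of_dvd_four hM (isPBlock_defl hM hUc hUp hB) h2.2 ?_
    -- the order of the quotient
    have h3 : Nat.card (D.map (QuotientGroup.mk' U)) = U.relIndex D := by
      rw [← Subgroup.relIndex_ker, QuotientGroup.ker_mk']
    have h5 : Nat.card U * U.relIndex D = 8 := by
      rw [← h8, Subgroup.relIndex, ← Subgroup.card_mul_index (U.subgroupOf D),
        Nat.card_congr (Subgroup.subgroupOfEquivOfLe hUD).toEquiv]
    have h6 : Nat.card U ≠ 1 := by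
      intro h6
      rw [hU, Nat.card_zpowers, orderOf_eq_one_iff] at h6
      exact hu1 h6
    rw [h3]
    have h7 : Nat.card U ∣ 8 := ⟨_, h5.symm⟩
    have h9 : Nat.card U ≤ 8 := Nat.le_of_dvd (by norm_num) h7
    generalize Nat.card U = n at *
    generalize U.relIndex D = k at *
    interval_cases n
    · omega
    · exact absurd rfl h6
    · exact ⟨1, by omega⟩
    · omega
    · exact ⟨2, by omega⟩
    · omega
    · omega
    · omega
    · exact ⟨4, by omega⟩
  obtain ⟨n, hn⟩ := hodd
  omega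

end small

section quot

variable {G : Type u} [Group G] [Finite G] {M : Ideal AlgInt} {B : Set (IrrCharacter G)}
  {a : BrauerPairIdx G}

theorem le_centralizer_zpowers {c : G} (hcc : ∀ y ∈ a.1, c * y = y * c) :
    a.1 ≤ Subgroup.centralizer ((Subgroup.zpowers c : Subgroup G) : Set G) := by
  intro y hy
  rw [H613.SubSys.centralizer_zpowers, Subgroup.mem_centralizer_singleton_iff]
  exact (hcc y hy).symm

/-- The block dominated by a block, for the quotient modulo a central subgroup of a defect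
group. -/
theorem exists_defl_of {C : Type u} [Group C] [Finite C] (hM : IsPModular 2 M)
    {f : Set (IrrCharacter C)} (hf : IsPBlock M f) {D : Subgroup C} (hD : IsDefectGroup 2 M f D)
    {U : Subgroup C} (hUc : U ≤ Subgroup.center C) (hUD : U ≤ D) :
    ∃ (K : Type u) (_ : Group K) (_ : Finite K) (b : Set (IrrCharacter K)) (d : BrauerPairIdx K)
      (ρ : C →* K), IsMaximalBrauerPair 2 M b d.1 d.2 ∧ blockRank 2 b = blockRank 2 f ∧
      Function.Surjective ρ ∧ (∀ x, ρ x = 1 ↔ x ∈ U) ∧ (∀ x, ρ x ∈ d.1 ↔ x ∈ D) := by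
  have : Fact (Nat.Prime 2) := ⟨Nat.prime_two⟩
  have := isPrime_of_isPModular hM
  have hUn : U.Normal := ⟨fun n hn g => by
    have h1 := Subgroup.mem_center_iff.1 (hUc hn) g
    rw [h1, mul_inv_cancel_right]
    exact hn⟩
  have := Fintype.ofFinite C
  have := Fintype.ofFinite (C ⧸ U)
  have hUp : IsPGroup 2 U := (Cfsg.Agent.H641.isPGroup_of_isDefectGroup hD).to_le hUD
  have h3 := Cfsg.Agent.H658.isDefectGroup_defl (U := U) hM hUc hUp hf hD
  have hb := isPBlock_defl (U := U) hM hUc hUp hf
  obtain ⟨e, he⟩ := exists_pair_of_isDefectGroup hM hb h3.2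
  have hmax' := isMaximalBrauerPair_of_isDefectGroup hM he h3.2
  refine ⟨C ⧸ U, inferInstance, inferInstance, defl U f,
    ⟨D.map (QuotientGroup.mk' U), e⟩, QuotientGroup.mk' U, hmax',
    blockRank_defl hM hUc hUp hf, QuotientGroup.mk'_surjective U, fun x => ?_, fun x => ?_⟩
  · rw [QuotientGroup.mk'_apply, QuotientGroup.eq_one_iff]
  · constructor
    · rintro ⟨y, hy, hyx⟩
      have h4 : y⁻¹ * x ∈ U := QuotientGroup.eq.1 hyx
      have h5 := D.mul_mem hy (hUD h4)
      rwa [mul_inv_cancel_left] at h5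
    · intro hx
      exact ⟨x, hx, rfl⟩

/-- The dominated block of the block at a central element of `a.1`. -/
theorem exists_defl (hM : IsPModular 2 M) (hmax : IsMaximalBrauerPair 2 M B a.1 a.2) {c : G}
    (hc : c ∈ a.1) (hcc : ∀ y ∈ a.1, c * y = y * c) :
    ∃ (K : Type u) (_ : Group K) (_ : Finite K) (b : Set (IrrCharacter K)) (d : BrauerPairIdx K)
      (ρ : Subgroup.centralizer ((Subgroup.zpowers c : Subgroup G) : Set G) →* K),
      IsMaximalBrauerPair 2 M b d.1 d.2 ∧ blockRank 2 b = blockRank 2 (bel 2 M a c).2 ∧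
      Function.Surjective ρ ∧ (∀ x, ρ x = 1 ↔ (x : G) ∈ Subgroup.zpowers c) ∧
      (∀ x, ρ x ∈ d.1 ↔ (x : G) ∈ a.1) := by
  have : Fact (Nat.Prime 2) := ⟨Nat.prime_two⟩
  have := isPrime_of_isPModular hM
  have := Fintype.ofFinite G
  have hPC := le_centralizer_zpowers hcc
  obtain ⟨a', h1, h2, -⟩ := H613.LocMono.exists_loc_max hM hmax
    (Q := Subgroup.zpowers c) (f := (bel 2 M a c).2)
    (isBrauerPairOf_bel hM hmax hc) (bel_le hM hmax.1.1 hc) hPC
  have := Fintype.ofFinite (Subgroup.centralizer ((Subgroup.zpowers c : Subgroup G) : Set G))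
  have hD := isDefectGroup_of_isMaximalBrauerPair hM h2
  rw [h1] at hD
  have hf : IsPBlock M (bel 2 M a c).2 := isPBlock_bel hM hmax.1.1 hc
  have hUc : (Subgroup.zpowers c).subgroupOf
      (Subgroup.centralizer ((Subgroup.zpowers c : Subgroup G) : Set G)) ≤ Subgroup.center _ := by
    intro x hx
    rw [Subgroup.mem_center_iff]
    intro g
    exact Subtype.ext (Subgroup.mem_centralizer_iff.1 g.2 x (Subgroup.mem_subgroupOf.1 hx)).symm
  have hUD : (Subgroup.zpowers c).subgroupOf
      (Subgroup.centralizer ((Subgroup.zpowers c : Subgroup G) : Set G)) ≤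
      a.1.subgroupOf (Subgroup.centralizer ((Subgroup.zpowers c : Subgroup G) : Set G)) := by
    intro x hx
    have h3 : Subgroup.zpowers c ≤ a.1 := by rwa [Subgroup.zpowers_le]
    exact h3 hx
  exact exists_defl_of hM hf hD hUc hUD

end quot

end Cfsg.Agent.H608.F5
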