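import Cfsg.Agent.H608.SecProj
import Cfsg.Agent.Blocks.KleinSylow
import Cfsg.Agent.SmallSimple.KleinFourAut

/-!
# Klein four Sylow 2-subgroups: the principal 2-block and the group order

* `isKleinFour`, `one_class`: a group of order `4 g₀`, `g₀` odd, without a normal 2-complement has
  Klein four Sylow 2-subgroups and one class of involutions;
* `order_eq`: `|G| (1 + ∑ εᵢ / xᵢ) = 8 c(J)³ / c(P)²`;
* `degree_eq`: `1 + ∑ εᵢ xᵢ = 0`.
-/

set_option autoImplicit false

open Cfsg Subgroup Cfsg.Agent.Blocks Cfsg.Agent.Blocks.Basic Cfsg.Agent.Characters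
open scoped ComplexConjugate

namespace Cfsg.Agent.H608.Klein

universe u

section Fusion

variable {G : Type u} [Group G] [Finite G]

theorem exists_complement (P : Sylow 2 G) {g₀ : ℕ} (hG : Nat.card G = 4 * g₀)
    (h4 : Nat.card (P : Subgroup G) = 4)
    (h : normalizer ((P : Subgroup G) : Set G) ≤ centralizer ((P : Subgroup G) : Set G)) :
    ∃ N : Subgroup G, N.Normal ∧ Nat.card N = g₀ := by
  have : Fact (Nat.Prime 2) := ⟨Nat.prime_two⟩
  have hc := MonoidHom.ker_transferSylow_isComplement' P h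
  refine ⟨(MonoidHom.transferSylow P h).ker, MonoidHom.normal_ker _, ?_⟩
  have h1 := hc.card_mul_card
  rw [h4, hG, mul_comm] at h1
  exact Nat.eq_of_mul_eq_mul_left (by norm_num) h1

theorem card_sylow {g₀ : ℕ} (hg₀ : Odd g₀) (hG : Nat.card G = 4 * g₀) (P : Sylow 2 G) :
    Nat.card (P : Subgroup G) = 4 := by
  have : Fact (Nat.Prime 2) := ⟨Nat.prime_two⟩
  have h2 : (4 * g₀).factorization 2 = 2 := by
    have h0 : g₀ ≠ 0 := by rintro rfl; simp at hg₀
    rw [Nat.factorization_mul (by norm_num) h0, Finsupp.add_apply,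
      Nat.factorization_eq_zero_of_not_dvd (n := g₀) (fun h => by
        rw [Nat.odd_iff] at hg₀; omega), show (4 : ℕ) = 2 ^ 2 from rfl,
      Nat.Prime.factorization_pow Nat.prime_two]
    simp
  rw [P.card_eq_multiplicity, hG, h2]
  norm_num

theorem minFac_eq {g₀ : ℕ} (hG : Nat.card G = 4 * g₀) : (Nat.card G).minFac = 2 := by
  rw [Nat.minFac_eq_two_iff, hG]
  exact ⟨2 * g₀, by ring⟩

theorem isKleinFour {g₀ : ℕ} (hg₀ : Odd g₀) (hG : Nat.card G = 4 * g₀)
    (hnc : ¬ ∃ N : Subgroup G, N.Normal ∧ Nat.card N = g₀) (P : Sylow 2 G) :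
    IsKleinFour (P : Subgroup G) := by
  have h4 := card_sylow hg₀ hG P
  refine SmallSimple.KleinFourAut.isKleinFour_of_not_isCyclic h4 fun hc => ?_
  exact hnc (exists_complement P hG h4 (hc.normalizer_le_centralizer (minFac_eq hG)))

theorem mem_of_pow (P : Sylow 2 G) {x : G} (hx : x ∈ normalizer ((P : Subgroup G) : Set G)) {a : ℕ}
    (hxa : x ^ 2 ^ a = 1) : x ∈ (P : Subgroup G) := by
  have : Fact (Nat.Prime 2) := ⟨Nat.prime_two⟩
  have hQ : IsPGroup 2 (zpowers x) := by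
    obtain ⟨k, -, hk⟩ := (Nat.dvd_prime_pow Nat.prime_two).1 (orderOf_dvd_of_pow_eq_one hxa)
    refine IsPGroup.of_card (n := k) ?_
    rw [Nat.card_zpowers, hk]
  have h1 := hQ.inf_normalizer_sylow P
  have h2 : x ∈ zpowers x ⊓ normalizer ((P : Subgroup G) : Set G) := ⟨mem_zpowers x, hx⟩
  have h3 : x ∈ zpowers x ⊓ (P : Subgroup G) := by
    rw [← h1]; exact h2
  exact h3.2

/-- A Klein four Sylow 2-subgroup that is not central in its normalizer: one class of involutions. -/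
theorem one_class (P : Sylow 2 G) (hP : IsKleinFour (P : Subgroup G))
    (hN : ¬ normalizer ((P : Subgroup G) : Set G) ≤ centralizer ((P : Subgroup G) : Set G))
    (s t : G) (hs : orderOf s = 2) (ht : orderOf t = 2) : IsConj s t := by
  classical
  have : Fact (Nat.Prime 2) := ⟨Nat.prime_two⟩
  obtain ⟨x, hx, hxc⟩ := Set.not_subset.1 hN
  have hx' : x ∈ normalizer ((P : Subgroup G) : Set G) := hx
  have hconj : ∀ y ∈ (P : Subgroup G), x * y * x⁻¹ ∈ (P : Subgroup G) := fun y hy =>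
    (Subgroup.mem_normalizer_iff.1 hx' y).1 hy
  obtain ⟨y, hy, hxy⟩ : ∃ y ∈ (P : Subgroup G), x * y * x⁻¹ ≠ y := by
    by_contra hcon
    push Not at hcon
    apply hxc
    show x ∈ centralizer ((P : Subgroup G) : Set G)
    rw [mem_centralizer_iff]
    intro y hy
    have := hcon y hy
    calc y * x = x * y * x⁻¹ * x := by rw [this]
      _ = x * y := by group
  obtain ⟨a, m, hm, hxo⟩ := Nat.exists_eq_pow_mul_and_not_dvd (n := orderOf x)
    (orderOf_pos x).ne' 2 (by norm_num)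
  obtain ⟨k, hk⟩ : Odd m := Nat.odd_iff.2 (by omega)
  have hxm : x ^ m ∈ (P : Subgroup G) := by
    refine mem_of_pow P (Subgroup.pow_mem _ hx' m) (a := a) ?_
    rw [← pow_mul, mul_comm, ← hxo, pow_orderOf_eq_one]
  have h3 : x * (x * y * x⁻¹) * x⁻¹ ≠ y := by
    intro h
    have hc2 : Commute (x ^ 2) y := by
      show x ^ 2 * y = y * x ^ 2
      calc x ^ 2 * y = x * (x * y * x⁻¹) * x⁻¹ * x ^ 2 := by rw [sq]; group
        _ = y * x ^ 2 := by rw [h]
    have hc3 : (x ^ 2) ^ k * y = y * (x ^ 2) ^ k := (hc2.pow_left k).eq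
    have h5 : x ^ m * y = y * x ^ m := KleinSylow.comm_of_mem hP hxm hy
    apply hxy
    have h6 : x ^ m = x * (x ^ 2) ^ k := by rw [hk, ← pow_mul, pow_succ']
    have h7 : x * y * (x ^ 2) ^ k = y * x * (x ^ 2) ^ k := by
      calc x * y * (x ^ 2) ^ k = x * (y * (x ^ 2) ^ k) := by group
        _ = x * ((x ^ 2) ^ k * y) := by rw [hc3]
        _ = x ^ m * y := by rw [h6]; group
        _ = y * x ^ m := h5
        _ = y * x * (x ^ 2) ^ k := by rw [h6]; group
    have h8 : x * y = y * x := mul_right_cancel h7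
    rw [h8]; group
  have hy1 : y ≠ 1 := by
    rintro rfl
    apply hxy; group
  have key : ∀ z ∈ (P : Subgroup G), z ≠ 1 → IsConj y z := by
    intro z hz hz1
    by_cases e1 : z = y
    · rw [e1]
    by_cases e2 : z = x * y * x⁻¹
    · rw [e2]; exact isConj_iff.2 ⟨x, rfl⟩
    by_cases e3 : z = x * (x * y * x⁻¹) * x⁻¹
    · rw [e3]; exact isConj_iff.2 ⟨x * x, by group⟩
    exfalso
    have hne1 : x * y * x⁻¹ ≠ 1 := by
      intro h
      apply hy1
      calc y = x⁻¹ * (x * y * x⁻¹) * x := by group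
        _ = 1 := by rw [h]; group
    have hne2 : x * (x * y * x⁻¹) * x⁻¹ ≠ 1 := by
      intro h
      apply hne1
      calc x * y * x⁻¹ = x⁻¹ * (x * (x * y * x⁻¹) * x⁻¹) * x := by group
        _ = 1 := by rw [h]; group
    have hne3 : x * (x * y * x⁻¹) * x⁻¹ ≠ x * y * x⁻¹ := by
      intro h
      apply hxy
      calc x * y * x⁻¹ = x⁻¹ * (x * (x * y * x⁻¹) * x⁻¹) * x := by group
        _ = x⁻¹ * (x * y * x⁻¹) * x := by rw [h]
        _ = y := by group
    have hb := hconj y hy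
    have hc := hconj _ hb
    have f1 := IsKleinFour.eq_mul_of_ne_all (G := (P : Subgroup G)) (x := ⟨y, hy⟩)
      (y := ⟨x * y * x⁻¹, hb⟩) (z := ⟨z, hz⟩)
      (fun h => hy1 (congrArg Subtype.val h)) (fun h => hne1 (congrArg Subtype.val h))
      (fun h => hxy (congrArg Subtype.val h).symm) (fun h => hz1 (congrArg Subtype.val h))
      (fun h => e1 (congrArg Subtype.val h)) (fun h => e2 (congrArg Subtype.val h))
    have f2 := IsKleinFour.eq_mul_of_ne_all (G := (P : Subgroup G)) (x := ⟨y, hy⟩)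
      (y := ⟨x * y * x⁻¹, hb⟩) (z := ⟨x * (x * y * x⁻¹) * x⁻¹, hc⟩)
      (fun h => hy1 (congrArg Subtype.val h)) (fun h => hne1 (congrArg Subtype.val h))
      (fun h => hxy (congrArg Subtype.val h).symm) (fun h => hne2 (congrArg Subtype.val h))
      (fun h => h3 (congrArg Subtype.val h)) (fun h => hne3 (congrArg Subtype.val h))
    exact e3 (congrArg Subtype.val (f1.trans f2.symm))
  have key2 : ∀ z : G, orderOf z = 2 → IsConj y z := by
    intro z hz
    have hzp : IsPGroup 2 (Subgroup.zpowers z) := by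
      refine IsPGroup.of_card (n := 1) ?_
      rw [Nat.card_zpowers, pow_one, hz]
    obtain ⟨S', hS'⟩ := hzp.exists_le_sylow
    obtain ⟨g, hg⟩ := MulAction.exists_smul_eq G S' P
    have hmem : g * z * g⁻¹ ∈ (P : Subgroup G) := by
      rw [← hg]
      exact ⟨z, hS' (Subgroup.mem_zpowers z), rfl⟩
    have hzc : IsConj z (g * z * g⁻¹) := isConj_iff.2 ⟨g, rfl⟩
    refine (key _ hmem fun h => ?_).trans hzc.symm
    have : z = 1 := by
      calc z = g⁻¹ * (g * z * g⁻¹) * g := by group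
        _ = 1 := by rw [h]; group
    rw [this, orderOf_one] at hz
    omega
  exact (key2 s hs).symm.trans (key2 t ht)

end Fusion

section Local

variable {G : Type u} [Group G] [Finite G]

/-- The local data at an involution of a Klein four Sylow 2-subgroup: the centralizer `H` maps onto
`P` with odd kernel. -/
theorem exists_retraction (P : Sylow 2 G) (hP : IsKleinFour (P : Subgroup G)) {J : G}
    (hJ : J ∈ (P : Subgroup G)) (hJ2 : orderOf J = 2) :
    (P : Subgroup G) ≤ centralizer ({J} : Set G) ∧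
    (∃ k : ℕ, (pPrimeCore 2 (centralizer ({J} : Set G))).index = 2 ^ k) ∧
    ∃ ρ : centralizer ({J} : Set G) →* (P : Subgroup G),
      (∀ (x : (P : Subgroup G)) (hx : (x : G) ∈ centralizer ({J} : Set G)), ρ ⟨x, hx⟩ = x) ∧
      ρ.ker = pPrimeCore 2 (centralizer ({J} : Set G)) := by
  have : Fact (Nat.Prime 2) := ⟨Nat.prime_two⟩
  have hPH : (P : Subgroup G) ≤ centralizer ({J} : Set G) := by
    intro x hx
    rw [mem_centralizer_singleton_iff]
    exact KleinSylow.comm_of_mem hP hx hJ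
  refine ⟨hPH, ?_⟩
  obtain ⟨H, hH⟩ : ∃ H : Subgroup G, H = centralizer ({J} : Set G) := ⟨_, rfl⟩
  rw [← hH] at hPH ⊢
  set Q : Sylow 2 H := P.subtype hPH with hQ
  have hQP : (Q : Subgroup H) = (P : Subgroup G).subgroupOf H := rfl
  have hQK : IsKleinFour (Q : Subgroup H) :=
    KleinSylow.isKleinFour_of_mulEquiv (subgroupOfEquivOfLe hPH).symm hP
  have hz : (⟨J, hPH hJ⟩ : H) ∈ center H := by
    rw [mem_center_iff]
    intro g
    apply Subtype.ext
    show (g : G) * J = J * g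
    exact mem_centralizer_singleton_iff.1 (hH.le g.2)
  have hzQ : (⟨J, hPH hJ⟩ : H) ∈ (Q : Subgroup H) := by
    rw [hQP, mem_subgroupOf]; exact hJ
  have hz2 : orderOf (⟨J, hPH hJ⟩ : H) = 2 := by
    rw [Subgroup.orderOf_mk]; exact hJ2
  have hnc := KleinSylow.exists_index_pPrimeCore Q hQK ⟨J, hPH hJ⟩ hz hzQ hz2
  refine ⟨hnc, ?_⟩
  have hNC := KleinSylow.normalizer_le_centralizer Q hQK ⟨J, hPH hJ⟩ hz hzQ hz2
  have hf : Function.Bijective ((MonoidHom.transferSylow Q hNC).domRestrict (Q : Subgroup H)) :=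
    (MonoidHom.transferSylow_domRestrict_eq_pow Q hNC).symm ▸
      (Q.2.powEquiv' Q.not_dvd_index).bijective
  let e : (Q : Subgroup H) ≃* (P : Subgroup G) := subgroupOfEquivOfLe hPH
  let E : (Q : Subgroup H) ≃* (Q : Subgroup H) := MulEquiv.ofBijective
    ((MonoidHom.transferSylow Q hNC).domRestrict (Q : Subgroup H)) hf
  let ρ : H →* (P : Subgroup G) := e.toMonoidHom.comp (E.symm.toMonoidHom.comp
    (MonoidHom.transferSylow Q hNC))
  refine ⟨ρ, ?_, ?_⟩
  · intro x hx
    have hxQ : (⟨(x : G), hx⟩ : H) ∈ (Q : Subgroup H) := by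
      rw [hQP, mem_subgroupOf]; exact x.2
    have h1 : MonoidHom.transferSylow Q hNC ⟨(x : G), hx⟩ = E ⟨⟨(x : G), hx⟩, hxQ⟩ := rfl
    show e (E.symm (MonoidHom.transferSylow Q hNC ⟨(x : G), hx⟩)) = x
    rw [h1, MulEquiv.symm_apply_apply]
    rfl
  · have h1 : ρ.ker = (MonoidHom.transferSylow Q hNC).ker := by
      ext y
      rw [MonoidHom.mem_ker, MonoidHom.mem_ker]
      show e (E.symm (MonoidHom.transferSylow Q hNC y)) = 1 ↔ _
      rw [map_eq_one_iff e e.injective, map_eq_one_iff E.symm E.symm.injective]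
    rw [h1]
    apply le_antisymm
    · apply Lib.Cores.le_pPrimeCore (MonoidHom.normal_ker _)
      exact ((Nat.Prime.coprime_iff_not_dvd Nat.prime_two).2
        (MonoidHom.not_dvd_card_ker_transferSylow Q hNC)).symm
    · intro y hy
      have h2 : ¬ 2 ∣ Nat.card (pPrimeCore 2 H) :=
        (Nat.Prime.coprime_iff_not_dvd Nat.prime_two).1 (Lib.Cores.pPrimeCore_coprime 2).symm
      have h3 : orderOf y ∣ Nat.card (pPrimeCore 2 H) := by
        have := orderOf_dvd_natCard (⟨y, hy⟩ : pPrimeCore 2 H)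
        rwa [← Subgroup.orderOf_coe] at this
      rw [MonoidHom.mem_ker, ← orderOf_eq_one_iff]
      have h4 : orderOf (MonoidHom.transferSylow Q hNC y) ∣ orderOf y := orderOf_map_dvd _ y
      have h5 : orderOf (MonoidHom.transferSylow Q hNC y) ∣ Nat.card (Q : Subgroup H) :=
        orderOf_dvd_natCard _
      have h6 : Nat.card (Q : Subgroup H) = 2 ^ 2 := hQK.card_four
      rw [h6] at h5
      obtain ⟨k, -, hk⟩ := (Nat.dvd_prime_pow Nat.prime_two).1 h5
      rcases Nat.eq_zero_or_pos k with rfl | hk0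
      · simpa using hk
      · exfalso
        apply h2
        refine Dvd.dvd.trans ?_ (h4.trans h3)
        rw [hk]
        exact dvd_pow_self 2 hk0.ne'

end Local

section Count

variable {G : Type u} [Group G] [Finite G] {P : Sylow 2 G} {J : G}
  {ρ : centralizer ({J} : Set G) →* (P : Subgroup G)}

/-- The retraction data. -/
structure Ret (P : Sylow 2 G) (J : G) (ρ : centralizer ({J} : Set G) →* (P : Subgroup G)) : Prop where
  klein : IsKleinFour (P : Subgroup G)
  mem : J ∈ (P : Subgroup G)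
  two : orderOf J = 2
  le : (P : Subgroup G) ≤ centralizer ({J} : Set G)
  ret : ∀ (x : (P : Subgroup G)) (hx : (x : G) ∈ centralizer ({J} : Set G)), ρ ⟨x, hx⟩ = x
  ker : ρ.ker = pPrimeCore 2 (centralizer ({J} : Set G))

/-- The number of involutions of the centralizer with a given image. -/
noncomputable def cnt (ρ : centralizer ({J} : Set G) →* (P : Subgroup G)) (b : (P : Subgroup G)) : ℕ :=
  Nat.card {s : centralizer ({J} : Set G) // orderOf s = 2 ∧ ρ s = b}

theorem Ret.odd_of_ker (h : Ret P J ρ) {s : centralizer ({J} : Set G)} (hs : ρ s = 1) :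
    ¬ 2 ∣ orderOf s := by
  have h1 : s ∈ pPrimeCore 2 (centralizer ({J} : Set G)) := by
    rw [← h.ker, MonoidHom.mem_ker, hs]
  have h2 : ¬ 2 ∣ Nat.card (pPrimeCore 2 (centralizer ({J} : Set G))) :=
    (Nat.Prime.coprime_iff_not_dvd Nat.prime_two).1 (Lib.Cores.pPrimeCore_coprime 2).symm
  have h3 : orderOf s ∣ Nat.card (pPrimeCore 2 (centralizer ({J} : Set G))) := by
    have := orderOf_dvd_natCard (⟨s, h1⟩ : pPrimeCore 2 (centralizer ({J} : Set G)))
    rwa [← Subgroup.orderOf_coe] at this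
  exact fun h => h2 (h.trans h3)

theorem Ret.ker_of_odd (h : Ret P J ρ) {s : centralizer ({J} : Set G)} (hs : ¬ 2 ∣ orderOf s) :
    ρ s = 1 := by
  have h4 : orderOf (ρ s) ∣ orderOf s := orderOf_map_dvd _ s
  have h5 : orderOf (ρ s) ∣ Nat.card (P : Subgroup G) := orderOf_dvd_natCard _
  have h6 : Nat.card (P : Subgroup G) = 2 ^ 2 := h.klein.card_four
  rw [h6] at h5
  obtain ⟨k, -, hk⟩ := (Nat.dvd_prime_pow Nat.prime_two).1 h5
  rcases Nat.eq_zero_or_pos k with rfl | hk0
  · rw [pow_zero, orderOf_eq_one_iff] at hk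
    exact hk
  · exfalso
    apply hs
    refine Dvd.dvd.trans ?_ h4
    rw [hk]
    exact dvd_pow_self 2 hk0.ne'

theorem Ret.cnt_one (h : Ret P J ρ) : cnt ρ 1 = 0 := by
  have : IsEmpty {s : centralizer ({J} : Set G) // orderOf s = 2 ∧ ρ s = 1} := by
    refine ⟨fun s => ?_⟩
    apply h.odd_of_ker s.2.2
    rw [s.2.1]
  exact Nat.card_of_isEmpty

theorem Ret.comm (h : Ret P J ρ) (a b : (P : Subgroup G)) : a * b = b * a :=
  mul_comm_of_exponent_two h.klein.exponent_two a b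

theorem Ret.isConj_iff (h : Ret P J ρ) (b : (P : Subgroup G)) (hb : b ≠ 1)
    (s : centralizer ({J} : Set G)) :
    (orderOf s = 2 ∧ ρ s = b) ↔ IsConj (⟨b, h.le b.2⟩ : centralizer ({J} : Set G)) s := by
  have : Fact (Nat.Prime 2) := ⟨Nat.prime_two⟩
  have hbo : orderOf (⟨b, h.le b.2⟩ : centralizer ({J} : Set G)) = 2 := by
    rw [Subgroup.orderOf_mk]
    exact KleinSylow.orderOf_eq_two' h.klein b.2 (fun h => hb (Subtype.ext h))
  constructor
  · rintro ⟨h1, h2⟩
    have hzp : IsPGroup 2 (Subgroup.zpowers s) := by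
      refine IsPGroup.of_card (n := 1) ?_
      rw [Nat.card_zpowers, pow_one, h1]
    obtain ⟨S', hS'⟩ := hzp.exists_le_sylow
    obtain ⟨g, hg⟩ := MulAction.exists_smul_eq (centralizer ({J} : Set G)) S' (P.subtype h.le)
    have hmem : g * s * g⁻¹ ∈ ((P.subtype h.le : Sylow 2 (centralizer ({J} : Set G))) :
        Subgroup (centralizer ({J} : Set G))) := by
      rw [← hg]
      exact ⟨s, hS' (Subgroup.mem_zpowers s), rfl⟩
    have hmem' : ((g * s * g⁻¹ : centralizer ({J} : Set G)) : G) ∈ (P : Subgroup G) := hmem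
    have h3 : ρ (g * s * g⁻¹) = ⟨_, hmem'⟩ := h.ret ⟨_, hmem'⟩ (g * s * g⁻¹).2
    have h4 : ρ (g * s * g⁻¹) = b := by
      rw [map_mul, map_mul, map_inv, h2, h.comm, ← mul_assoc, inv_mul_cancel, one_mul]
    rw [h4] at h3
    have h5 : (⟨b, h.le b.2⟩ : centralizer ({J} : Set G)) = g * s * g⁻¹ := by
      have h6 : (b : G) = ((g * s * g⁻¹ : centralizer ({J} : Set G)) : G) :=
        congrArg Subtype.val h3
      exact Subtype.ext h6
    rw [h5]
    exact (_root_.isConj_iff.2 ⟨g, rfl⟩ : IsConj s (g * s * g⁻¹)).symm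
  · intro hc
    obtain ⟨g, hg⟩ := _root_.isConj_iff.1 hc
    refine ⟨?_, ?_⟩
    · rw [← hg]
      have := (MulAut.conj g).orderOf_eq (⟨b, h.le b.2⟩ : centralizer ({J} : Set G))
      exact this.trans hbo
    · rw [← hg, map_mul, map_mul, map_inv, h.ret b, h.comm, ← mul_assoc, inv_mul_cancel, one_mul]

theorem Ret.centralizer_pair (h : Ret P J ρ) (b : (P : Subgroup G)) (hb : b ≠ 1) (hbJ : (b : G) ≠ J) :
    Nat.card (centralizer ({(⟨b, h.le b.2⟩ : centralizer ({J} : Set G))} :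
      Set (centralizer ({J} : Set G)))) = Nat.card (centralizer ((P : Subgroup G) : Set G)) := by
  have hJ1 : J ≠ 1 := by
    intro h1
    have := h.two
    rw [h1, orderOf_one] at this
    omega
  have key : ∀ g : G, g ∈ centralizer ((P : Subgroup G) : Set G) ↔ g * J = J * g ∧
      g * (b : G) = b * g := by
    intro g
    rw [mem_centralizer_iff]
    constructor
    · intro hg
      exact ⟨(hg J h.mem).symm, (hg b b.2).symm⟩
    · rintro ⟨h1, h2⟩ y hy
      by_cases e1 : y = 1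
      · rw [e1, one_mul, mul_one]
      by_cases e2 : y = J
      · rw [e2]; exact h1.symm
      by_cases e3 : y = b
      · rw [e3]; exact h2.symm
      have hk := h.klein
      have f1 := IsKleinFour.eq_mul_of_ne_all (G := (P : Subgroup G)) (x := ⟨J, h.mem⟩)
        (y := b) (z := ⟨y, hy⟩) (fun h => hJ1 (congrArg Subtype.val h)) hb
        (fun h => hbJ (congrArg Subtype.val h).symm) (fun h => e1 (congrArg Subtype.val h))
        (fun h => e2 (congrArg Subtype.val h)) (fun h => e3 (congrArg Subtype.val h))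
      have f2 : y = J * b := congrArg Subtype.val f1
      rw [f2, mul_assoc, ← h2, ← mul_assoc, ← h1, mul_assoc]
  refine Nat.card_congr
    { toFun := fun g => ⟨(g.1 : G), (key _).2 ⟨mem_centralizer_singleton_iff.1 g.1.2,
        congrArg Subtype.val (mem_centralizer_singleton_iff.1 g.2)⟩⟩
      invFun := fun g => ⟨⟨(g : G), mem_centralizer_singleton_iff.2 ((key _).1 g.2).1⟩,
        mem_centralizer_singleton_iff.2 (Subtype.ext ((key _).1 g.2).2)⟩
      left_inv := fun g => rfl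
      right_inv := fun g => rfl }

theorem Ret.cnt_mul (h : Ret P J ρ) (b : (P : Subgroup G)) (hb : b ≠ 1) (hbJ : (b : G) ≠ J) :
    cnt ρ b * Nat.card (centralizer ((P : Subgroup G) : Set G)) =
      Nat.card (centralizer ({J} : Set G)) := by
  rw [← h.centralizer_pair b hb hbJ]
  have h1 : cnt ρ b = Nat.card {s : centralizer ({J} : Set G) |
      IsConj (⟨b, h.le b.2⟩ : centralizer ({J} : Set G)) s} :=
    Nat.card_congr (Equiv.subtypeEquivRight fun s => h.isConj_iff b hb s)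
  rw [h1, Central.card_isConj, mul_comm]
  exact Subgroup.card_mul_index _

open Classical in
/-- The number of pairs of involutions of the centralizer with product in `J O(H)`. -/
theorem Ret.sum_pairs [Fintype (centralizer ({J} : Set G))] (h : Ret P J ρ) :
    (∑ s : centralizer ({J} : Set G), ∑ t : centralizer ({J} : Set G),
      if orderOf s = 2 ∧ orderOf t = 2 ∧ ρ s * ρ t = ⟨J, h.mem⟩ then (1 : ℕ) else 0) *
      Nat.card (centralizer ((P : Subgroup G) : Set G)) ^ 2 =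
      2 * Nat.card (centralizer ({J} : Set G)) ^ 2 := by
  have := Fintype.ofFinite (P : Subgroup G)
  have hk := h.klein
  set J' : (P : Subgroup G) := ⟨J, h.mem⟩ with hJ'
  have hJ1 : J' ≠ 1 := by
    intro h1
    have h2 := h.two
    have h3 : J = 1 := congrArg Subtype.val h1
    rw [h3, orderOf_one] at h2
    omega
  have h1 : ∀ s : centralizer ({J} : Set G), (∑ t : centralizer ({J} : Set G),
      if orderOf s = 2 ∧ orderOf t = 2 ∧ ρ s * ρ t = J' then (1 : ℕ) else 0) =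
      if orderOf s = 2 then cnt ρ ((ρ s)⁻¹ * J') else 0 := by
    intro s
    split_ifs with hs
    · rw [cnt, Nat.card_eq_fintype_card, Fintype.card_subtype, Finset.card_eq_sum_ones,
        Finset.sum_filter]
      refine Finset.sum_congr rfl fun t _ => ?_
      have : (orderOf s = 2 ∧ orderOf t = 2 ∧ ρ s * ρ t = J') ↔
          (orderOf t = 2 ∧ ρ t = (ρ s)⁻¹ * J') := by
        rw [eq_inv_mul_iff_mul_eq]
        tauto
      simp only [this]
    · exact Finset.sum_eq_zero fun t _ => if_neg fun h => hs h.1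
  have h2 : (∑ s : centralizer ({J} : Set G), if orderOf s = 2 then cnt ρ ((ρ s)⁻¹ * J') else 0) =
      ∑ b : (P : Subgroup G), cnt ρ b * cnt ρ (b⁻¹ * J') := by
    rw [← Finset.sum_fiberwise Finset.univ (fun s : centralizer ({J} : Set G) => ρ s)]
    refine Finset.sum_congr rfl fun b _ => ?_
    rw [cnt, Nat.card_eq_fintype_card, Fintype.card_subtype, ← Finset.filter_filter]
    rw [Finset.sum_congr rfl (g := fun s : centralizer ({J} : Set G) =>
      if orderOf s = 2 then cnt ρ (b⁻¹ * J') else 0) (fun s hs => by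
        rw [(Finset.mem_filter.1 hs).2])]
    rw [← Finset.sum_filter, Finset.sum_const, smul_eq_mul, Finset.filter_filter,
      Finset.filter_filter]
    congr 2
    ext s
    simp only [Finset.mem_filter, Finset.mem_univ, true_and]
    tauto
  rw [Finset.sum_congr rfl fun s _ => h1 s, h2]
  -- an involution of `P` other than `J`
  obtain ⟨a, ha1, haJ⟩ : ∃ a : (P : Subgroup G), a ≠ 1 ∧ a ≠ J' := by
    by_contra hcon
    push Not at hcon
    have h4 : Fintype.card (P : Subgroup G) = 4 := by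
      rw [← Nat.card_eq_fintype_card]; exact hk.card_four
    have h5 : (Finset.univ : Finset (P : Subgroup G)) ⊆ {1, J'} := by
      intro x _
      by_cases hx : x = 1
      · simp [hx]
      · simp [hcon x hx]
    have h6 := Finset.card_le_card h5
    rw [Finset.card_univ, h4] at h6
    have h7 := Finset.card_le_two (a := (1 : (P : Subgroup G))) (b := J')
    omega
  have huniv := IsKleinFour.eq_finset_univ ha1 hJ1 haJ
  have haJ1 : a * J' ≠ 1 := by
    intro h1
    apply haJ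
    rw [mul_eq_one_iff_eq_inv, IsKleinFour.inv_eq_self] at h1
    exact h1
  have haJa : a * J' ≠ a := fun h => hJ1 (mul_eq_left.1 h)
  have haJJ : a * J' ≠ J' := fun h => ha1 (mul_eq_right.1 h)
  rw [← huniv, Finset.sum_insert (by simp [haJa, haJJ, haJ1]), Finset.sum_insert (by simp [haJ, ha1]),
    Finset.sum_insert (by simp [hJ1]), Finset.sum_singleton, h.cnt_one, inv_mul_cancel,
    IsKleinFour.inv_eq_self a, IsKleinFour.inv_eq_self (a * J'), mul_assoc a J' J',
    IsKleinFour.mul_self, mul_one, h.cnt_one]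
  have e1 := h.cnt_mul a ha1 (fun h => haJ (Subtype.ext h))
  have e2 := h.cnt_mul (a * J') haJ1 (fun h => haJJ (Subtype.ext h))
  set c := Nat.card (centralizer ((P : Subgroup G) : Set G))
  set d := Nat.card (centralizer ({J} : Set G))
  calc _ = 2 * ((cnt ρ a * c) * (cnt ρ (a * J') * c)) := by ring
    _ = _ := by rw [e1, e2]; ring

/-- Two involutions with product in `J O(H)` lie in `H`. -/
theorem mem_of_mul_eq {s t : G} (hs : orderOf s = 2) (ht : orderOf t = 2) (hJ2 : orderOf J = 2)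
    {u : centralizer ({J} : Set G)} (hu : ¬ 2 ∣ orderOf u) (hst : s * t = J * (u : G)) :
    s ∈ centralizer ({J} : Set G) ∧ t ∈ centralizer ({J} : Set G) := by
  have hss : s * s = 1 := by rw [← sq, ← hs, pow_orderOf_eq_one]
  have htt : t * t = 1 := by rw [← sq, ← ht, pow_orderOf_eq_one]
  have hJJ : J * J = 1 := by rw [← sq, ← hJ2, pow_orderOf_eq_one]
  have hsi : s⁻¹ = s := inv_eq_of_mul_eq_one_right hss
  have hti : t⁻¹ = t := inv_eq_of_mul_eq_one_right htt
  have hJi : J⁻¹ = J := inv_eq_of_mul_eq_one_right hJJ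
  have hinv : s * (s * t) * s⁻¹ = (s * t)⁻¹ := by
    rw [mul_inv_rev, hsi, hti, ← mul_assoc, hss, one_mul]
  have hcu : Commute J (u : G) := (mem_centralizer_singleton_iff.1 u.2).symm
  obtain ⟨k, hk⟩ : Odd (orderOf u) := Nat.odd_iff.2 (by omega)
  have hpow : (s * t) ^ orderOf u = J := by
    rw [hst, hcu.mul_pow, ← Subgroup.orderOf_coe, pow_orderOf_eq_one, Subgroup.orderOf_coe, mul_one,
      hk, pow_succ, pow_mul, sq, hJJ, one_pow, one_mul]
  have hsJ : s * J * s⁻¹ = J := by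
    conv_lhs => rw [← hpow]
    have : s * (s * t) ^ orderOf u * s⁻¹ = (s * (s * t) * s⁻¹) ^ orderOf u := by
      rw [conj_pow]
    rw [this, hinv, inv_pow, hpow, hJi]
  have hsmem : s ∈ centralizer ({J} : Set G) := by
    rw [mem_centralizer_singleton_iff]
    calc s * J = s * J * s⁻¹ * s := by group
      _ = J * s := by rw [hsJ]
  refine ⟨hsmem, ?_⟩
  have hJm : J ∈ centralizer ({J} : Set G) := mem_centralizer_singleton_iff.2 rfl
  have : t = s⁻¹ * (J * (u : G)) := by rw [← hst]; group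
  rw [this]
  exact mul_mem (inv_mem hsmem) (mul_mem hJm u.2)

theorem sum_eq_sum_subgroup [Fintype G] (H : Subgroup G) [Fintype H] {A : Type*} [AddCommMonoid A]
    (F : G → A) (hF : ∀ s, s ∉ H → F s = 0) : ∑ s : G, F s = ∑ s : H, F s := by
  classical
  rw [← Finset.sum_subset (Finset.subset_univ (Finset.univ.filter fun s : G => s ∈ H))]
  · exact Finset.sum_subtype _ (fun x => by simp) F
  · intro s _ hs
    exact hF s (fun h => hs (by simp [h]))

open Classical in
theorem Ret.sum_pairF [Fintype G] (h : Ret P J ρ) (hone : ∀ s : G, orderOf s = 2 ↔ IsConj J s) :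
    ∑ u ∈ Finset.univ.filter (fun u : centralizer ({J} : Set G) => ¬ 2 ∣ orderOf u),
      SecProj.pairF J J (J * (u : G)) =
      ((∑ s : centralizer ({J} : Set G), ∑ t : centralizer ({J} : Set G),
      if orderOf s = 2 ∧ orderOf t = 2 ∧ ρ s * ρ t = ⟨J, h.mem⟩ then (1 : ℕ) else 0 : ℕ) : ℂ) := by
  have hk := h.klein
  have hJm : J ∈ centralizer ({J} : Set G) := mem_centralizer_singleton_iff.2 rfl
  have h1 : ∑ u ∈ Finset.univ.filter (fun u : centralizer ({J} : Set G) => ¬ 2 ∣ orderOf u),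
      SecProj.pairF J J (J * (u : G)) = ∑ s : G, ∑ t : G, if orderOf s = 2 ∧ orderOf t = 2 ∧
        ∃ u : centralizer ({J} : Set G), ¬ 2 ∣ orderOf u ∧ s * t = J * (u : G) then (1 : ℂ) else 0 := by
    unfold SecProj.pairF
    rw [Finset.sum_comm]
    refine Finset.sum_congr rfl fun s _ => ?_
    rw [Finset.sum_comm]
    refine Finset.sum_congr rfl fun t _ => ?_
    by_cases hc : orderOf s = 2 ∧ orderOf t = 2 ∧
        ∃ u : centralizer ({J} : Set G), ¬ 2 ∣ orderOf u ∧ s * t = J * (u : G)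
    · rw [if_pos hc]
      obtain ⟨hs, ht, u, hu, hst⟩ := hc
      rw [Finset.sum_eq_single u]
      · rw [if_pos ⟨(hone s).1 hs, (hone t).1 ht, hst⟩]
      · intro v _ hv
        refine if_neg fun hh => hv ?_
        apply Subtype.ext
        exact (mul_left_cancel (hst.symm.trans hh.2.2)).symm
      · intro hh
        exact (hh (Finset.mem_filter.2 ⟨Finset.mem_univ _, hu⟩)).elim
    · rw [if_neg hc]
      refine Finset.sum_eq_zero fun u hu => if_neg fun hh => hc ?_
      exact ⟨(hone s).2 hh.1, (hone t).2 hh.2.1, u, (Finset.mem_filter.1 hu).2, hh.2.2⟩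
  rw [h1, sum_eq_sum_subgroup (centralizer ({J} : Set G))]
  · push_cast
    refine Finset.sum_congr rfl fun s _ => ?_
    rw [sum_eq_sum_subgroup (centralizer ({J} : Set G))]
    · refine Finset.sum_congr rfl fun t _ => ?_
      have hiff : (orderOf (s : G) = 2 ∧ orderOf (t : G) = 2 ∧
          ∃ u : centralizer ({J} : Set G), ¬ 2 ∣ orderOf u ∧ (s : G) * t = J * (u : G)) ↔
          (orderOf s = 2 ∧ orderOf t = 2 ∧ ρ s * ρ t = ⟨J, h.mem⟩) := by
        rw [Subgroup.orderOf_coe, Subgroup.orderOf_coe]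
        refine and_congr_right fun _ => and_congr_right fun _ => ?_
        have hρJ : ρ ⟨J, hJm⟩ = ⟨J, h.mem⟩ := h.ret ⟨J, h.mem⟩ hJm
        constructor
        · rintro ⟨u, hu, hst⟩
          have h2 : s * t = ⟨J, hJm⟩ * u := Subtype.ext hst
          rw [← map_mul, h2, map_mul, hρJ, h.ker_of_odd hu, mul_one]
        · intro hst
          refine ⟨⟨J, hJm⟩⁻¹ * (s * t), ?_, ?_⟩
          · apply h.odd_of_ker
            rw [map_mul, map_mul, map_inv, hρJ, hst, inv_mul_cancel]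
          · push_cast
            group
      simp only [hiff]
    · intro t ht
      refine if_neg fun hh => ?_
      obtain ⟨h2, h3, u, hu, hst⟩ := hh
      exact ht (mem_of_mul_eq h2 h3 h.two hu hst).2
  · intro s hs
    refine Finset.sum_eq_zero fun t _ => if_neg fun hh => ?_
    obtain ⟨h2, h3, u, hu, hst⟩ := hh
    exact hs (mem_of_mul_eq h2 h3 h.two hu hst).1

end Count

section Final

variable {G : Type u} [Group G] [Finite G]

/-- The setting of the order formula. -/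
structure KHyp (M : Ideal AlgInt) (g₀ : ℕ) (P : Sylow 2 G) (J : G) (χ₁ χ₂ χ₃ : IrrCharacter G)
    (ε₁ ε₂ ε₃ : ℤ) : Prop where
  hM : IsPModular 2 M
  hg₀ : Odd g₀
  hG : Nat.card G = 4 * g₀
  hnc : ¬ ∃ N : Subgroup G, N.Normal ∧ Nat.card N = g₀
  hJ : J ∈ (P : Subgroup G)
  hJ2 : orderOf J = 2
  hB : principalBlock M G = {χ : IrrCharacter G | (χ : G → ℂ) = (fun _ => 1) ∨ χ = χ₁ ∨ χ = χ₂ ∨
    χ = χ₃}
  hdist : (χ₁ : G → ℂ) ≠ (fun _ => 1) ∧ (χ₂ : G → ℂ) ≠ (fun _ => 1) ∧
    (χ₃ : G → ℂ) ≠ (fun _ => 1) ∧ χ₁ ≠ χ₂ ∧ χ₁ ≠ χ₃ ∧ χ₂ ≠ χ₃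
  hε : (ε₁ = 1 ∨ ε₁ = -1) ∧ (ε₂ = 1 ∨ ε₂ = -1) ∧ (ε₃ = 1 ∨ ε₃ = -1)
  hval : (χ₁ : G → ℂ) J = ε₁ ∧ (χ₂ : G → ℂ) J = ε₂ ∧ (χ₃ : G → ℂ) J = ε₃

variable {M : Ideal AlgInt} {g₀ : ℕ} {P : Sylow 2 G} {J : G} {χ₁ χ₂ χ₃ : IrrCharacter G}
  {ε₁ ε₂ ε₃ : ℤ}

theorem KHyp.klein (h : KHyp M g₀ P J χ₁ χ₂ χ₃ ε₁ ε₂ ε₃) : IsKleinFour (P : Subgroup G) :=
  isKleinFour h.hg₀ h.hG h.hnc P

theorem orderOf_eq_of_isConj {x y : G} (h : IsConj x y) : orderOf x = orderOf y := by
  obtain ⟨g, hg⟩ := _root_.isConj_iff.1 h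
  have := (MulAut.conj g).orderOf_eq x
  rw [← this, ← hg]; rfl

theorem KHyp.one_class (h : KHyp M g₀ P J χ₁ χ₂ χ₃ ε₁ ε₂ ε₃) (s : G) :
    orderOf s = 2 ↔ IsConj J s := by
  constructor
  · intro hs
    refine Klein.one_class P h.klein (fun hN => h.hnc ?_) J s h.hJ2 hs
    exact exists_complement P h.hG h.klein.card_four hN
  · intro hc
    rw [← orderOf_eq_of_isConj hc, h.hJ2]

theorem KHyp.finsum_eq (h : KHyp M g₀ P J χ₁ χ₂ χ₃ ε₁ ε₂ ε₃) (F : IrrCharacter G → ℂ) :
    ∑ᶠ ζ ∈ principalBlock M G, F ζ =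
      F ⟨fun _ => 1, isIrrCharacter_one⟩ + F χ₁ + F χ₂ + F χ₃ := by
  classical
  have : Finite (IrrCharacter G) := Core.finite_irr
  have := Fintype.ofFinite (IrrCharacter G)
  obtain ⟨d1, d2, d3, d12, d13, d23⟩ := h.hdist
  have hs : (principalBlock M G) = (({⟨fun _ => 1, isIrrCharacter_one⟩, χ₁, χ₂, χ₃} :
      Finset (IrrCharacter G)) : Set (IrrCharacter G)) := by
    rw [h.hB]
    ext χ
    simp only [Set.mem_ofPred_eq, Finset.coe_insert, Finset.coe_singleton, Set.mem_insert_iff,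
      Set.mem_singleton_iff]
    constructor
    · rintro (hh | hh)
      · exact Or.inl (Subtype.ext hh)
      · exact Or.inr hh
    · rintro (hh | hh)
      · exact Or.inl (congrArg Subtype.val hh)
      · exact Or.inr hh
  rw [hs, finsum_mem_coe_finset, Finset.sum_insert, Finset.sum_insert, Finset.sum_insert,
    Finset.sum_singleton]
  · ring
  · simp [d23]
  · simp [d12, d13]
  · have e1 : (⟨fun _ => 1, isIrrCharacter_one⟩ : IrrCharacter G) ≠ χ₁ := fun h =>
      d1 (congrArg Subtype.val h).symm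
    have e2 : (⟨fun _ => 1, isIrrCharacter_one⟩ : IrrCharacter G) ≠ χ₂ := fun h =>
      d2 (congrArg Subtype.val h).symm
    have e3 : (⟨fun _ => 1, isIrrCharacter_one⟩ : IrrCharacter G) ≠ χ₃ := fun h =>
      d3 (congrArg Subtype.val h).symm
    simp [e1, e2, e3]

theorem KHyp.deg (χ : IrrCharacter G) : (χ : G → ℂ) 1 = (charDegree (χ : G → ℂ) : ℂ) ∧
    0 < charDegree (χ : G → ℂ) := by
  obtain ⟨d, hd0, hd⟩ := Core.isIrr_apply_one χ.2
  have : charDegree (χ : G → ℂ) = d := by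
    rw [charDegree, hd]; simp
  rw [this]
  exact ⟨hd, hd0⟩

theorem KHyp.ret (h : KHyp M g₀ P J χ₁ χ₂ χ₃ ε₁ ε₂ ε₃) :
    ∃ ρ : centralizer ({J} : Set G) →* (P : Subgroup G), Ret P J ρ ∧
      SecProj.Hyp 2 J (centralizer ({J} : Set G)) := by
  obtain ⟨h1, h2, ρ, h3, h4⟩ := exists_retraction P h.klein h.hJ h.hJ2
  exact ⟨ρ, ⟨h.klein, h.hJ, h.hJ2, h1, h3, h4⟩, ⟨⟨1, by rw [h.hJ2, pow_one]⟩, rfl, h2⟩⟩

theorem KHyp.card_core (h : KHyp M g₀ P J χ₁ χ₂ χ₃ ε₁ ε₂ ε₃) :
    Nat.card (centralizer ({J} : Set G)) = 4 * Nat.card (pPrimeCore 2 (centralizer ({J} : Set G))) := by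
  obtain ⟨ρ, hρ, -⟩ := h.ret
  have h1 : Function.Surjective ρ := fun x => ⟨⟨x, hρ.le x.2⟩, hρ.ret x (hρ.le x.2)⟩
  have h2 := Subgroup.index_ker ρ
  rw [MonoidHom.range_eq_top.2 h1, Subgroup.card_top] at h2
  have h3 := ρ.ker.card_mul_index
  have h4 : Nat.card (P : Subgroup G) = 4 := hρ.klein.card_four
  rw [h2, h4, hρ.ker] at h3
  omega

/-- The degree relation. -/
theorem KHyp.degree_eq (h : KHyp M g₀ P J χ₁ χ₂ χ₃ ε₁ ε₂ ε₃) :
    (1 : ℤ) + ε₁ * charDegree (χ₁ : G → ℂ) + ε₂ * charDegree (χ₂ : G → ℂ) +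
      ε₃ * charDegree (χ₃ : G → ℂ) = 0 := by
  obtain ⟨ρ, hρ, hH⟩ := h.ret
  have : Fact (Nat.Prime 2) := ⟨Nat.prime_two⟩
  have hJ1 : J ≠ 1 := by
    intro h1
    have := h.hJ2
    rw [h1, orderOf_one] at this
    omega
  have h1 := SecProj.sum_degree h.hM hH hJ1
  rw [h.finsum_eq] at h1
  obtain ⟨v1, v2, v3⟩ := h.hval
  rw [v1, v2, v3, (KHyp.deg χ₁).1, (KHyp.deg χ₂).1, (KHyp.deg χ₃).1] at h1
  have h2 : (((1 : ℤ) + ε₁ * charDegree (χ₁ : G → ℂ) + ε₂ * charDegree (χ₂ : G → ℂ) +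
      ε₃ * charDegree (χ₃ : G → ℂ) : ℤ) : ℂ) = ((0 : ℤ) : ℂ) := by
    push_cast
    rw [← h1]
    ring
  exact_mod_cast h2

/-- The order relation. -/
theorem KHyp.order_eq (h : KHyp M g₀ P J χ₁ χ₂ χ₃ ε₁ ε₂ ε₃) :
    (Nat.card G : ℚ) * (1 + ε₁ / charDegree (χ₁ : G → ℂ) + ε₂ / charDegree (χ₂ : G → ℂ) +
      ε₃ / charDegree (χ₃ : G → ℂ)) * (Nat.card (centralizer ((P : Subgroup G) : Set G)) : ℚ) ^ 2 =
      8 * (Nat.card (centralizer ({J} : Set G)) : ℚ) ^ 3 := by
  classical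
  have := Fintype.ofFinite G
  obtain ⟨ρ, hρ, hH⟩ := h.ret
  have : Fact (Nat.Prime 2) := ⟨Nat.prime_two⟩
  have h1 := SecProj.sum_pairs h.hM hH J J
  have h2 := hρ.sum_pairF h.one_class
  have h3 := hρ.sum_pairs
  rw [h2, h.finsum_eq] at h1
  set T := (∑ s : centralizer ({J} : Set G), ∑ t : centralizer ({J} : Set G),
      if orderOf s = 2 ∧ orderOf t = 2 ∧ ρ s * ρ t = ⟨J, hρ.mem⟩ then (1 : ℕ) else 0) with hT
  obtain ⟨v1, v2, v3⟩ := h.hval
  rw [v1, v2, v3, (KHyp.deg χ₁).1, (KHyp.deg χ₂).1, (KHyp.deg χ₃).1] at h1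
  have e : ∀ ε : ℤ, (ε = 1 ∨ ε = -1) → conj (ε : ℂ) * conj (ε : ℂ) * (ε : ℂ) = (ε : ℂ) := by
    rintro ε (rfl | rfl) <;> simp
  rw [e _ h.hε.1, e _ h.hε.2.1, e _ h.hε.2.2] at h1
  simp only [map_one, mul_one, div_one] at h1
  have hc := h.card_core
  have hidx := (centralizer ({J} : Set G)).card_mul_index
  set c := Nat.card (centralizer ({J} : Set G)) with hcdef
  set o := Nat.card (pPrimeCore 2 (centralizer ({J} : Set G))) with hodef
  set d := Nat.card (centralizer ((P : Subgroup G) : Set G)) with hddef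
  set k := (centralizer ({J} : Set G)).index with hkdef
  set n := Nat.card G with hn
  have hn0 : (n : ℚ) ≠ 0 := by exact_mod_cast Nat.card_pos.ne'
  have hc0 : (c : ℚ) ≠ 0 := by exact_mod_cast Nat.card_pos.ne'
  have hQ : (T : ℚ) = (o : ℚ) * k * k / n * (1 + ε₁ / charDegree (χ₁ : G → ℂ) +
      ε₂ / charDegree (χ₂ : G → ℂ) + ε₃ / charDegree (χ₃ : G → ℂ)) := by
    have : ((T : ℚ) : ℂ) = (((o : ℚ) * k * k / n * (1 + ε₁ / charDegree (χ₁ : G → ℂ) +
      ε₂ / charDegree (χ₂ : G → ℂ) + ε₃ / charDegree (χ₃ : G → ℂ)) : ℚ) : ℂ) := by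
      push_cast
      exact h1
    exact_mod_cast this
  have h3' : (T : ℚ) * (d : ℚ) ^ 2 = 2 * (c : ℚ) ^ 2 := by exact_mod_cast h3
  have hc' : (c : ℚ) = 4 * o := by exact_mod_cast hc
  have hidx' : (c : ℚ) * k = n := by exact_mod_cast hidx
  rw [hQ] at h3'
  have hk : (k : ℚ) = n / c := by rw [← hidx']; field_simp
  have ho : (o : ℚ) = c / 4 := by rw [hc']; ring
  rw [hk, ho] at h3'
  field_simp at h3'
  field_simp
  linarith

end Final

end Cfsg.Agent.H608.Klein
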