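import Mathlib
import Cfsg.Agent.H608.F5Loc
import Cfsg.Agent.H645.Watanabe

/-!
# The ranks of the local blocks for the defect groups `Q₈ × C₂` and `Q₈ * C₄`

`a` is a maximal Brauer pair of the 2-block `B` with `IsGe a.1 z`.

* `rank_noncentral`: `l(b_u) = 1` for noncentral `u`;
* `rank_c`: `l(b_c) ≤ 3` for central `c ≠ 1, z`;
* `rank_z`: `l(b_z)` is 1 or 3.
-/

set_option autoImplicit false
set_option linter.unusedSectionVars false

open Cfsg

namespace Cfsg.Agent.H608.F5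

section grp

variable {G : Type*} [Group G] [Finite G] {P : Subgroup G} {z : G}

theorem IsGe.card_center (h : IsGe P z) :
    Nat.card (P ⊓ Subgroup.centralizer (P : Set G) : Subgroup G) = 4 := by
  classical
  obtain ⟨c, hc, hcc, hc1, hcz, hcen⟩ := h.exists_c
  have hcz' : c * z ≠ 1 := by
    intro h1
    apply hcz
    rw [← h.z_inv]
    exact eq_inv_of_mul_eq_one_left h1
  have h1 : ((P ⊓ Subgroup.centralizer (P : Set G) : Subgroup G) : Set G) =
      (({1, z, c, c * z} : Finset G) : Set G) := by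
    ext w
    simp only [Finset.coe_insert, Finset.coe_singleton, Set.mem_insert_iff,
      Set.mem_singleton_iff, SetLike.mem_coe, Subgroup.mem_inf]
    constructor
    · rintro ⟨hw, hwc⟩
      exact hcen w hw fun y hy => (Subgroup.mem_centralizer_iff.1 hwc y hy).symm
    · rintro (rfl | rfl | rfl | rfl)
      · exact ⟨P.one_mem, Subgroup.one_mem _⟩
      · exact ⟨h.mem, Subgroup.mem_centralizer_iff.2 fun y hy => (h.z_comm hy).symm⟩
      · exact ⟨hc, Subgroup.mem_centralizer_iff.2 fun y hy => (hcc y hy).symm⟩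
      · refine ⟨P.mul_mem hc h.mem, Subgroup.mem_centralizer_iff.2 fun y hy => ?_⟩
        calc y * (c * z) = (y * c) * z := by group
          _ = c * (y * z) := by rw [← hcc y hy, mul_assoc]
          _ = c * z * y := by rw [← h.z_comm hy, mul_assoc]
  change ((P ⊓ Subgroup.centralizer (P : Set G) : Subgroup G) : Set G).ncard = 4
  rw [h1, Set.ncard_coe_finset, Finset.card_insert_of_notMem, Finset.card_insert_of_notMem,
    Finset.card_insert_of_notMem, Finset.card_singleton]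
  · rw [Finset.mem_singleton]
    exact fun h5 => h.ne (left_eq_mul.1 h5)
  · simp only [Finset.mem_insert, Finset.mem_singleton, not_or]
    exact ⟨Ne.symm hcz, fun h5 => hc1 (right_eq_mul.1 h5)⟩
  · simp only [Finset.mem_insert, Finset.mem_singleton, not_or]
    exact ⟨Ne.symm h.ne, Ne.symm hc1, Ne.symm hcz'⟩

/-- Commuting noncentral elements agree modulo the centre. -/
theorem IsGe.inv_mul_central (h : IsGe P z) {x w : G} (hx : x ∈ P) (hw : w ∈ P)
    (hxn : ¬ ∀ y ∈ P, x * y = y * x) (hwn : ¬ ∀ y ∈ P, w * y = y * w) (hxw : w * x = x * w) :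
    ∀ y ∈ P, x⁻¹ * w * y = y * (x⁻¹ * w) := by
  set W : Subgroup G := P ⊓ Subgroup.centralizer (P : Set G) with hW
  set A : Subgroup G := P ⊓ Subgroup.centralizer ({x} : Set G) with hA
  have hW4 : Nat.card W = 4 := h.card_center
  have hA8 : Nat.card A = 8 := by
    push Not at hxn
    obtain ⟨y, hy, hty⟩ := hxn
    exact card_eq_half inf_le_left (n := 8) h.card (h.card_le le_rfl hx) hy (fun h1 =>
      hty (Subgroup.mem_centralizer_singleton_iff.1 (Subgroup.mem_inf.1 h1).2).symm)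
  have hWA : W ≤ A := by
    refine le_inf inf_le_left fun w hw => ?_
    rw [Subgroup.mem_centralizer_singleton_iff]
    exact (Subgroup.mem_centralizer_iff.1 (Subgroup.mem_inf.1 hw).2 x hx).symm
  have hmemW : ∀ {w : G}, w ∈ W ↔ w ∈ P ∧ ∀ y ∈ P, w * y = y * w := by
    intro w
    rw [hW, Subgroup.mem_inf, Subgroup.mem_centralizer_iff]
    exact ⟨fun h1 => ⟨h1.1, fun y hy => (h1.2 y hy).symm⟩,
      fun h1 => ⟨h1.1, fun y hy => (h1.2 y hy).symm⟩⟩
  have hidx : (W.subgroupOf A).index = 2 := by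
    have h1 := Subgroup.card_mul_index (W.subgroupOf A)
    rw [Nat.card_congr (Subgroup.subgroupOfEquivOfLe hWA).toEquiv, hW4, hA8] at h1
    omega
  have hxA : x ∈ A := Subgroup.mem_inf.2 ⟨hx, Subgroup.mem_centralizer_singleton_iff.2 rfl⟩
  have hwA : w ∈ A := Subgroup.mem_inf.2 ⟨hw, Subgroup.mem_centralizer_singleton_iff.2 hxw⟩
  have hxW : x⁻¹ ∉ W := fun h1 => hxn (hmemW.1 (by simpa using W.inv_mem h1)).2
  have hwW : w ∉ W := fun h1 => hwn (hmemW.1 h1).2
  have h1 := (Subgroup.mul_mem_iff_of_index_two hidx (a := ⟨x⁻¹, A.inv_mem hxA⟩)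
    (b := ⟨w, hwA⟩)).2 (by
      rw [Subgroup.mem_subgroupOf, Subgroup.mem_subgroupOf]
      exact ⟨fun h1 => absurd h1 hxW, fun h1 => absurd h1 hwW⟩)
  exact (hmemW.1 h1).2

/-- If the centre is elementary abelian then the noncentral elements have order four. -/
theorem IsGe.sq_eq (h : IsGe P z) {c : G} (hc : c ∈ P) (hcc : ∀ y ∈ P, c * y = y * c)
    (hc1 : c ≠ 1) (hcz : c ≠ z)
    (hcen : ∀ w ∈ P, (∀ y ∈ P, w * y = y * w) → w = 1 ∨ w = z ∨ w = c ∨ w = c * z)
    (hc2 : c * c = 1) {w : G} (hw : w ∈ P) (hwn : ¬ ∀ y ∈ P, w * y = y * w) : w * w = z := by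
  refine (h.sq w hw).resolve_left fun hww => ?_
  have hA8 : Nat.card (P ⊓ Subgroup.centralizer ({w} : Set G) : Subgroup G) = 8 := by
    push Not at hwn
    obtain ⟨y, hy, hty⟩ := hwn
    exact card_eq_half inf_le_left (n := 8) h.card (h.card_le le_rfl hw) hy (fun h1 =>
      hty (Subgroup.mem_centralizer_singleton_iff.1 (Subgroup.mem_inf.1 h1).2).symm)
  obtain ⟨v, hv, hvv⟩ := h.no8 _ inf_le_left hA8
  apply hvv
  obtain ⟨hvP, hvw⟩ := Subgroup.mem_inf.1 hv
  rw [Subgroup.mem_centralizer_singleton_iff] at hvw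
  have hsqc : ∀ w ∈ P, (∀ y ∈ P, w * y = y * w) → w * w = 1 := by
    intro w hw hwc
    rcases hcen w hw hwc with rfl | rfl | rfl | rfl
    · exact one_mul 1
    · exact h.zz
    · exact hc2
    · calc c * z * (c * z) = c * (z * c) * z := by group
        _ = (c * c) * (z * z) := by rw [h.z_comm hc]; group
        _ = 1 := by rw [hc2, h.zz, one_mul]
  by_cases hvn : ∀ y ∈ P, v * y = y * v
  · exact hsqc v hvP hvn
  · have h1 := h.inv_mul_central hw hvP hwn hvn hvw
    have h2 := hsqc _ (P.mul_mem (P.inv_mem hw) hvP) h1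
    have h3 : v * v = (w * w) * ((w⁻¹ * v) * (w⁻¹ * v)) := by
      calc v * v = (w * (w⁻¹ * v)) * (w * (w⁻¹ * v)) := by group
        _ = w * ((w⁻¹ * v) * w) * (w⁻¹ * v) := by group
        _ = _ := by rw [h1 w hw]; group
    rw [h3, hww, h2, one_mul]

end grp

open Cfsg.Agent.Blocks.Blau Cfsg.Agent.Blocks.Local Cfsg.Agent.Characters
open Cfsg.Agent.H613.SubSys Cfsg.Agent.H613.SubFus
open Cfsg.Agent.H639 Cfsg.Agent.H649 Cfsg.Agent.H651
open Cfsg.Agent.H645.FusCount (stab mem_stab)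
open Cfsg.Agent.H644 (isMaximalBrauerPair_of_isDefectGroup isDefectGroup_of_isMaximalBrauerPair)
open Cfsg.Agent.H619.Tame (Cl rep mkCl rep_mem rep_ne isSys_rep IsTm isNilpotentBlock_bel_fus
  main_quat)

universe u

variable {G : Type u} [Group G] [Finite G] {M : Ideal AlgInt} {B : Set (IrrCharacter G)}
  {a : BrauerPairIdx G} {z : G}

/-- Fusion is controlled by the stabilizer. -/
theorem IsGe.exists_stab (h : IsGe a.1 z) (hM : IsPModular 2 M)
    (hmax : IsMaximalBrauerPair 2 M B a.1 a.2) {u v : G} (hu : u ∈ a.1) (hv : v ∈ a.1)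
    (hf : Fus 2 M a u v) : ∃ t ∈ stab a, t * u * t⁻¹ = v := by
  have : Fact (Nat.Prime 2) := ⟨Nat.prime_two⟩
  exact exists_stab_of_fus hM hmax (fun F hF => h.isNormal F hF) hu hv hf

theorem rank_noncentral (h : IsGe a.1 z) (hM : IsPModular 2 M)
    (hmax : IsMaximalBrauerPair 2 M B a.1 a.2) {u : G} (hu : u ∈ a.1)
    (hun : ¬ ∀ y ∈ a.1, u * y = y * u) : blockRank 2 (bel 2 M a u).2 = 1 := by
  have : Fact (Nat.Prime 2) := ⟨Nat.prime_two⟩
  refine H613.NilRank.rank_one hM (isNilpotentBlock_bel_fus hM hmax hu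
    fun E t hE ht hf g hg hgt hodd => ?_)
  refine h.mem_centralizer hE ht (fun hcon => hun ?_) hg hgt hodd
  obtain ⟨s, hs, hst⟩ := h.exists_stab hM hmax hu (hE ht) hf
  intro y hy
  have h1 := hcon _ (stab_conj_mem hs hy)
  rw [← hst] at h1
  have h2 : s * (u * y) * s⁻¹ = s * (y * u) * s⁻¹ := by
    calc s * (u * y) * s⁻¹ = s * u * s⁻¹ * (s * y * s⁻¹) := by group
      _ = s * y * s⁻¹ * (s * u * s⁻¹) := h1
      _ = _ := by group
  exact mul_left_cancel (mul_right_cancel h2)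

/-- The order of the defect group of the dominated block. -/
theorem card_mul_orderOf {c : G} (hc : c ∈ a.1) (hcc : ∀ y ∈ a.1, c * y = y * c) {K : Type u}
    [Group K] [Finite K] {d : Subgroup K}
    {ρ : Subgroup.centralizer ((Subgroup.zpowers c : Subgroup G) : Set G) →* K}
    (hsurj : Function.Surjective ρ) (hker : ∀ x, ρ x = 1 ↔ (x : G) ∈ Subgroup.zpowers c)
    (hmem : ∀ x, ρ x ∈ d ↔ (x : G) ∈ a.1) : Nat.card d * orderOf c = Nat.card a.1 := by
  have hPC := le_centralizer_zpowers hcc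
  let σ : a.1 →* K := ρ.comp (Subgroup.inclusion hPC)
  have h1 : σ.range = d := by
    ext y
    constructor
    · rintro ⟨x, rfl⟩
      exact (hmem _).2 x.2
    · intro hy
      obtain ⟨x, rfl⟩ := hsurj y
      exact ⟨⟨x, (hmem _).1 hy⟩, rfl⟩
  have h2 : σ.ker = (Subgroup.zpowers c).subgroupOf a.1 := by
    ext x
    rw [MonoidHom.mem_ker, Subgroup.mem_subgroupOf]
    exact hker _
  have h3 := Subgroup.card_mul_index σ.ker
  rw [Subgroup.index_ker, h1, h2, Nat.card_congr (Subgroup.subgroupOfEquivOfLe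
    (show Subgroup.zpowers c ≤ a.1 by rwa [Subgroup.zpowers_le])).toEquiv, Nat.card_zpowers] at h3
  rw [mul_comm]
  exact h3

theorem mem_zpowers_of_sq {c w : G} (hc : c * c = 1) (hw : w ∈ Subgroup.zpowers c) :
    w = 1 ∨ w = c := by
  obtain ⟨k, rfl⟩ := Subgroup.mem_zpowers_iff.1 hw
  rcases Int.even_or_odd' k with ⟨m, rfl | rfl⟩
  · left
    rw [zpow_mul, zpow_two, hc, one_zpow]
  · right
    rw [zpow_add, zpow_mul, zpow_two, hc, one_zpow, zpow_one, one_mul]

theorem rank_c (h : IsGe a.1 z) (hM : IsPModular 2 M)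
    (hmax : IsMaximalBrauerPair 2 M B a.1 a.2) {c : G} (hc : c ∈ a.1)
    (hcc : ∀ y ∈ a.1, c * y = y * c) (hc1 : c ≠ 1) (hcz : c ≠ z)
    (hcen : ∀ w ∈ a.1, (∀ y ∈ a.1, w * y = y * w) → w = 1 ∨ w = z ∨ w = c ∨ w = c * z) :
    blockRank 2 (bel 2 M a c).2 ≤ 3 := by
  have : Fact (Nat.Prime 2) := ⟨Nat.prime_two⟩
  have := isPrime_of_isPModular hM
  obtain ⟨K, _, _, b, d, ρ, hmax', hrank, hsurj, hker, hmem⟩ := exists_defl hM hmax hc hcc
  rw [← hrank]
  have hcard := card_mul_orderOf hc hcc hsurj hker hmem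
  rw [h.card] at hcard
  have := Fintype.ofFinite K
  rcases h.sq c hc with hc2 | hc2
  · -- `P / ⟨c⟩` is a quaternion group
    have hPC := le_centralizer_zpowers hcc
    have hord : orderOf c = 2 := orderOf_eq_prime (by rw [pow_two, hc2]) hc1
    obtain ⟨x, hx, y, hy, hxy⟩ := h.na
    have hxn : ¬ ∀ y ∈ a.1, x * y = y * x := fun h1 => hxy (h1 y hy)
    have hsq : ∀ {w : G}, w ∈ a.1 → (¬ ∀ y ∈ a.1, w * y = y * w) → w * w = z := fun hw hwn =>
      h.sq_eq hc hcc hc1 hcz hcen hc2 hw hwn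
    let r : a.1 →* K := ρ.comp (Subgroup.inclusion hPC)
    have hr1 : ∀ w : a.1, r w = 1 ↔ (w : G) = 1 ∨ (w : G) = c := by
      intro w
      refine (hker _).trans ⟨fun h1 => mem_zpowers_of_sq hc2 h1, ?_⟩
      rintro (h1 | h1)
      · change (w : G) ∈ _
        rw [h1]; exact Subgroup.one_mem _
      · change (w : G) ∈ _
        rw [h1]; exact Subgroup.mem_zpowers _
    have hrsurj : ∀ v ∈ d.1, ∃ w : a.1, r w = v := by
      intro v hv
      obtain ⟨x, rfl⟩ := hsurj v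
      exact ⟨⟨x, (hmem _).1 hv⟩, rfl⟩
    have hrmem : ∀ w : a.1, r w ∈ d.1 := fun w => (hmem _).2 w.2
    have hz1 : r ⟨z, h.mem⟩ ≠ 1 := by
      rw [Ne, hr1]
      push Not
      exact ⟨h.ne, Ne.symm hcz⟩
    have hxx : r ⟨x, hx⟩ * r ⟨x, hx⟩ = r ⟨z, h.mem⟩ := by
      rw [← map_mul]
      congr 1
      exact Subtype.ext (hsq hx hxn)
    have hzz : r ⟨z, h.mem⟩ * r ⟨z, h.mem⟩ = 1 := by
      rw [← map_mul, ← map_one r]
      congr 1
      exact Subtype.ext h.zz
    have hord4 : orderOf (r ⟨x, hx⟩) = 2 ^ (1 + 1) := by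
      refine orderOf_eq_prime_pow ?_ ?_
      · rw [pow_one, pow_two, hxx]; exact hz1
      · have h1 : (r ⟨x, hx⟩) ^ 2 ^ (1 + 1) = (r ⟨x, hx⟩ * r ⟨x, hx⟩) *
            (r ⟨x, hx⟩ * r ⟨x, hx⟩) := by
          simp only [pow_succ, pow_zero, one_mul, mul_assoc, pow_one]
          norm_num [pow_succ, mul_assoc]
        rw [h1, hxx, hzz]
    -- elements outside of `⟨x⟩`
    have hout : ∀ w : a.1, r w ∉ Subgroup.zpowers (r ⟨x, hx⟩) →
        (¬ ∀ y ∈ a.1, (w : G) * y = y * w) ∧ (w : G) * x ≠ x * w := by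
      intro w hw
      have hcenw : ∀ v : a.1, (∀ y ∈ a.1, (v : G) * y = y * v) →
          r v ∈ Subgroup.zpowers (r ⟨x, hx⟩) := by
        intro v hv
        have hzmem : r ⟨z, h.mem⟩ ∈ Subgroup.zpowers (r ⟨x, hx⟩) := by
          rw [← hxx]
          exact Subgroup.mul_mem _ (Subgroup.mem_zpowers _) (Subgroup.mem_zpowers _)
        rcases hcen v v.2 hv with h1 | h1 | h1 | h1
        · rw [(hr1 v).2 (Or.inl h1)]; exact Subgroup.one_mem _
        · have h2 : v = ⟨z, h.mem⟩ := Subtype.ext h1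
          rw [h2]; exact hzmem
        · rw [(hr1 v).2 (Or.inr h1)]; exact Subgroup.one_mem _
        · have h2 : v = ⟨c, hc⟩ * ⟨z, h.mem⟩ := Subtype.ext h1
          rw [h2, map_mul, (hr1 ⟨c, hc⟩).2 (Or.inr rfl), one_mul]
          exact hzmem
      have hwn : ¬ ∀ y ∈ a.1, (w : G) * y = y * w := fun h1 => hw (hcenw w h1)
      refine ⟨hwn, fun h1 => hw ?_⟩
      have h2 := h.inv_mul_central hx w.2 hxn hwn h1
      have h3 := hcenw (⟨x, hx⟩⁻¹ * w) h2
      have h4 : r w = r ⟨x, hx⟩ * r (⟨x, hx⟩⁻¹ * w) := by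
        rw [← map_mul, mul_inv_cancel_left]
      rw [h4]
      exact Subgroup.mul_mem _ (Subgroup.mem_zpowers _) h3
    have hTm : IsTm d.1 (r ⟨x, hx⟩) 1 3 :=
      { pos := le_rfl
        mem := hrmem _
        ord := hord4
        card := by rw [hord] at hcard; omega
        hm := Or.inl rfl
        sq := by
          intro v hv hvx
          obtain ⟨w, rfl⟩ := hrsurj v hv
          right
          rw [pow_one, pow_two, hxx, ← map_mul]
          congr 1
          exact Subtype.ext (hsq w.2 (hout w hvx).1)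
        conj := by
          intro v hv hvx
          obtain ⟨w, rfl⟩ := hrsurj v hv
          have h1 := (h.comm w w.2 x hx).resolve_left (hout w hvx).2
          have h2 : w * ⟨x, hx⟩ * w⁻¹ = (⟨z, h.mem⟩ : a.1) * ⟨x, hx⟩ := by
            apply Subtype.ext
            change (w : G) * x * (w : G)⁻¹ = z * x
            rw [h1]; group
          rw [← map_inv, ← map_mul, ← map_mul, h2, map_mul, ← hxx]
          simp only [pow_succ, pow_zero, one_mul] }
    exact (main_quat hM hmax' hTm (by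
      intro v hv hvx
      obtain ⟨w, rfl⟩ := hrsurj v hv
      have h1 : r w * r w = r ⟨z, h.mem⟩ := by
        rw [← map_mul]
        congr 1
        exact Subtype.ext (hsq w.2 (hout w hvx).1)
      rw [h1]
      exact hz1)).2.1
  · -- `P / ⟨c⟩` has order four
    have hord : orderOf c = 4 := by
      have h1 : orderOf c = 2 ^ (1 + 1) := by
        refine orderOf_eq_prime_pow ?_ ?_
        · rw [pow_one, pow_two, hc2]; exact h.ne
        · rw [show (2 : ℕ) ^ (1 + 1) = 4 from rfl]; exact h.pow_four hc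
      rw [h1]
      rfl
    rw [hord] at hcard
    refine rank_le_three_of_dvd_four hM hmax'.1.2.1
      (isDefectGroup_of_isMaximalBrauerPair hM hmax') ?_
    exact ⟨1, by omega⟩

theorem rank_z (h : IsGe a.1 z) (hM : IsPModular 2 M)
    (hmax : IsMaximalBrauerPair 2 M B a.1 a.2) :
    blockRank 2 (bel 2 M a z).2 = 1 ∨ blockRank 2 (bel 2 M a z).2 = 3 := by
  have : Fact (Nat.Prime 2) := ⟨Nat.prime_two⟩
  have := isPrime_of_isPModular hM
  obtain ⟨c, hc, hcc, hc1, hcz, hcen⟩ := h.exists_c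
  obtain ⟨K, _, _, b, d, ρ, hmax', hrank, hsurj, hker, hmem⟩ :=
    exists_defl hM hmax h.mem (fun y hy => h.z_comm hy)
  rw [← hrank]
  have hcard := card_mul_orderOf h.mem (fun y hy => h.z_comm hy) hsurj hker hmem
  have hord : orderOf z = 2 := orderOf_eq_prime (by rw [pow_two, h.zz]) h.ne
  rw [h.card, hord] at hcard
  have hPC := le_centralizer_zpowers (a := a) (c := z) (fun y hy => h.z_comm hy)
  have := Fintype.ofFinite K
  let r : a.1 →* K := ρ.comp (Subgroup.inclusion hPC)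
  have hrsurj : ∀ v ∈ d.1, ∃ w : a.1, r w = v := by
    intro v hv
    obtain ⟨x, rfl⟩ := hsurj v
    exact ⟨⟨x, (hmem _).1 hv⟩, rfl⟩
  have hr1 : ∀ w : a.1, r w = 1 ↔ (w : G) = 1 ∨ (w : G) = z := by
    intro w
    refine (hker _).trans ⟨fun h1 => mem_zpowers_of_sq h.zz h1, ?_⟩
    rintro (h1 | h1)
    · change (w : G) ∈ _
      rw [h1]; exact Subgroup.one_mem _
    · change (w : G) ∈ _
      rw [h1]; exact Subgroup.mem_zpowers _
  have hrz : r ⟨z, h.mem⟩ = 1 := (hr1 _).2 (Or.inr rfl)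
  have hab : ∀ x ∈ d.1, ∀ y ∈ d.1, x * y = y * x := by
    intro x hx y hy
    obtain ⟨x, rfl⟩ := hrsurj x hx
    obtain ⟨y, rfl⟩ := hrsurj y hy
    rw [← map_mul, ← map_mul]
    rcases h.comm x x.2 y y.2 with h1 | h1
    · congr 1
      exact Subtype.ext h1
    · have h2 : x * y = ⟨z, h.mem⟩ * (y * x) := Subtype.ext h1
      rw [h2, map_mul, hrz, one_mul]
  have hcd : r ⟨c, hc⟩ ∈ d.1 := (hmem _).2 hc
  have hc1' : r ⟨c, hc⟩ ≠ 1 := by
    rw [Ne, hr1]
    push Not
    exact ⟨hc1, hcz⟩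
  -- the stabilizer fixes the image of `c`
  have hfix : ∀ t ∈ stab d, t * r ⟨c, hc⟩ * t⁻¹ = r ⟨c, hc⟩ := by
    intro t ht
    obtain ⟨s, rfl⟩ := hsurj t
    have hsN : (s : G) ∈ Subgroup.normalizer (a.1 : Set G) := by
      have h1 : ∀ y ∈ a.1, (s : G) * y * (s : G)⁻¹ ∈ a.1 := by
        intro y hy
        have h2 := stab_conj_mem ht ((hmem ⟨y, hPC hy⟩).2 hy)
        rw [← map_mul, ← map_inv, ← map_mul] at h2
        exact (hmem _).1 h2
      rw [Cfsg.Agent.H649.mem_normalizer_iff_map_conj]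
      refine Subgroup.eq_of_le_of_card_ge ?_ ?_
      · rintro _ ⟨y, hy, rfl⟩
        exact h1 y hy
      · exact (Nat.card_congr (a.1.equivMapOfInjective _
          (MulAut.conj (s : G)).injective).toEquiv).le
    have h1 : ρ s * r ⟨c, hc⟩ * (ρ s)⁻¹ =
        r ⟨(s : G) * c * (s : G)⁻¹, (Subgroup.mem_normalizer_iff.1 hsN c).1 hc⟩ := by
      change ρ s * ρ ⟨c, hPC hc⟩ * (ρ s)⁻¹ = _
      rw [← map_mul, ← map_inv, ← map_mul]
      rfl
    rw [h1]
    rcases h.conj_c hc hcc hc1 hcz hcen hsN with h2 | h2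
    · congr 1
      exact Subtype.ext h2
    · have h3 : (⟨(s : G) * c * (s : G)⁻¹, (Subgroup.mem_normalizer_iff.1 hsN c).1 hc⟩ : a.1) =
        ⟨c, hc⟩ * ⟨z, h.mem⟩ := Subtype.ext h2
      rw [h3, map_mul, hrz, mul_one]
  have h1 := Cfsg.Agent.H645.Watanabe.rank_eq hM hmax' hab hcd hfix
  obtain ⟨b', a', -, h3, h4, h5, -, -⟩ := Cfsg.Agent.H617.AbelRank.exists_local hM hmax' hab hcd
  rw [← h1, ← h3]
  have := Fintype.ofFinite (Subgroup.centralizer ({r ⟨c, hc⟩} : Set K))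
  have hD := isDefectGroup_of_isMaximalBrauerPair hM h5
  rw [h4] at hD
  have hdC : d.1 ≤ Subgroup.centralizer ({r ⟨c, hc⟩} : Set K) := fun x hx =>
    Subgroup.mem_centralizer_singleton_iff.2 (hab x hx _ hcd)
  refine rank_of_central hM h5.1.2.1 hD ?_ (u := ⟨r ⟨c, hc⟩, hdC hcd⟩) hcd ?_ ?_
  · rw [Nat.card_congr (Subgroup.subgroupOfEquivOfLe hdC).toEquiv]
    omega
  · exact fun h6 => hc1' (congrArg Subtype.val h6)
  · rw [Subgroup.mem_center_iff]
    intro g
    exact Subtype.ext (Subgroup.mem_centralizer_singleton_iff.1 g.2)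

end Cfsg.Agent.H608.F5
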