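import Mathlib
import Cfsg.Agent.H608.F5Loc2
import Cfsg.Agent.H617.OlssonMain

/-!
# 2-blocks with defect groups `Q₈ × C₂` and `Q₈ * C₄`

`rank_le_three`: a 2-block with a maximal Brauer pair `a` with `IsGe a.1 z` (`a.1` is nonabelian of
order 16 with squares and commutators in `{1, z}` and without elementary abelian subgroups of order
8, i.e. `a.1 ≅ Q₈ × C₂` or `Q₈ * C₄`) has at most three irreducible Brauer characters.
-/

set_option autoImplicit false
set_option linter.unusedSectionVars false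

open Cfsg

namespace Cfsg.Agent.H608.F5

open Cfsg.Agent.Blocks.Blau Cfsg.Agent.Blocks.Local Cfsg.Agent.Characters
open Cfsg.Agent.H613.SubSys Cfsg.Agent.H613.SubFus
open Cfsg.Agent.H639 Cfsg.Agent.H649 Cfsg.Agent.H651
open Cfsg.Agent.H645.FusCount (stab mem_stab)
open Cfsg.Agent.H644 (isMaximalBrauerPair_of_isDefectGroup isDefectGroup_of_isMaximalBrauerPair)
open Cfsg.Agent.H619.Tame (Cl rep mkCl rep_mem rep_ne isSys_rep fus_rep_mk mkCl_eq_iff
  eq_mkCl_iff eq_of_fus_rep rank_fus)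

universe u

variable {G : Type u} [Group G] [Finite G] {M : Ideal AlgInt} {B : Set (IrrCharacter G)}
  {a : BrauerPairIdx G} {z : G}

theorem fus_of_stab (hM : IsPModular 2 M) (hmax : IsMaximalBrauerPair 2 M B a.1 a.2) {u t : G}
    (hu : u ∈ a.1) (ht : t ∈ stab a) : Fus 2 M a u (t * u * t⁻¹) :=
  ⟨t, rfl, conjIdx_bel hM hmax.1.1 ht hu⟩

theorem l_z {P : Subgroup G} (h : IsGe P z) (l : P →* ℂˣ) : l ⟨z, h.mem⟩ = 1 := by
  obtain ⟨x, hx, y, hy, hxy⟩ := h.na
  have h2 := (h.comm x hx y hy).resolve_left hxy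
  have h3 : (⟨z, h.mem⟩ : P) * (⟨y, hy⟩ * ⟨x, hx⟩) = ⟨x, hx⟩ * ⟨y, hy⟩ := Subtype.ext h2.symm
  have h4 := congrArg l h3
  rw [map_mul, map_mul, map_mul, mul_comm (l ⟨y, hy⟩)] at h4
  exact mul_eq_right.1 h4

theorem exists_mu {P : Subgroup G} (h : IsGe P z) {c : G} (hc : c ∈ P) (hc1 : c ≠ 1)
    (hcz : c ≠ z) : ∃ μ : P →* ℂˣ, ((μ ⟨c, hc⟩ : ℂˣ) : ℂ) = -1 := by
  have hne : Abelianization.of (⟨c, hc⟩ : P) ≠ 1 := by
    intro h1
    have h2 : (⟨c, hc⟩ : P) ∈ commutator P := by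
      rw [← Abelianization.ker_of P]
      exact h1
    rw [h.card_commutator.1] at h2
    rcases mem_zpowers_of_sq (Subtype.ext h.zz) h2 with h3 | h3
    · exact hc1 (congrArg Subtype.val h3)
    · exact hcz (congrArg Subtype.val h3)
  have hfin : Finite (Abelianization P) := inferInstance
  obtain ⟨φ, hφ⟩ := CommGroup.exists_apply_ne_one_of_hasEnoughRootsOfUnity
    (Abelianization P) ℂ hne
  refine ⟨φ.comp Abelianization.of, ?_⟩
  set w : ℂˣ := (φ.comp Abelianization.of) ⟨c, hc⟩ with hw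
  have h1 : w * w = 1 := by
    rw [hw, ← map_mul]
    rcases h.sq c hc with h2 | h2
    · have h3 : (⟨c, hc⟩ : P) * ⟨c, hc⟩ = 1 := Subtype.ext h2
      rw [h3, map_one]
    · have h3 : (⟨c, hc⟩ : P) * ⟨c, hc⟩ = ⟨z, h.mem⟩ := Subtype.ext h2
      rw [h3]
      exact l_z h _
  have h2 : (w : ℂ) * w = 1 := by
    have h3 := congrArg Units.val h1
    rwa [Units.val_mul, Units.val_one] at h3
  rcases mul_self_eq_one_iff.1 h2 with h3 | h3
  · exact absurd (Units.ext h3) hφ
  · exact h3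

/-- **2-blocks with defect groups `Q₈ × C₂` and `Q₈ * C₄`.** -/
theorem rank_le_three (h : IsGe a.1 z) (hM : IsPModular 2 M)
    (hmax : IsMaximalBrauerPair 2 M B a.1 a.2) : blockRank 2 B ≤ 3 := by
  classical
  have : Fact (Nat.Prime 2) := ⟨Nat.prime_two⟩
  have := isPrime_of_isPModular hM
  have := Fintype.ofFinite G
  obtain ⟨c, hc, hcc, hc1, hcz, hcen⟩ := h.exists_c
  obtain ⟨μ, hμ⟩ := exists_mu h hc hc1 hcz
  obtain ⟨l, m, hm, hlinv, hlfix⟩ := exists_stable_hom hM hmax μ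
  have hstabc : ∀ t ∈ stab a, t * c * t⁻¹ = c := fun t ht =>
    h.stab_comm hM hmax hc hcc hc1 hcz hcen ht
  have hstabz : ∀ t ∈ stab a, t * z * t⁻¹ = z := fun t ht => h.conj_z (stab_le_normalizer ht)
  -- the value at `c`
  have hlc : ((l ⟨c, hc⟩ : ℂˣ) : ℂ) = -1 := by
    rw [hlfix ⟨c, hc⟩ fun s => Subtype.ext (hstabc s s.2), Units.val_pow_eq_pow_val, hμ]
    exact Odd.neg_one_pow (by rwa [← Nat.not_even_iff_odd, even_iff_two_dvd])
  have hlz := l_z h l
  have hlstab : ∀ (u : G) (hu : u ∈ a.1) (t : G) (ht : t ∈ stab a),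
      l ⟨t * u * t⁻¹, stab_conj_mem ht hu⟩ = l ⟨u, hu⟩ := fun u hu t ht =>
    hlinv ⟨t, ht⟩ ⟨u, hu⟩
  have hlfus : ∀ (u v : G) (hu : u ∈ a.1) (hv : v ∈ a.1), Fus 2 M a u v →
      l ⟨v, hv⟩ = l ⟨u, hu⟩ := by
    intro u v hu hv hf
    obtain ⟨t, ht, htu⟩ := h.exists_stab hM hmax hu hv hf
    subst htu
    exact hlstab u hu t ht
  -- the two equations
  have e1 := Cfsg.Agent.H602.Small.sum_rank_eq_zero hM hmax rep_mem (isSys_rep hM hmax) l hlfus
    hc (fun d hd => (hcc d hd).symm) (fun h1 => by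
      rw [h1, Units.val_one] at hlc
      norm_num at hlc)
  have e2 := (isSys_rep hM hmax).card_eq hM hmax.1.2.1
  -- the central classes
  have hczm : c * z ∈ a.1 := a.1.mul_mem hc h.mem
  have hcz1 : c * z ≠ 1 := by
    intro h1
    apply hcz
    rw [← h.z_inv]
    exact eq_inv_of_mul_eq_one_left h1
  have hstabcz : ∀ t ∈ stab a, t * (c * z) * t⁻¹ = c * z := by
    intro t ht
    calc t * (c * z) * t⁻¹ = (t * c * t⁻¹) * (t * z * t⁻¹) := by group
      _ = c * z := by rw [hstabc t ht, hstabz t ht]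
  have hczc : ∀ y ∈ a.1, c * z * y = y * (c * z) := by
    intro y hy
    calc c * z * y = c * (z * y) := by group
      _ = c * y * z := by rw [h.z_comm hy]; group
      _ = y * (c * z) := by rw [hcc y hy]; group
  have hrep : ∀ (w : G) (hw : w ∈ a.1) (hw1 : w ≠ 1), (∀ t ∈ stab a, t * w * t⁻¹ = w) →
      rep (mkCl M a w hw hw1) = w := by
    intro w hw hw1 hfix
    obtain ⟨t, ht, htw⟩ := h.exists_stab hM hmax (rep_mem _) hw (fus_rep_mk (M := M) hw hw1)
    have h1 := hfix _ ((stab a).inv_mem ht)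
    rw [← htw] at h1
    have h2 : t⁻¹ * (t * rep (mkCl M a w hw hw1) * t⁻¹) * t⁻¹⁻¹ = rep (mkCl M a w hw hw1) := by
      group
    rw [h2] at h1
    rw [htw] at h1
    exact h1
  set iz : Cl M a := mkCl M a z h.mem h.ne with hiz
  set ic : Cl M a := mkCl M a c hc hc1 with hic
  set icz : Cl M a := mkCl M a (c * z) hczm hcz1 with hicz
  have riz : rep iz = z := hrep z h.mem h.ne hstabz
  have ric : rep ic = c := hrep c hc hc1 hstabc
  have ricz : rep icz = c * z := hrep _ hczm hcz1 hstabcz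
  have n1 : iz ≠ ic := fun h1 => hcz (by rw [← ric, ← h1, riz])
  have n2 : iz ≠ icz := fun h1 => hc1 (by
    have h2 : c * z = z := by rw [← ricz, ← h1, riz]
    exact mul_eq_right.1 h2)
  have n3 : ic ≠ icz := fun h1 => h.ne (by
    have h2 : c * z = c := by rw [← ricz, ← h1, ric]
    exact mul_eq_left.1 h2)
  -- the other classes
  set T : Finset (Cl M a) := Finset.univ.filter fun i => ¬ ∀ y ∈ a.1, rep i * y = y * rep i with hT
  have hmemT : ∀ {i : Cl M a}, i ∈ T ↔ ¬ ∀ y ∈ a.1, rep i * y = y * rep i := by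
    intro i
    rw [hT, Finset.mem_filter]
    exact ⟨fun h1 => h1.2, fun h1 => ⟨Finset.mem_univ _, h1⟩⟩
  have hcompl : Finset.univ.filter (fun i : Cl M a => ∀ y ∈ a.1, rep i * y = y * rep i) =
      {iz, ic, icz} := by
    ext i
    rw [Finset.mem_filter, Finset.mem_insert, Finset.mem_insert, Finset.mem_singleton]
    constructor
    · rintro ⟨-, h1⟩
      rcases hcen _ (rep_mem i) h1 with h2 | h2 | h2 | h2
      · exact absurd h2 (rep_ne i)
      · left
        apply eq_of_fus_rep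
        rw [riz, h2]
        exact Fus.refl _
      · right; left
        apply eq_of_fus_rep
        rw [ric, h2]
        exact Fus.refl _
      · right; right
        apply eq_of_fus_rep
        rw [ricz, h2]
        exact Fus.refl _
    · rintro (rfl | rfl | rfl)
      · exact ⟨Finset.mem_univ _, by rw [riz]; exact fun y hy => h.z_comm hy⟩
      · exact ⟨Finset.mem_univ _, by rw [ric]; exact hcc⟩
      · exact ⟨Finset.mem_univ _, by rw [ricz]; exact hczc⟩
  have hsplit : ∀ {R : Type} [AddCommMonoid R] (f : Cl M a → R),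
      ∑ i, f i = f iz + (f ic + f icz) + ∑ i ∈ T, f i := by
    intro R _ f
    rw [← Finset.sum_filter_add_sum_filter_not Finset.univ
      (fun i : Cl M a => ∀ y ∈ a.1, rep i * y = y * rep i) f, hcompl, Finset.sum_insert,
      Finset.sum_insert, Finset.sum_singleton]
    · rw [Finset.mem_singleton]; exact n3
    · rw [Finset.mem_insert, Finset.mem_singleton, not_or]; exact ⟨n1, n2⟩
  have hrankT : ∀ i ∈ T, blockRank 2 (bel 2 M a (rep i)).2 = 1 := fun i hi =>
    rank_noncentral h hM hmax (rep_mem i) (hmemT.1 hi)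
  -- multiplication by `c`
  have hnc : ∀ i ∈ T, rep i * c ≠ 1 ∧ ¬ ∀ y ∈ a.1, rep i * c * y = y * (rep i * c) := by
    intro i hi
    have h1 : ¬ ∀ y ∈ a.1, rep i * c * y = y * (rep i * c) := by
      intro h1
      apply hmemT.1 hi
      intro y hy
      have h2 := h1 y hy
      have h3 : rep i * c * y = rep i * y * c := by rw [mul_assoc, hcc y hy, mul_assoc]
      rw [h3, ← mul_assoc] at h2
      exact mul_right_cancel h2
    refine ⟨fun h2 => h1 ?_, h1⟩
    rw [h2]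
    intro y _
    rw [one_mul, mul_one]
  let g : Cl M a → Cl M a := fun i =>
    if hi : rep i * c ≠ 1 then mkCl M a (rep i * c) (a.1.mul_mem (rep_mem i) hc) hi else i
  have hg : ∀ i ∈ T, Fus 2 M a (rep (g i)) (rep i * c) := by
    intro i hi
    have h1 : g i = mkCl M a (rep i * c) (a.1.mul_mem (rep_mem i) hc) (hnc i hi).1 :=
      dif_pos (hnc i hi).1
    rw [h1]
    exact fus_rep_mk _ _
  have hfusT : ∀ {u v : G}, u ∈ a.1 → v ∈ a.1 → Fus 2 M a u v →
      (∀ y ∈ a.1, u * y = y * u) → ∀ y ∈ a.1, v * y = y * v := by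
    intro u v hu hv hf hcu y hy
    obtain ⟨t, ht, rfl⟩ := h.exists_stab hM hmax hu hv hf
    have h1 := hcu _ (stab_conj_mem ((stab a).inv_mem ht) hy)
    calc t * u * t⁻¹ * y = t * (u * (t⁻¹ * y * t⁻¹⁻¹)) * t⁻¹ := by group
      _ = y * (t * u * t⁻¹) := by rw [h1]; group
  have hgT : ∀ i ∈ T, g i ∈ T := by
    intro i hi
    rw [hmemT]
    intro h1
    exact (hnc i hi).2 (hfusT (rep_mem _) (a.1.mul_mem (rep_mem i) hc) (hg i hi) h1)
  have hginj : Set.InjOn g (T : Set (Cl M a)) := by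
    intro i hi j hj hij
    have hi' : i ∈ T := hi
    have hj' : j ∈ T := hj
    have h1 : Fus 2 M a (rep i * c) (rep j * c) := by
      have h2 := (hg i hi').symm
      rw [hij] at h2
      exact h2.trans (hg j hj')
    obtain ⟨t, ht, htu⟩ := h.exists_stab hM hmax (a.1.mul_mem (rep_mem i) hc)
      (a.1.mul_mem (rep_mem j) hc) h1
    have h3 : t * (rep i * c) * t⁻¹ = t * rep i * t⁻¹ * c := by
      calc t * (rep i * c) * t⁻¹ = t * rep i * t⁻¹ * (t * c * t⁻¹) := by group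
        _ = _ := by rw [hstabc t ht]
    rw [h3] at htu
    have h4 : t * rep i * t⁻¹ = rep j := mul_right_cancel htu
    apply eq_of_fus_rep
    rw [← h4]
    exact fus_of_stab hM hmax (rep_mem i) ht
  have hlg : ∀ i ∈ T, ((l ⟨rep (g i), rep_mem (g i)⟩ : ℂˣ) : ℂ) =
      - ((l ⟨rep i, rep_mem i⟩ : ℂˣ) : ℂ) := by
    intro i hi
    rw [← hlfus _ _ (rep_mem (g i)) (a.1.mul_mem (rep_mem i) hc) (hg i hi)]
    have h1 : (⟨rep i * c, a.1.mul_mem (rep_mem i) hc⟩ : a.1) = ⟨rep i, rep_mem i⟩ * ⟨c, hc⟩ :=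
      rfl
    rw [h1, map_mul, Units.val_mul, hlc, mul_neg_one]
  have hsumT : ∑ i ∈ T, ((l ⟨rep i, rep_mem i⟩ : ℂˣ) : ℂ) = 0 := by
    have h1 : ∑ i ∈ T, ((l ⟨rep (g i), rep_mem (g i)⟩ : ℂˣ) : ℂ) =
        ∑ i ∈ T, ((l ⟨rep i, rep_mem i⟩ : ℂˣ) : ℂ) := by
      refine Finset.sum_nbij g hgT hginj ?_ fun i _ => rfl
      exact Finset.surjOn_of_injOn_of_card_le g hgT hginj le_rfl
    rw [Finset.sum_congr rfl hlg, Finset.sum_neg_distrib] at h1
    have h2 : (2 : ℂ) * ∑ i ∈ T, ((l ⟨rep i, rep_mem i⟩ : ℂˣ) : ℂ) = 0 := by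
      linear_combination -h1
    rcases mul_eq_zero.1 h2 with h3 | h3
    · norm_num at h3
    · exact h3
  -- at least two noncentral classes
  have hcardT : 2 ≤ T.card := by
    obtain ⟨x, hx, y, hy, hxy⟩ := h.na
    have hx1 : x ≠ 1 := by
      rintro rfl
      exact hxy (by rw [one_mul, mul_one])
    have hi : mkCl M a x hx hx1 ∈ T := by
      rw [hmemT]
      intro h1
      exact hxy (hfusT (rep_mem _) hx (fus_rep_mk (M := M) hx hx1) h1 y hy)
    have hne : g (mkCl M a x hx hx1) ≠ mkCl M a x hx hx1 := by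
      intro h1
      have h2 := hlg _ hi
      rw [h1] at h2
      have h3 : (2 : ℂ) * ((l ⟨rep (mkCl M a x hx hx1), rep_mem (mkCl M a x hx hx1)⟩ : ℂˣ) : ℂ)
          = 0 := by linear_combination h2
      rcases mul_eq_zero.1 h3 with h4 | h4
      · norm_num at h4
      · exact Units.ne_zero _ h4
    have h1 : ({g (mkCl M a x hx hx1), mkCl M a x hx hx1} : Finset (Cl M a)) ⊆ T := by
      intro i hi'
      rw [Finset.mem_insert, Finset.mem_singleton] at hi'
      rcases hi' with rfl | rfl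
      · exact hgT _ hi
      · exact hi
    have h2 := Finset.card_le_card h1
    rwa [Finset.card_pair hne] at h2
  -- the equations
  rw [hsplit, riz, ric, ricz, Finset.sum_congr rfl hrankT, Finset.sum_const, smul_eq_mul,
    mul_one] at e2
  have hlcz : ((l ⟨c * z, hczm⟩ : ℂˣ) : ℂ) = -1 := by
    have h1 : (⟨c * z, hczm⟩ : a.1) = ⟨c, hc⟩ * ⟨z, h.mem⟩ := rfl
    rw [h1, map_mul, hlz, mul_one, hlc]
  rw [hsplit] at e1
  have t1 : ((l ⟨rep iz, rep_mem iz⟩ : ℂˣ) : ℂ) = 1 := by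
    have h1 : (⟨rep iz, rep_mem iz⟩ : a.1) = ⟨z, h.mem⟩ := Subtype.ext riz
    rw [h1, hlz, Units.val_one]
  have t2 : ((l ⟨rep ic, rep_mem ic⟩ : ℂˣ) : ℂ) = -1 := by
    have h1 : (⟨rep ic, rep_mem ic⟩ : a.1) = ⟨c, hc⟩ := Subtype.ext ric
    rw [h1, hlc]
  have t3 : ((l ⟨rep icz, rep_mem icz⟩ : ℂˣ) : ℂ) = -1 := by
    have h1 : (⟨rep icz, rep_mem icz⟩ : a.1) = ⟨c * z, hczm⟩ := Subtype.ext ricz
    rw [h1, hlcz]
  have t4 : ∑ i ∈ T, ((l ⟨rep i, rep_mem i⟩ : ℂˣ) : ℂ) * blockRank 2 (bel 2 M a (rep i)).2 = 0 := by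
    rw [← hsumT]
    exact Finset.sum_congr rfl fun i hi => by rw [hrankT i hi, Nat.cast_one, mul_one]
  rw [t1, t2, t3, t4, riz, ric, ricz] at e1
  have e3 : blockRank 2 B + blockRank 2 (bel 2 M a z).2 =
      blockRank 2 (bel 2 M a c).2 + blockRank 2 (bel 2 M a (c * z)).2 := by
    have h1 : ((blockRank 2 B : ℕ) : ℂ) + ((blockRank 2 (bel 2 M a z).2 : ℕ) : ℂ) =
        ((blockRank 2 (bel 2 M a c).2 : ℕ) : ℂ) +
          ((blockRank 2 (bel 2 M a (c * z)).2 : ℕ) : ℂ) := by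
      linear_combination e1
    exact_mod_cast h1
  have r1 := rank_c h hM hmax hc hcc hc1 hcz hcen
  have r2 := rank_c h hM hmax hczm hczc hcz1 (fun h1 => hc1 (mul_eq_right.1 h1))
    (fun w hw hwc => by
      have hczz : c * z * z = c := by rw [mul_assoc, h.zz, mul_one]
      rw [hczz]
      rcases hcen w hw hwc with h1 | h1 | h1 | h1
      · exact Or.inl h1
      · exact Or.inr (Or.inl h1)
      · exact Or.inr (Or.inr (Or.inr h1))
      · exact Or.inr (Or.inr (Or.inl h1)))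
  rcases rank_z h hM hmax with hz1 | hz3
  · have k1 := Cfsg.Agent.H602.Small.card_zero_add_le_bel hM hmax h.mem
      (fun d hd => (h.z_comm hd).symm) hz1
    have k2 := Cfsg.Agent.H617.OlssonMain.bound_nonabelian hM hmax.1.2.1
      (isDefectGroup_of_isMaximalBrauerPair hM hmax) (by
        intro h1
        obtain ⟨x, hx, y, hy, hxy⟩ := h.na
        have h2 : x ∈ Cfsg.Agent.H617.FusTwo.Z a.1 := by rw [h1]; exact hx
        exact hxy (Subgroup.mem_centralizer_iff.1 h2.2 y hy).symm) (by rw [h.card]; norm_num)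
    have k3 : (commutator a.1).index = 8 := by
      have h1 := Subgroup.card_mul_index (commutator a.1)
      rw [h.card_commutator.2, h.card] at h1
      omega
    rw [k3] at k2
    rw [h.card] at k1
    omega
  · omega

end Cfsg.Agent.H608.F5
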