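import Cfsg.Agent.H589.TildeHeight

/-!
# The Brauer–Feit argument

* `sum_coef_mul_coef`: the matrix `coef` satisfies `C² = p^a C`;
* `card_le`: `4 k(B) ≤ p^(2d) + 4`.
-/

set_option autoImplicit false

open Cfsg
open scoped ComplexConjugate

namespace Cfsg.Agent.H608.BrauerFeit

open Cfsg.Agent.Blocks.Local Cfsg.Agent.Blocks.Blau Cfsg.Agent.Characters Cfsg.Agent.H589.Tilde
open Cfsg.Agent.H589.TildeHeight

variable {G : Type*} [Group G]

theorem tilde_tilde (p : ℕ) (f : G → ℂ) :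
    tilde p (tilde p f) = ((p ^ (Nat.card G).factorization p : ℕ) : ℂ) • tilde p f := by
  funext x
  rw [Pi.smul_apply, smul_eq_mul, tilde_def, tilde_def]
  by_cases h : p ∣ orderOf x
  · simp only [h, if_true, mul_zero]
  · simp only [h, if_false]

theorem tilde_sum_smul (p : ℕ) {ι : Type*} (s : Finset ι) (c : ι → ℂ) (f : ι → G → ℂ) :
    tilde p (∑ i ∈ s, c i • f i) = ∑ i ∈ s, c i • tilde p (f i) := by
  funext x
  simp only [tilde_def, Finset.sum_apply, Pi.smul_apply, smul_eq_mul]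
  by_cases h : p ∣ orderOf x
  · simp only [h, if_true, mul_zero, Finset.sum_const_zero]
  · simp only [h, if_false, Finset.mul_sum]
    exact Finset.sum_congr rfl fun i _ => by ring

/-- `C² = p^a C`. -/
theorem sum_coef_mul_coef [Fintype G] [Fintype (IrrCharacter G)] (p : ℕ) [Fact p.Prime]
    (χ θ : IrrCharacter G) :
    ∑ ψ : IrrCharacter G, coef p χ ψ * coef p ψ θ =
      (p : ℤ) ^ (Nat.card G).factorization p * coef p χ θ := by
  have h1 : classInner (tilde p (tilde p (χ : G → ℂ))) (θ : G → ℂ) =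
      ((p ^ (Nat.card G).factorization p : ℕ) : ℂ) * coef p χ θ := by
    rw [tilde_tilde, Core.classInner_smul_left, coef_spec]
  have h3 : classInner (tilde p (tilde p (χ : G → ℂ))) (θ : G → ℂ) =
      ∑ ψ : IrrCharacter G, (coef p χ ψ : ℂ) * coef p ψ θ := by
    conv_lhs => rw [tilde_eq_sum p χ]
    rw [tilde_sum_smul, Core.classInner_sum_left]
    refine Finset.sum_congr rfl fun ψ _ => ?_
    rw [Core.classInner_smul_left, coef_spec]
  rw [h1] at h3
  have h4 : ((((p : ℤ) ^ (Nat.card G).factorization p * coef p χ θ : ℤ)) : ℂ) =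
      ((∑ ψ : IrrCharacter G, coef p χ ψ * coef p ψ θ : ℤ) : ℂ) := by
    push_cast at h3 ⊢
    exact h3
  exact_mod_cast h4.symm

/-- **Brauer–Feit**: `4 k(B) ≤ p^(2d) + 4`. -/
theorem card_le [Finite G] (p : ℕ) [hp : Fact p.Prime] {M : Ideal AlgInt} (hM : IsPModular p M)
    {B : Set (IrrCharacter G)} (hB : IsPBlock M B) :
    4 * Nat.card B ≤ p ^ (2 * blockDefect p B) + 4 := by
  classical
  have := Fintype.ofFinite G
  have := Core.finite_irr (G := G)
  have := Fintype.ofFinite (IrrCharacter G)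
  obtain ⟨χ, hχ, h0⟩ := exists_blockHeight_eq_zero p (isPBlock_nonempty hM hB)
  set a := (Nat.card G).factorization p with ha
  set m := (charDegree (χ : G → ℂ)).factorization p with hm
  have hmle : ∀ ψ ∈ B, m ≤ (charDegree (ψ : G → ℂ)).factorization p := fun ψ hψ =>
    factorization_le_of_blockHeight_eq_zero h0 hψ
  have hma : m ≤ a := by
    rw [hm, ha]
    exact (Nat.factorization_le_iff_dvd (charDegree_pos χ).ne' Nat.card_pos.ne').2
      (charDegree_dvd χ) p
  have hd : blockDefect p B = a - m := by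
    unfold blockDefect
    congr 1
    apply le_antisymm
    · exact Nat.sInf_le ⟨χ, hχ, rfl⟩
    · refine le_csInf ⟨_, χ, hχ, rfl⟩ ?_
      rintro _ ⟨ψ, hψ, rfl⟩
      exact hmle ψ hψ
  have hpos : (0 : ℤ) < (p : ℤ) ^ m := by
    have := hp.out.pos
    positivity
  -- the reduced coefficients
  have hdvd : ∀ ψ : IrrCharacter G, ∃ c : ℤ, coef p χ ψ = (p : ℤ) ^ m * c := by
    intro ψ
    have := dvd_coef_left p χ ψ
    rw [← hm] at this
    obtain ⟨c, hc⟩ := this
    exact ⟨c, by rw [hc]; push_cast; rfl⟩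
  choose c hc using hdvd
  have hne : ∀ ψ ∈ B, c ψ ≠ 0 := by
    intro ψ hψ h
    have h1 := not_dvd_of_height_zero p hM hB hχ h0 hψ
    apply h1
    rw [hc, h, mul_zero]
    exact dvd_zero _
  have h1 := sum_coef_mul_coef p χ χ
  have h2 : ∑ ψ : IrrCharacter G, c ψ * c ψ = (p : ℤ) ^ (a - m) * c χ := by
    have h3 : ∀ ψ : IrrCharacter G, coef p χ ψ * coef p ψ χ =
        ((p : ℤ) ^ m * (p : ℤ) ^ m) * (c ψ * c ψ) := by
      intro ψ
      rw [← coef_comm p χ ψ, hc]; ring
    rw [Finset.sum_congr rfl fun ψ _ => h3 ψ, ← Finset.mul_sum, hc, ← ha] at h1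
    have h4 : (p : ℤ) ^ a = (p : ℤ) ^ m * (p : ℤ) ^ (a - m) := by
      rw [← pow_add]; congr 1; omega
    rw [h4] at h1
    have h5 : ((p : ℤ) ^ m * (p : ℤ) ^ m) ≠ 0 := by positivity
    apply mul_left_cancel₀ h5
    rw [h1]; ring
  have h3 : (Nat.card B : ℤ) - 1 + c χ * c χ ≤ ∑ ψ : IrrCharacter G, c ψ * c ψ := by
    have h4 : ∑ ψ ∈ (Finset.univ.filter fun ψ : IrrCharacter G => ψ ∈ B), c ψ * c ψ ≤
        ∑ ψ : IrrCharacter G, c ψ * c ψ :=
      Finset.sum_le_univ_sum_of_nonneg fun ψ => mul_self_nonneg _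
    refine le_trans ?_ h4
    have hχm : χ ∈ (Finset.univ.filter fun ψ : IrrCharacter G => ψ ∈ B) := by simp [hχ]
    rw [← Finset.add_sum_erase _ _ hχm]
    have h5 : (((Finset.univ.filter fun ψ : IrrCharacter G => ψ ∈ B).erase χ).card : ℤ) =
        (Nat.card B : ℤ) - 1 := by
      have h6 : (Finset.univ.filter fun ψ : IrrCharacter G => ψ ∈ B).card = Nat.card B := by
        rw [Nat.card_eq_fintype_card, Fintype.card_subtype]
      rw [Finset.card_erase_of_mem hχm, h6]
      have h7 : 1 ≤ Nat.card B := by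
        rw [← h6]
        exact Finset.card_pos.2 ⟨χ, hχm⟩
      push_cast [h7]
      ring
    have h6 : (((Finset.univ.filter fun ψ : IrrCharacter G => ψ ∈ B).erase χ).card : ℤ) ≤
        ∑ ψ ∈ (Finset.univ.filter fun ψ : IrrCharacter G => ψ ∈ B).erase χ, c ψ * c ψ := by
      rw [Finset.card_eq_sum_ones]
      push_cast
      refine Finset.sum_le_sum fun ψ hψ => ?_
      have hψB : ψ ∈ B := by
        have := Finset.mem_of_mem_erase hψ
        simpa using this
      have h7 : 0 < c ψ * c ψ := by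
        exact mul_self_pos.2 (hne ψ hψB)
      omega
    rw [h5] at h6
    linarith
  rw [h2] at h3
  have h4 : 4 * (Nat.card B : ℤ) ≤ ((p : ℤ) ^ (a - m)) ^ 2 + 4 := by
    nlinarith [sq_nonneg ((p : ℤ) ^ (a - m) - 2 * c χ)]
  rw [hd]
  have h5 : ((p ^ (2 * (a - m)) + 4 : ℕ) : ℤ) = ((p : ℤ) ^ (a - m)) ^ 2 + 4 := by
    push_cast
    rw [← pow_mul, mul_comm]
  have h6 : ((4 * Nat.card B : ℕ) : ℤ) ≤ ((p ^ (2 * (a - m)) + 4 : ℕ) : ℤ) := by
    rw [h5]; push_cast; exact h4
  exact_mod_cast h6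

end Cfsg.Agent.H608.BrauerFeit
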