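import Cfsg.Prelude.Def_BlockLocal
import Cfsg.Agent.Blocks.Local
import Cfsg.Agent.Blocks.Induced
import Cfsg.Agent.Blocks.CentralProduct
import Cfsg.Agent.Characters.Brauer

/-!
# Inducing perfect isometries

If `(I', ε')` is a perfect isometry between sets of irreducible characters of subgroups `S ≤ H`
and `T ≤ G` for which induction is a bijection onto sets of irreducible characters of `H` and `G`,
the induced bijection with the same signs is a perfect isometry.
-/

set_option autoImplicit false

universe u v

open Cfsg Cfsg.Agent.Blocks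

namespace Cfsg.Agent.H608.PerfInd

section

variable {G : Type u} [Group G] [Fintype G] (T : Subgroup G)

open scoped Classical in
/-- The induced function in terms of the elements of `T` conjugate to the given element. -/
theorem indFun_eq_sum (f : T → ℂ) (g : G) :
    indFun T f g = (Nat.card (Subgroup.centralizer ({g} : Set G)) : ℂ) *
      ((Nat.card T : ℂ)⁻¹ * ∑ t : T, if IsConj g (t : G) then f t else 0) := by
  unfold indFun
  rw [Induced.sum_conj_eq]
  have h0 : ∑ᶠ y ∈ {y : G | IsConj g y}, extendByZero T f y =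
      ∑ y : G, (if IsConj g y then extendByZero T f y else 0) := by
    rw [finsum_mem_def, finsum_eq_sum_of_fintype]
    refine Finset.sum_congr rfl fun y _ => ?_
    rw [Set.indicator_apply]
    rfl
  have h1 : ∑ y : G, (if IsConj g y then extendByZero T f y else 0) =
      ∑ t : T, if IsConj g (t : G) then f t else 0 := by
    refine (Fintype.sum_of_injective (Subtype.val : T → G) Subtype.val_injective _ _ ?_ ?_).symm
    · intro y hy
      have h2 : y ∉ T := fun h => hy ⟨⟨y, h⟩, rfl⟩
      rw [Characters.Core.extendByZero_of_notMem T f h2]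
      simp
    · intro t
      have : extendByZero T f (t : G) = f t := by
        rw [Characters.Core.extendByZero_of_mem T f t.2]
      rw [this]
  rw [h0, h1]
  ring

variable {M : Ideal AlgInt} [M.IsPrime]

/-- Criterion for a multiple of an induced function to be a local integer. -/
theorem mem_of_forall {f : T → ℂ} (hf : IsClassFunction T f) (g : G) (κ : ℂ)
    (h : ∀ t : T, IsConj g (t : G) →
      MemLocalRing M (κ * (Nat.card (Subgroup.centralizer ({g} : Set G)) : ℂ) *
        (f t / (Nat.card (Subgroup.centralizer ({t} : Set T)) : ℂ)))) :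
    MemLocalRing M (κ * indFun T f g) := by
  classical
  rw [indFun_eq_sum]
  set F : T → ℂ := fun t => if IsConj g (t : G) then f t else 0 with hF
  have hFc : IsClassFunction T F := by
    intro t s
    have h1 : IsConj g ((s * t * s⁻¹ : T) : G) ↔ IsConj g (t : G) := by
      have h2 : IsConj (t : G) ((s * t * s⁻¹ : T) : G) := isConj_iff.2 ⟨(s : G), by simp⟩
      exact ⟨fun h => h.trans h2.symm, fun h => h.trans h2⟩
    simp only [hF]
    by_cases h2 : IsConj g (t : G)
    · rw [if_pos h2, if_pos (h1.2 h2), hf]
    · rw [if_neg h2, if_neg (fun h => h2 (h1.1 h))]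
  let A : AddSubgroup ℂ :=
    { carrier := {z | MemLocalRing M (κ * (Nat.card (Subgroup.centralizer ({g} : Set G)) : ℂ) *
        ((Nat.card T : ℂ)⁻¹ * z))}
      add_mem' := by
        intro a b ha hb
        have := Local.memLocalRing_add ha hb
        simp only [Set.mem_ofPred_eq] at *
        convert this using 1
        ring
      zero_mem' := by
        simp only [Set.mem_ofPred_eq, mul_zero]
        exact Local.memLocalRing_zero
      neg_mem' := by
        intro a ha
        have := Local.memLocalRing_neg ha
        simp only [Set.mem_ofPred_eq] at *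
        convert this using 1
        ring }
  have hA : ∑ t : T, F t ∈ A := by
    refine CentralProduct.sum_classFun_mem A F hFc fun t => ?_
    show MemLocalRing M (κ * (Nat.card (Subgroup.centralizer ({g} : Set G)) : ℂ) *
        ((Nat.card T : ℂ)⁻¹ * (((Subgroup.centralizer ({t} : Set T)).index : ℂ) * F t)))
    by_cases h2 : IsConj g (t : G)
    · have h3 := h t h2
      have h4 : F t = f t := by simp only [hF]; rw [if_pos h2]
      rw [h4]
      have h5 : (Nat.card (Subgroup.centralizer ({t} : Set T)) : ℂ) *
          ((Subgroup.centralizer ({t} : Set T)).index : ℂ) = Nat.card T := by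
        exact_mod_cast (Subgroup.centralizer ({t} : Set T)).card_mul_index
      have h6 : (Nat.card T : ℂ) ≠ 0 := Nat.cast_ne_zero.2 Nat.card_pos.ne'
      have h7 : (Nat.card (Subgroup.centralizer ({t} : Set T)) : ℂ) ≠ 0 :=
        Nat.cast_ne_zero.2 Nat.card_pos.ne'
      convert h3 using 1
      field_simp
      rw [← h5]
      ring
    · have h4 : F t = 0 := by simp only [hF]; rw [if_neg h2]
      rw [h4]
      simpa using Local.memLocalRing_zero
  have h8 : MemLocalRing M (κ * (Nat.card (Subgroup.centralizer ({g} : Set G)) : ℂ) *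
        ((Nat.card T : ℂ)⁻¹ * ∑ t : T, F t)) := hA
  convert h8 using 1
  ring

/-- Divisibility by the centralizer orders passes to the induced function. -/
theorem div_mem {f : T → ℂ} (hf : IsClassFunction T f)
    (h : ∀ t : T, MemLocalRing M (f t / (Nat.card (Subgroup.centralizer ({t} : Set T)) : ℂ)))
    (g : G) :
    MemLocalRing M (indFun T f g / (Nat.card (Subgroup.centralizer ({g} : Set G)) : ℂ)) := by
  have h6 : (Nat.card (Subgroup.centralizer ({g} : Set G)) : ℂ) ≠ 0 :=
    Nat.cast_ne_zero.2 Nat.card_pos.ne'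
  have := mem_of_forall (M := M) T hf g
    ((Nat.card (Subgroup.centralizer ({g} : Set G)) : ℂ)⁻¹) (fun t _ => by
      rw [inv_mul_cancel₀ h6, one_mul]
      exact h t)
  rwa [mul_comm, ← div_eq_mul_inv] at this

omit [Fintype G] in
theorem card_centralizer_dvd [Finite G] {g : G} {t : T} (h : IsConj g (t : G)) :
    Nat.card (Subgroup.centralizer ({t} : Set T)) ∣
      Nat.card (Subgroup.centralizer ({g} : Set G)) := by
  have h1 : Nat.card (Subgroup.centralizer ({g} : Set G)) =
      Nat.card (Subgroup.centralizer ({(t : G)} : Set G)) := by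
    obtain ⟨c, hc⟩ := isConj_iff.1 h
    refine Nat.card_congr (Equiv.subtypeEquiv (MulAut.conj c).toEquiv fun x => ?_)
    rw [Subgroup.mem_centralizer_singleton_iff, Subgroup.mem_centralizer_singleton_iff, ← hc]
    show x * g = g * x ↔ (c * x * c⁻¹) * (c * g * c⁻¹) = (c * g * c⁻¹) * (c * x * c⁻¹)
    constructor
    · intro h
      calc (c * x * c⁻¹) * (c * g * c⁻¹) = c * (x * g) * c⁻¹ := by group
        _ = c * (g * x) * c⁻¹ := by rw [h]
        _ = _ := by group
    · intro h
      have : c * (x * g) * c⁻¹ = c * (g * x) * c⁻¹ := by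
        calc c * (x * g) * c⁻¹ = (c * x * c⁻¹) * (c * g * c⁻¹) := by group
          _ = (c * g * c⁻¹) * (c * x * c⁻¹) := h
          _ = _ := by group
      exact mul_left_cancel (mul_right_cancel this)
  rw [h1]
  have h2 : (Subgroup.centralizer ({t} : Set T)).map T.subtype ≤
      Subgroup.centralizer ({(t : G)} : Set G) := by
    rintro _ ⟨x, hx, rfl⟩
    have hx' : x ∈ Subgroup.centralizer ({t} : Set T) := hx
    rw [Subgroup.mem_centralizer_singleton_iff] at hx' ⊢
    have := congrArg (Subtype.val : T → G) hx'
    simpa using this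
  have h3 := Subgroup.card_dvd_of_le h2
  rwa [Subgroup.card_map_of_injective T.subtype_injective] at h3

/-- Local integrality passes to the induced function. -/
theorem indFun_mem {f : T → ℂ} (hf : IsClassFunction T f) (h : ∀ t : T, MemLocalRing M (f t))
    (g : G) : MemLocalRing M (indFun T f g) := by
  have := mem_of_forall (M := M) T hf g 1 (fun t ht => by
    obtain ⟨k, hk⟩ := card_centralizer_dvd T ht
    have h7 : (Nat.card (Subgroup.centralizer ({t} : Set T)) : ℂ) ≠ 0 :=
        Nat.cast_ne_zero.2 Nat.card_pos.ne'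
    rw [hk]
    push_cast
    have : 1 * ((Nat.card (Subgroup.centralizer ({t} : Set T)) : ℂ) * (k : ℂ)) *
        (f t / (Nat.card (Subgroup.centralizer ({t} : Set T)) : ℂ)) = k * f t := by
      field_simp
    rw [this]
    exact Local.memLocalRing_mul (Local.memLocalRing_natCast k) (h t))
  simpa using this

theorem indFun_eq_zero {f : T → ℂ} {g : G} (h : ∀ t : T, IsConj g (t : G) → f t = 0) :
    indFun T f g = 0 := by
  classical
  rw [indFun_eq_sum]
  have : ∑ t : T, (if IsConj g (t : G) then f t else 0) = 0 := by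
    refine Finset.sum_eq_zero fun t _ => ?_
    by_cases h1 : IsConj g (t : G)
    · rw [if_pos h1, h t h1]
    · rw [if_neg h1]
  rw [this, mul_zero, mul_zero]

end

theorem isPRegular_iff_of_isConj {G : Type u} [Group G] {p : ℕ} {x y : G} (h : IsConj x y) :
    IsPRegular p x ↔ IsPRegular p y := by
  obtain ⟨c, rfl⟩ := isConj_iff.1 h
  unfold IsPRegular
  rw [show c * x * c⁻¹ = MulAut.conj c x from rfl, MulEquiv.orderOf_eq]

theorem isPRegular_coe_iff {G : Type u} [Group G] {p : ℕ} {T : Subgroup G} {t : T} :
    IsPRegular p (t : G) ↔ IsPRegular p t := by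
  unfold IsPRegular
  rw [Subgroup.orderOf_coe]

theorem indFun_sum_mul {G : Type u} [Group G] [Fintype G] (T : Subgroup G) {ι : Type*}
    (s : Finset ι) (a : ι → ℂ) (f : ι → T → ℂ) (x : G) :
    indFun T (fun t => ∑ i ∈ s, a i * f i t) x = ∑ i ∈ s, a i * indFun T (f i) x := by
  have h1 : (fun t : T => ∑ i ∈ s, a i * f i t) = ∑ i ∈ s, a i • f i := by
    funext t
    rw [Finset.sum_apply]
    rfl
  rw [h1, Characters.Brauer.indFun_sum, Finset.sum_apply]
  refine Finset.sum_congr rfl fun i _ => ?_
  rw [Characters.Brauer.indFun_smul]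
  rfl

theorem isClassFunction_indFun_left {G : Type u} {H : Type v} [Group G] [Group H] [Fintype H]
    (S : Subgroup H) (μ : G → S → ℂ) (h : ∀ s, IsClassFunction G (fun x => μ x s)) (y : H) :
    IsClassFunction G (fun x => indFun S (fun s => μ x s) y) := by
  intro x g
  show indFun S (fun s => μ (g * x * g⁻¹) s) y = indFun S (fun s => μ x s) y
  congr 1
  funext s
  exact h s x g

theorem isClassFunction_kernel_left {G : Type u} {H : Type v} [Group G] [Finite G] [Group H]
    [Finite H] (c : Set (IrrCharacter H)) (I : IrrCharacter H → IrrCharacter G)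
    (ε : IrrCharacter H → ℤ) (y : H) :
    IsClassFunction G (fun x => signedBijectionKernel c I ε x y) := by
  intro x g
  unfold signedBijectionKernel
  refine finsum_mem_congr rfl fun η _ => ?_
  rw [Characters.Core.isIrr_isClassFunction (I η).2 x g]

theorem isClassFunction_kernel_right {G : Type u} {H : Type v} [Group G] [Finite G] [Group H]
    [Finite H] (c : Set (IrrCharacter H)) (I : IrrCharacter H → IrrCharacter G)
    (ε : IrrCharacter H → ℤ) (x : G) :
    IsClassFunction H (fun y => signedBijectionKernel c I ε x y) := by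
  intro y g
  unfold signedBijectionKernel
  refine finsum_mem_congr rfl fun η _ => ?_
  rw [Characters.Core.isIrr_isClassFunction η.2 y g]

/-- Inducing a perfect isometry. -/
theorem exists_isPerfectIsometry {G : Type u} {H : Type v} [Group G] [Fintype G] [Group H]
    [Fintype H] (p : ℕ) [Fact p.Prime]
    (M : Ideal AlgInt) (hM : IsPModular p M) (T : Subgroup G) (S : Subgroup H)
    (b : Set (IrrCharacter T)) (c' : Set (IrrCharacter S))
    (I' : IrrCharacter S → IrrCharacter T) (ε' : IrrCharacter S → ℤ)
    (h : IsPerfectIsometry p M c' b I' ε')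
    (B : Set (IrrCharacter G)) (F : IrrCharacter T → IrrCharacter G) (hF : Set.BijOn F b B)
    (hF' : ∀ ψ ∈ b, (F ψ : G → ℂ) = indFun T (ψ : T → ℂ))
    (c : Set (IrrCharacter H)) (F₁ : IrrCharacter S → IrrCharacter H) (hF₁ : Set.BijOn F₁ c' c)
    (hF₁' : ∀ ψ ∈ c', (F₁ ψ : H → ℂ) = indFun S (ψ : S → ℂ)) :
    ∃ (I : IrrCharacter H → IrrCharacter G) (ε : IrrCharacter H → ℤ),
      IsPerfectIsometry p M c B I ε ∧ ∀ ψ ∈ c', I (F₁ ψ) = F (I' ψ) ∧ ε (F₁ ψ) = ε' ψ := by
  classical
  have hP : M.IsPrime := Local.isPrime_of_isPModular hM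
  have hfin0 : Finite (IrrCharacter S) := Characters.Core.finite_irr
  have hfin : Fintype (IrrCharacter S) := Fintype.ofFinite _
  obtain ⟨hbij, hε, hμ⟩ := h
  have : Nonempty (IrrCharacter S) := ⟨⟨_, Characters.Core.isIrr_one (G := S)⟩⟩
  have hinv : ∀ ψ ∈ c', Function.invFunOn F₁ c' (F₁ ψ) = ψ := fun ψ hψ =>
    hF₁.injOn.leftInvOn_invFunOn hψ
  have hsym : Set.BijOn (Function.invFunOn F₁ c') c c' :=
    Set.BijOn.symm hF₁.invOn_invFunOn.symm hF₁
  refine ⟨fun η => F (I' (Function.invFunOn F₁ c' η)), fun η => ε' (Function.invFunOn F₁ c' η),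
    ⟨(hF.comp hbij).comp hsym, fun η hη => hε _ (hsym.mapsTo hη), ?_⟩, fun ψ hψ => by
      simp only [hinv ψ hψ, and_self]⟩
  have hsum : ∀ (x : G) (y : H), signedBijectionKernel c
      (fun η => F (I' (Function.invFunOn F₁ c' η))) (fun η => ε' (Function.invFunOn F₁ c' η)) x y =
      ∑ ψ ∈ c'.toFinset, (ε' ψ : ℂ) * indFun T (I' ψ : T → ℂ) x * indFun S (ψ : S → ℂ) y := by
    intro x y
    unfold signedBijectionKernel
    rw [← finsum_mem_eq_toFinset_sum]
    symm
    refine finsum_mem_eq_of_bijOn F₁ hF₁ fun ψ hψ => ?_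
    simp only
    rw [hinv ψ hψ, hF' _ (hbij.mapsTo hψ), hF₁' _ hψ]
  have hker : ∀ (t : T) (s : S), signedBijectionKernel c' I' ε' t s =
      ∑ ψ ∈ c'.toFinset, (ε' ψ : ℂ) * (I' ψ : T → ℂ) t * (ψ : S → ℂ) s := by
    intro t s
    unfold signedBijectionKernel
    rw [← finsum_mem_eq_toFinset_sum]
  have key1 : ∀ (x : G) (y : H), signedBijectionKernel c
      (fun η => F (I' (Function.invFunOn F₁ c' η))) (fun η => ε' (Function.invFunOn F₁ c' η)) x y =
      indFun T (fun t => indFun S (fun s => signedBijectionKernel c' I' ε' t s) y) x := by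
    intro x y
    rw [hsum]
    have h1 : (fun t => indFun S (fun s => signedBijectionKernel c' I' ε' t s) y) =
        fun t => ∑ ψ ∈ c'.toFinset, ((ε' ψ : ℂ) * indFun S (ψ : S → ℂ) y) * (I' ψ : T → ℂ) t := by
      funext t
      simp only [hker]
      rw [indFun_sum_mul]
      exact Finset.sum_congr rfl fun ψ _ => by ring
    rw [h1, indFun_sum_mul]
    exact Finset.sum_congr rfl fun ψ _ => by ring
  have key2 : ∀ (x : G) (y : H), signedBijectionKernel c
      (fun η => F (I' (Function.invFunOn F₁ c' η))) (fun η => ε' (Function.invFunOn F₁ c' η)) x y =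
      indFun S (fun s => indFun T (fun t => signedBijectionKernel c' I' ε' t s) x) y := by
    intro x y
    rw [hsum]
    have h1 : (fun s => indFun T (fun t => signedBijectionKernel c' I' ε' t s) x) =
        fun s => ∑ ψ ∈ c'.toFinset, ((ε' ψ : ℂ) * indFun T (I' ψ : T → ℂ) x) * (ψ : S → ℂ) s := by
      funext s
      simp only [hker]
      have : ∀ t : T, (∑ ψ ∈ c'.toFinset, (ε' ψ : ℂ) * (I' ψ : T → ℂ) t * (ψ : S → ℂ) s) =
          ∑ ψ ∈ c'.toFinset, ((ε' ψ : ℂ) * (ψ : S → ℂ) s) * (I' ψ : T → ℂ) t := fun t =>
        Finset.sum_congr rfl fun ψ _ => by ring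
      simp only [this]
      rw [indFun_sum_mul]
      exact Finset.sum_congr rfl fun ψ _ => by ring
    rw [h1, indFun_sum_mul]
  intro x y
  refine ⟨?_, ?_, ?_⟩
  · rw [key1]
    refine div_mem T (isClassFunction_indFun_left S _
      (fun s => isClassFunction_kernel_left c' I' ε' s) y) (fun t => ?_) x
    have h1 : indFun S (fun s => signedBijectionKernel c' I' ε' t s) y /
        (Nat.card (Subgroup.centralizer ({t} : Set T)) : ℂ) =
        indFun S (fun s => signedBijectionKernel c' I' ε' t s /
          (Nat.card (Subgroup.centralizer ({t} : Set T)) : ℂ)) y := by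
      have h2 : (fun s => signedBijectionKernel c' I' ε' t s /
          (Nat.card (Subgroup.centralizer ({t} : Set T)) : ℂ)) =
          ((Nat.card (Subgroup.centralizer ({t} : Set T)) : ℂ)⁻¹) •
            (fun s => signedBijectionKernel c' I' ε' t s) := by
        funext s
        rw [Pi.smul_apply, smul_eq_mul, div_eq_mul_inv, mul_comm]
      rw [h2, Characters.Brauer.indFun_smul, Pi.smul_apply, smul_eq_mul, div_eq_mul_inv, mul_comm]
    rw [h1]
    refine indFun_mem S (fun s g => ?_) (fun s => (hμ t s).1) y
    show signedBijectionKernel c' I' ε' t (g * s * g⁻¹) / _ = _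
    have h3 := isClassFunction_kernel_right c' I' ε' t s g
    simp only at h3
    rw [h3]
  · rw [key2]
    refine div_mem S (isClassFunction_indFun_left T (fun s t => signedBijectionKernel c' I' ε' t s)
      (fun t => isClassFunction_kernel_right c' I' ε' t) x) (fun s => ?_) y
    have h1 : indFun T (fun t => signedBijectionKernel c' I' ε' t s) x /
        (Nat.card (Subgroup.centralizer ({s} : Set S)) : ℂ) =
        indFun T (fun t => signedBijectionKernel c' I' ε' t s /
          (Nat.card (Subgroup.centralizer ({s} : Set S)) : ℂ)) x := by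
      have h2 : (fun t => signedBijectionKernel c' I' ε' t s /
          (Nat.card (Subgroup.centralizer ({s} : Set S)) : ℂ)) =
          ((Nat.card (Subgroup.centralizer ({s} : Set S)) : ℂ)⁻¹) •
            (fun t => signedBijectionKernel c' I' ε' t s) := by
        funext t
        rw [Pi.smul_apply, smul_eq_mul, div_eq_mul_inv, mul_comm]
      rw [h2, Characters.Brauer.indFun_smul, Pi.smul_apply, smul_eq_mul, div_eq_mul_inv, mul_comm]
    rw [h1]
    refine indFun_mem T (fun t g => ?_) (fun t => (hμ t s).2.1) x
    show signedBijectionKernel c' I' ε' (g * t * g⁻¹) s / _ = _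
    have h3 := isClassFunction_kernel_left c' I' ε' s t g
    simp only at h3
    rw [h3]
  · by_cases hxy : IsPRegular p x ↔ IsPRegular p y
    · exact Or.inl hxy
    · right
      rw [key1]
      refine indFun_eq_zero T fun t ht => indFun_eq_zero S fun s hs => ?_
      rcases (hμ t s).2.2 with h1 | h1
      · exfalso
        apply hxy
        rw [isPRegular_iff_of_isConj ht, isPRegular_iff_of_isConj hs, isPRegular_coe_iff,
          isPRegular_coe_iff]
        exact h1
      · exact h1

end Cfsg.Agent.H608.PerfInd
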