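import Cfsg.Prelude.Def_BlockLocal
import Cfsg.Prelude.Def_BlockRank
import Cfsg.Agent.H608.PerfInd
import Cfsg.Agent.Blocks.Basic

/-!
# Perfect isometries: kernel formulas, composition, preservation of `k(B)` and `l(B)`

* `sum_kernel`: `|H|⁻¹ ∑ η(y) μ(x, y⁻¹) = ε_η I(η)(x)`;
* `comp`: the composite of two perfect isometries is a perfect isometry;
* `symm`: the inverse of a perfect isometry is a perfect isometry;
* `blockRank_eq`, `card_eq`: a perfect isometry preserves the number of characters and the
  `p`-regular rank;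
* `sign_eq`: characters agreeing on `p`-regular elements have the same sign (and images which
  agree on `p`-regular elements).
-/

set_option autoImplicit false
set_option linter.unusedSectionVars false

universe u v w

open Cfsg Cfsg.Agent.Blocks
open scoped ComplexConjugate

namespace Cfsg.Agent.H608.PerfComp

section Kernel

variable {G : Type u} {H : Type v} [Group G] [Group H]
variable {c : Set (IrrCharacter H)} {I : IrrCharacter H → IrrCharacter G} {ε : IrrCharacter H → ℤ}

open scoped Classical in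
theorem kernel_eq_sum [Finite H] [Fintype (IrrCharacter H)] (c : Set (IrrCharacter H))
    (I : IrrCharacter H → IrrCharacter G) (ε : IrrCharacter H → ℤ) (x : G) (y : H) :
    signedBijectionKernel c I ε x y =
      ∑ η : IrrCharacter H, if η ∈ c then (ε η : ℂ) * (I η : G → ℂ) x * (η : H → ℂ) y else 0 := by
  unfold signedBijectionKernel
  rw [finsum_mem_def, finsum_eq_sum_of_fintype]
  refine Finset.sum_congr rfl fun η _ => ?_
  rw [Set.indicator_apply]

theorem irr_inv [Finite H] (η : IrrCharacter H) (y : H) :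
    (η : H → ℂ) y⁻¹ = conj ((η : H → ℂ) y) :=
  Characters.Core.isCharacter_apply_inv (Characters.Core.isIrr_isCharacter η.2) y

theorem inner_irr [Fintype H] (η η' : IrrCharacter H) :
    (Nat.card H : ℂ)⁻¹ * ∑ y : H, (η : H → ℂ) y * (η' : H → ℂ) y⁻¹ =
      if η = η' then 1 else 0 := by
  have h1 : (Nat.card H : ℂ)⁻¹ * ∑ y : H, (η : H → ℂ) y * (η' : H → ℂ) y⁻¹ =
      classInner (η : H → ℂ) (η' : H → ℂ) := by
    unfold classInner
    congr 1
    exact Finset.sum_congr rfl fun y _ => by rw [irr_inv]
  rw [h1, Characters.Core.classInner_irr η.2 η'.2]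
  simp only [Subtype.ext_iff]

/-- The kernel acts on an irreducible character of the source. -/
theorem sum_kernel [Fintype H] (η : IrrCharacter H) (hη : η ∈ c) (x : G) :
    (Nat.card H : ℂ)⁻¹ * ∑ y : H, (η : H → ℂ) y * signedBijectionKernel c I ε x y⁻¹ =
      (ε η : ℂ) * (I η : G → ℂ) x := by
  classical
  have hfin0 : Finite (IrrCharacter H) := Characters.Core.finite_irr
  have hfin : Fintype (IrrCharacter H) := Fintype.ofFinite _
  simp only [kernel_eq_sum, Finset.mul_sum]
  rw [Finset.sum_comm]
  have h1 : ∀ θ : IrrCharacter H, ∑ y : H, (Nat.card H : ℂ)⁻¹ * ((η : H → ℂ) y *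
      (if θ ∈ c then (ε θ : ℂ) * (I θ : G → ℂ) x * (θ : H → ℂ) y⁻¹ else 0)) =
      if θ = η then (ε η : ℂ) * (I η : G → ℂ) x else 0 := by
    intro θ
    by_cases hθ : θ ∈ c
    · have h2 : ∀ y : H, (Nat.card H : ℂ)⁻¹ * ((η : H → ℂ) y *
          (if θ ∈ c then (ε θ : ℂ) * (I θ : G → ℂ) x * (θ : H → ℂ) y⁻¹ else 0)) =
          ((ε θ : ℂ) * (I θ : G → ℂ) x) * ((Nat.card H : ℂ)⁻¹ * ((η : H → ℂ) y *
            (θ : H → ℂ) y⁻¹)) := by
        intro y
        rw [if_pos hθ]
        ring
      simp only [h2]
      rw [← Finset.mul_sum, ← Finset.mul_sum, inner_irr]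
      by_cases h3 : θ = η
      · rw [if_pos h3.symm, if_pos h3, h3, mul_one]
      · rw [if_neg (fun h => h3 h.symm), if_neg h3, mul_zero]
    · have h3 : θ ≠ η := fun h => hθ (h ▸ hη)
      simp only [if_neg hθ, mul_zero, Finset.sum_const_zero, if_neg h3]
  rw [Finset.sum_congr rfl fun θ _ => h1 θ, Finset.sum_ite_eq' Finset.univ η,
    if_pos (Finset.mem_univ _)]

/-- The kernel acts on an irreducible character of the target. -/
theorem sum_kernel' [Fintype G] [Finite H] (hI : Set.InjOn I c) (η : IrrCharacter H) (hη : η ∈ c)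
    (y : H) :
    (Nat.card G : ℂ)⁻¹ * ∑ x : G, (I η : G → ℂ) x⁻¹ * signedBijectionKernel c I ε x y =
      (ε η : ℂ) * (η : H → ℂ) y := by
  classical
  have hfin0 : Finite (IrrCharacter H) := Characters.Core.finite_irr
  have hfin : Fintype (IrrCharacter H) := Fintype.ofFinite _
  simp only [kernel_eq_sum, Finset.mul_sum]
  rw [Finset.sum_comm]
  have h1 : ∀ θ : IrrCharacter H, ∑ x : G, (Nat.card G : ℂ)⁻¹ * ((I η : G → ℂ) x⁻¹ *
      (if θ ∈ c then (ε θ : ℂ) * (I θ : G → ℂ) x * (θ : H → ℂ) y else 0)) =
      if θ = η then (ε η : ℂ) * (η : H → ℂ) y else 0 := by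
    intro θ
    by_cases hθ : θ ∈ c
    · have h2 : ∀ x : G, (Nat.card G : ℂ)⁻¹ * ((I η : G → ℂ) x⁻¹ *
          (if θ ∈ c then (ε θ : ℂ) * (I θ : G → ℂ) x * (θ : H → ℂ) y else 0)) =
          ((ε θ : ℂ) * (θ : H → ℂ) y) * ((Nat.card G : ℂ)⁻¹ * ((I θ : G → ℂ) x *
            (I η : G → ℂ) x⁻¹)) := by
        intro x
        rw [if_pos hθ]
        ring
      simp only [h2]
      rw [← Finset.mul_sum, ← Finset.mul_sum, inner_irr]
      by_cases h3 : θ = η
      · rw [h3, if_pos rfl, if_pos rfl, mul_one]
      · rw [if_neg (fun h => h3 (hI hθ hη h)), if_neg h3, mul_zero]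
    · have h3 : θ ≠ η := fun h => hθ (h ▸ hη)
      simp only [if_neg hθ, mul_zero, Finset.sum_const_zero, if_neg h3]
  rw [Finset.sum_congr rfl fun θ _ => h1 θ, Finset.sum_ite_eq' Finset.univ η,
    if_pos (Finset.mem_univ _)]

end Kernel

section Local

variable {H : Type v} [Group H] [Fintype H] {M : Ideal AlgInt} [M.IsPrime]

/-- The average over the group of a class function divisible by the centralizer orders is a local
integer. -/
theorem average_mem {F : H → ℂ} (hF : IsClassFunction H F)
    (h : ∀ y : H, MemLocalRing M (F y / (Nat.card (Subgroup.centralizer ({y} : Set H)) : ℂ))) :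
    MemLocalRing M ((Nat.card H : ℂ)⁻¹ * ∑ y : H, F y) := by
  let A : AddSubgroup ℂ :=
    { carrier := {z | MemLocalRing M ((Nat.card H : ℂ)⁻¹ * z)}
      add_mem' := by
        intro a b ha hb
        have := Local.memLocalRing_add ha hb
        simp only [Set.mem_ofPred_eq] at *
        convert this using 1
        ring
      zero_mem' := by
        simp only [Set.mem_ofPred_eq, mul_zero]
        exact Local.memLocalRing_zero
      neg_mem' := by
        intro a ha
        have := Local.memLocalRing_neg ha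
        simp only [Set.mem_ofPred_eq] at *
        convert this using 1
        ring }
  have hA : ∑ t : H, F t ∈ A := by
    refine CentralProduct.sum_classFun_mem A F hF fun t => ?_
    show MemLocalRing M
        ((Nat.card H : ℂ)⁻¹ * (((Subgroup.centralizer ({t} : Set H)).index : ℂ) * F t))
    have h3 := h t
    have h5 : (Nat.card (Subgroup.centralizer ({t} : Set H)) : ℂ) *
        ((Subgroup.centralizer ({t} : Set H)).index : ℂ) = Nat.card H := by
      exact_mod_cast (Subgroup.centralizer ({t} : Set H)).card_mul_index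
    have h6 : (Nat.card H : ℂ) ≠ 0 := Nat.cast_ne_zero.2 Nat.card_pos.ne'
    have h7 : (Nat.card (Subgroup.centralizer ({t} : Set H)) : ℂ) ≠ 0 :=
      Nat.cast_ne_zero.2 Nat.card_pos.ne'
    convert h3 using 1
    field_simp
    rw [← h5]
    ring
  exact hA

end Local

section Comp

variable {G : Type u} {H : Type v} {K : Type w} [Group G] [Group H] [Group K]
  [Finite G] [Fintype H] [Finite K]
variable {p : ℕ} [Fact p.Prime] {M : Ideal AlgInt}

/-- The kernel of a composite. -/
theorem kernel_comp {c : Set (IrrCharacter H)} {I : IrrCharacter H → IrrCharacter G}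
    {ε : IrrCharacter H → ℤ} {d : Set (IrrCharacter K)} {J : IrrCharacter K → IrrCharacter H}
    {δ : IrrCharacter K → ℤ} (hJ : Set.MapsTo J d c) (x : G) (z : K) :
    signedBijectionKernel d (fun κ => I (J κ)) (fun κ => ε (J κ) * δ κ) x z =
      (Nat.card H : ℂ)⁻¹ * ∑ y : H, signedBijectionKernel c I ε x y⁻¹ *
        signedBijectionKernel d J δ y z := by
  classical
  have hfin0 : Finite (IrrCharacter K) := Characters.Core.finite_irr
  have hfin : Fintype (IrrCharacter K) := Fintype.ofFinite _
  rw [kernel_eq_sum d]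
  simp only [kernel_eq_sum d J]
  simp only [Finset.mul_sum]
  rw [Finset.sum_comm]
  refine Finset.sum_congr rfl fun κ _ => ?_
  by_cases hκ : κ ∈ d
  · have h1 : ∀ y : H, (Nat.card H : ℂ)⁻¹ * (signedBijectionKernel c I ε x y⁻¹ *
        (if κ ∈ d then (δ κ : ℂ) * (J κ : H → ℂ) y * (κ : K → ℂ) z else 0)) =
        ((δ κ : ℂ) * (κ : K → ℂ) z) * ((Nat.card H : ℂ)⁻¹ * ((J κ : H → ℂ) y *
          signedBijectionKernel c I ε x y⁻¹)) := by
      intro y
      rw [if_pos hκ]
      ring
    simp only [h1]
    rw [← Finset.mul_sum, ← Finset.mul_sum, sum_kernel _ (hJ hκ), if_pos hκ]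
    push_cast
    ring
  · simp only [if_neg hκ, mul_zero, Finset.sum_const_zero]

theorem comp {c : Set (IrrCharacter H)} {b : Set (IrrCharacter G)}
    {I : IrrCharacter H → IrrCharacter G}
    {ε : IrrCharacter H → ℤ} {d : Set (IrrCharacter K)} {J : IrrCharacter K → IrrCharacter H}
    {δ : IrrCharacter K → ℤ} (hM : IsPModular p M) (h1 : IsPerfectIsometry p M c b I ε)
    (h2 : IsPerfectIsometry p M d c J δ) :
    IsPerfectIsometry p M d b (fun κ => I (J κ)) (fun κ => ε (J κ) * δ κ) := by
  have hP : M.IsPrime := Local.isPrime_of_isPModular hM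
  obtain ⟨hI, hε, hμ⟩ := h1
  obtain ⟨hJ, hδ, hν⟩ := h2
  have hcent : ∀ y : H, Nat.card (Subgroup.centralizer ({y⁻¹} : Set H)) =
      Nat.card (Subgroup.centralizer ({y} : Set H)) := by
    intro y
    have : Subgroup.centralizer ({y⁻¹} : Set H) = Subgroup.centralizer ({y} : Set H) := by
      ext t
      rw [Subgroup.mem_centralizer_singleton_iff, Subgroup.mem_centralizer_singleton_iff]
      constructor
      · intro h
        have h' : Commute t y⁻¹ := h
        exact (Commute.inv_right_iff.1 h')
      · intro h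
        have h' : Commute t y := h
        exact (Commute.inv_right_iff.2 h')
    rw [this]
  have hcl : ∀ x z, IsClassFunction H (fun y => signedBijectionKernel c I ε x y⁻¹ *
      signedBijectionKernel d J δ y z) := by
    intro x z y g
    have e1 := PerfInd.isClassFunction_kernel_right c I ε x y⁻¹ g
    have e2 := PerfInd.isClassFunction_kernel_left d J δ z y g
    simp only at e1 e2
    show signedBijectionKernel c I ε x (g * y * g⁻¹)⁻¹ *
      signedBijectionKernel d J δ (g * y * g⁻¹) z = _
    rw [e2, show (g * y * g⁻¹)⁻¹ = g * y⁻¹ * g⁻¹ by group, e1]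
  refine ⟨hI.comp hJ, fun κ hκ => ?_, fun x z => ⟨?_, ?_, ?_⟩⟩
  · rcases hε _ (hJ.mapsTo hκ) with h3 | h3 <;> rcases hδ κ hκ with h4 | h4 <;>
      simp [h3, h4]
  · rw [kernel_comp hJ.mapsTo]
    have e : (Nat.card H : ℂ)⁻¹ * (∑ y : H, signedBijectionKernel c I ε x y⁻¹ *
        signedBijectionKernel d J δ y z) /
          (Nat.card (Subgroup.centralizer ({x} : Set G)) : ℂ) =
        (Nat.card H : ℂ)⁻¹ * (∑ y : H, signedBijectionKernel c I ε x y⁻¹ *
        signedBijectionKernel d J δ y z /
          (Nat.card (Subgroup.centralizer ({x} : Set G)) : ℂ)) := by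
      rw [mul_div_assoc, Finset.sum_div]
    rw [e]
    refine average_mem (fun y g => ?_) (fun y => ?_)
    · have := hcl x z y g
      simp only at this
      show signedBijectionKernel c I ε x (g * y * g⁻¹)⁻¹ *
        signedBijectionKernel d J δ (g * y * g⁻¹) z / _ = _
      rw [this]
    · have h5 := Local.memLocalRing_mul (hμ x y⁻¹).1 (hν y z).1
      convert h5 using 1
      ring
  · rw [kernel_comp hJ.mapsTo]
    have e : (Nat.card H : ℂ)⁻¹ * (∑ y : H, signedBijectionKernel c I ε x y⁻¹ *
        signedBijectionKernel d J δ y z) /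
          (Nat.card (Subgroup.centralizer ({z} : Set K)) : ℂ) =
        (Nat.card H : ℂ)⁻¹ * (∑ y : H, signedBijectionKernel c I ε x y⁻¹ *
        signedBijectionKernel d J δ y z /
          (Nat.card (Subgroup.centralizer ({z} : Set K)) : ℂ)) := by
      rw [mul_div_assoc, Finset.sum_div]
    rw [e]
    refine average_mem (fun y g => ?_) (fun y => ?_)
    · have := hcl x z y g
      simp only at this
      show signedBijectionKernel c I ε x (g * y * g⁻¹)⁻¹ *
        signedBijectionKernel d J δ (g * y * g⁻¹) z / _ = _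
      rw [this]
    · have h5 := Local.memLocalRing_mul (hμ x y⁻¹).2.1 (hν y z).2.1
      rw [hcent] at h5
      convert h5 using 1
      ring
  · by_cases hxz : IsPRegular p x ↔ IsPRegular p z
    · exact Or.inl hxz
    · right
      rw [kernel_comp hJ.mapsTo]
      have : ∑ y : H, signedBijectionKernel c I ε x y⁻¹ * signedBijectionKernel d J δ y z = 0 := by
        refine Finset.sum_eq_zero fun y _ => ?_
        rcases (hμ x y⁻¹).2.2 with h3 | h3
        · rcases (hν y z).2.2 with h4 | h4
          · exfalso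
            apply hxz
            rw [h3, ← h4]
            unfold IsPRegular
            rw [orderOf_inv]
          · rw [h4, mul_zero]
        · rw [h3, zero_mul]
      rw [this, mul_zero]

end Comp

section Symm

variable {G : Type u} {H : Type v} [Group G] [Group H] [Finite G] [Finite H]
variable {p : ℕ} [Fact p.Prime] {M : Ideal AlgInt}

theorem symm {c : Set (IrrCharacter H)} {b : Set (IrrCharacter G)}
    {I : IrrCharacter H → IrrCharacter G} {ε : IrrCharacter H → ℤ}
    {J : IrrCharacter G → IrrCharacter H}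
    (h : IsPerfectIsometry p M c b I ε) (hJ : ∀ η ∈ c, J (I η) = η) :
    IsPerfectIsometry p M b c J (fun χ => ε (J χ)) := by
  obtain ⟨hI, hε, hμ⟩ := h
  have hJ' : ∀ χ ∈ b, I (J χ) = χ ∧ J χ ∈ c := by
    intro χ hχ
    obtain ⟨η, hη, rfl⟩ := hI.surjOn hχ
    rw [hJ η hη]
    exact ⟨rfl, hη⟩
  have hbij : Set.BijOn J b c := by
    refine ⟨fun χ hχ => (hJ' χ hχ).2, fun χ hχ χ' hχ' h => ?_, fun η hη =>
      ⟨I η, hI.mapsTo hη, hJ η hη⟩⟩
    rw [← (hJ' χ hχ).1, h, (hJ' χ' hχ').1]
  have hker : ∀ (y : H) (x : G), signedBijectionKernel b J (fun χ => ε (J χ)) y x =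
      signedBijectionKernel c I ε x y := by
    intro y x
    unfold signedBijectionKernel
    refine (finsum_mem_eq_of_bijOn I hI fun η hη => ?_).symm
    simp only [hJ η hη]
    ring
  refine ⟨hbij, fun χ hχ => hε _ (hJ' χ hχ).2, fun y x => ?_⟩
  rw [hker]
  refine ⟨(hμ x y).2.1, (hμ x y).1, ?_⟩
  rcases (hμ x y).2.2 with h1 | h1
  · exact Or.inl h1.symm
  · exact Or.inr h1

end Symm

section Rank

variable {G : Type u} {H : Type v} [Group G] [Group H] [Finite G] [Finite H]
variable {p : ℕ} [Fact p.Prime] {M : Ideal AlgInt}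

theorem pRegularPart_of {G : Type u} [Group G] {p : ℕ} {g : G} (h : IsPRegular p g) (θ : G → ℂ) :
    pRegularPart p θ g = θ g := by
  unfold pRegularPart
  rw [if_pos h]

theorem pRegularPart_of_not {G : Type u} [Group G] {p : ℕ} {g : G} (h : ¬ IsPRegular p g)
    (θ : G → ℂ) : pRegularPart p θ g = 0 := by
  unfold pRegularPart
  rw [if_neg h]

/-- The linear map attached to the kernel. -/
noncomputable def kerMap [Fintype H] (c : Set (IrrCharacter H)) (I : IrrCharacter H → IrrCharacter G)
    (ε : IrrCharacter H → ℤ) : (H → ℂ) →ₗ[ℂ] (G → ℂ) where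
  toFun f := fun x => (Nat.card H : ℂ)⁻¹ * ∑ y : H, f y * signedBijectionKernel c I ε x y⁻¹
  map_add' f g := by
    funext x
    simp only [Pi.add_apply, add_mul, Finset.sum_add_distrib, mul_add]
  map_smul' a f := by
    funext x
    simp only [Pi.smul_apply, smul_eq_mul, RingHom.id_apply, mul_assoc, ← Finset.mul_sum]
    ring

theorem kerMap_pRegularPart [Fintype H] {c : Set (IrrCharacter H)} {b : Set (IrrCharacter G)}
    {I : IrrCharacter H → IrrCharacter G} {ε : IrrCharacter H → ℤ}
    (h : IsPerfectIsometry p M c b I ε) {η : IrrCharacter H} (hη : η ∈ c) :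
    kerMap c I ε (pRegularPart p (η : H → ℂ)) =
      (ε η : ℂ) • pRegularPart p (I η : G → ℂ) := by
  funext x
  show (Nat.card H : ℂ)⁻¹ * ∑ y : H, pRegularPart p (η : H → ℂ) y *
    signedBijectionKernel c I ε x y⁻¹ = _
  by_cases hx : IsPRegular p x
  · have h1 : ∀ y : H, pRegularPart p (η : H → ℂ) y * signedBijectionKernel c I ε x y⁻¹ =
        (η : H → ℂ) y * signedBijectionKernel c I ε x y⁻¹ := by
      intro y
      by_cases hy : IsPRegular p y
      · rw [pRegularPart_of hy]
      · rcases (h.2.2 x y⁻¹).2.2 with h2 | h2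
        · exfalso
          apply hy
          have := h2.1 hx
          unfold IsPRegular at this ⊢
          rwa [orderOf_inv] at this
        · rw [h2, mul_zero, mul_zero]
    rw [Finset.sum_congr rfl fun y _ => h1 y, sum_kernel η hη, Pi.smul_apply, pRegularPart_of hx,
      smul_eq_mul]
  · have h1 : ∀ y : H, pRegularPart p (η : H → ℂ) y * signedBijectionKernel c I ε x y⁻¹ = 0 := by
      intro y
      by_cases hy : IsPRegular p y
      · rcases (h.2.2 x y⁻¹).2.2 with h2 | h2
        · exfalso
          apply hx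
          rw [h2]
          unfold IsPRegular at hy ⊢
          rwa [orderOf_inv]
        · rw [h2, mul_zero]
      · rw [pRegularPart_of_not hy, zero_mul]
    rw [Finset.sum_congr rfl fun y _ => h1 y, Finset.sum_const_zero, mul_zero, Pi.smul_apply,
      pRegularPart_of_not hx, smul_zero]

theorem blockRank_le {c : Set (IrrCharacter H)} {b : Set (IrrCharacter G)}
    {I : IrrCharacter H → IrrCharacter G} {ε : IrrCharacter H → ℤ}
    (h : IsPerfectIsometry p M c b I ε) : blockRank p b ≤ blockRank p c := by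
  have hfin : Fintype H := Fintype.ofFinite _
  unfold blockRank
  have h1 : Submodule.span ℂ ((fun χ : IrrCharacter G => pRegularPart p (χ : G → ℂ)) '' b) ≤
      (Submodule.span ℂ ((fun χ : IrrCharacter H => pRegularPart p (χ : H → ℂ)) '' c)).map
        (kerMap c I ε) := by
    rw [Submodule.span_le]
    rintro _ ⟨χ, hχ, rfl⟩
    obtain ⟨η, hη, rfl⟩ := h.1.surjOn hχ
    refine ⟨(ε η : ℂ) • pRegularPart p (η : H → ℂ), Submodule.smul_mem _ _
      (Submodule.subset_span ⟨η, hη, rfl⟩), ?_⟩
    rw [map_smul, kerMap_pRegularPart h hη, smul_smul]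
    rcases h.2.1 η hη with h2 | h2 <;> rw [h2] <;> simp
  refine (Submodule.finrank_mono h1).trans ?_
  exact Submodule.finrank_map_le _ _

theorem card_eq {c : Set (IrrCharacter H)} {b : Set (IrrCharacter G)}
    {I : IrrCharacter H → IrrCharacter G} {ε : IrrCharacter H → ℤ}
    (h : IsPerfectIsometry p M c b I ε) : Nat.card c = Nat.card b :=
  Nat.card_congr (h.1.equiv I)

theorem blockRank_eq {c : Set (IrrCharacter H)} {b : Set (IrrCharacter G)}
    {I : IrrCharacter H → IrrCharacter G} {ε : IrrCharacter H → ℤ}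
    (h : IsPerfectIsometry p M c b I ε) : blockRank p c = blockRank p b := by
  classical
  have : Nonempty (IrrCharacter H) := by
    have : Fintype H := Fintype.ofFinite _
    exact ⟨⟨_, Characters.Core.isIrr_one (G := H)⟩⟩
  have h2 := symm (J := Function.invFunOn I c) h
    (fun η hη => h.1.injOn.leftInvOn_invFunOn hη)
  exact le_antisymm (blockRank_le h2) (blockRank_le h)

/-- Characters which agree on the `p`-regular elements have the same sign and images which agree
on the `p`-regular elements. -/
theorem sign_eq {c : Set (IrrCharacter H)} {b : Set (IrrCharacter G)}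
    {I : IrrCharacter H → IrrCharacter G} {ε : IrrCharacter H → ℤ}
    (h : IsPerfectIsometry p M c b I ε) {η η' : IrrCharacter H} (hη : η ∈ c) (hη' : η' ∈ c)
    (hreg : ∀ y : H, IsPRegular p y → (η : H → ℂ) y = (η' : H → ℂ) y) :
    ε η = ε η' ∧ ∀ x : G, IsPRegular p x → (I η : G → ℂ) x = (I η' : G → ℂ) x := by
  have hfin : Fintype H := Fintype.ofFinite _
  have h1 : pRegularPart p (η : H → ℂ) = pRegularPart p (η' : H → ℂ) := by
    funext y
    by_cases hy : IsPRegular p y
    · rw [pRegularPart_of hy, pRegularPart_of hy, hreg y hy]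
    · rw [pRegularPart_of_not hy, pRegularPart_of_not hy]
  have h2 := kerMap_pRegularPart h hη
  rw [h1, kerMap_pRegularPart h hη'] at h2
  have hone : IsPRegular p (1 : G) := by
    unfold IsPRegular
    rw [orderOf_one]
    exact fun hd => (Fact.out : p.Prime).one_lt.ne' (Nat.dvd_one.1 hd)
  have h3 : ∀ x : G, IsPRegular p x →
      (ε η' : ℂ) * (I η' : G → ℂ) x = (ε η : ℂ) * (I η : G → ℂ) x := by
    intro x hx
    have := congrFun h2 x
    rwa [Pi.smul_apply, Pi.smul_apply, pRegularPart_of hx, pRegularPart_of hx, smul_eq_mul,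
      smul_eq_mul] at this
  have hpos : ∀ χ : IrrCharacter G, ∃ n : ℕ, 0 < n ∧ (χ : G → ℂ) 1 = n := by
    intro χ
    exact ⟨charDegree (χ : G → ℂ), Basic.charDegree_pos χ.2, Basic.irr_one_eq_charDegree χ.2⟩
  have h4 : ε η = ε η' := by
    obtain ⟨n, hn, hn'⟩ := hpos (I η)
    obtain ⟨m, hm, hm'⟩ := hpos (I η')
    have h5 := h3 1 hone
    rw [hn', hm'] at h5
    have h6 : ε η' * (m : ℤ) = ε η * (n : ℤ) := by exact_mod_cast h5
    rcases h.2.1 η hη with h7 | h7 <;> rcases h.2.1 η' hη' with h8 | h8 <;> rw [h7, h8] at h6 ⊢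
    · exfalso
      omega
    · exfalso
      omega
  refine ⟨h4, fun x hx => ?_⟩
  have h5 := h3 x hx
  rw [h4] at h5
  rcases h.2.1 η' hη' with h8 | h8 <;> rw [h8] at h5
  · simpa using h5.symm
  · simpa using h5.symm

end Rank

end Cfsg.Agent.H608.PerfComp
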