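import Cfsg.Agent.H625.SylConst
import Cfsg.Agent.H664.R1.PSLTwo

/-!
# `IMC r (PSL₂(q))` for all primes `r` (helper608)

Every prime `r` dividing `|PSL₂(q)|`, `q ≥ 4`, has an irreducible character of `r`-defect zero (degree `q`, `q + 1` or
`q - 1`; `3`, `4`, `5` for `q = 5`).
-/

set_option autoImplicit false

namespace Cfsg.Agent.H608.ImcPslTwo

open Cfsg Cfsg.Agent.H625.SylConst Cfsg.Agent.H681.DegBasic

universe u

/-- If `N = a * b` and `r` does not divide `b`, the `r`-part of `N` divides `a`. -/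
theorem pow_dvd_of_mul {r N a b : ℕ} (hr : r.Prime) (h : r ^ N.factorization r ∣ a * b) (hb : ¬ r ∣ b) :
    r ^ N.factorization r ∣ a :=
  Nat.Coprime.dvd_of_dvd_mul_right ((Nat.Prime.coprime_iff_not_dvd hr).2 hb |>.pow_left _) h

theorem exists_mem {F : Type*} [Field F] [Fintype F] (h4 : 4 ≤ Fintype.card F) {r : ℕ} (hr : r.Prime)
    (hd : r ∣ Nat.card (Matrix.ProjectiveSpecialLinearGroup (Fin 2) F)) :
    ∃ n ∈ charDegrees (Matrix.ProjectiveSpecialLinearGroup (Fin 2) F),
      r ^ (Nat.card (Matrix.ProjectiveSpecialLinearGroup (Fin 2) F)).factorization r ∣ n := by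
  set N := Nat.card (Matrix.ProjectiveSpecialLinearGroup (Fin 2) F) with hN
  set q := Fintype.card F with hq
  have hsq : q ^ 2 - 1 = (q + 1) * (q - 1) := by
    have := Nat.sq_sub_sq q 1
    rwa [one_pow] at this
  have hNdvd : r ^ N.factorization r ∣ N := Nat.ordProj_dvd N r
  by_cases h5 : q = 5
  · obtain ⟨h1, h2, h3⟩ := H664.R1.PSLTwo.degrees_five (F := F) h5
    have hc1 : N = 60 := by
      have h := SmallSimple.PSLTwoPart.card_psl_two_odd (F := F) (by rw [← hq, h5]; decide)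
      rw [← hq, h5] at h
      omega
    rw [hc1] at hd hNdvd ⊢
    have hd' : r ∣ 2 * (2 * (3 * 5)) := hd
    have h235 : r = 2 ∨ r = 3 ∨ r = 5 := by
      rcases hr.dvd_mul.1 hd' with h | h
      · exact Or.inl ((Nat.prime_dvd_prime_iff_eq hr Nat.prime_two).1 h)
      rcases hr.dvd_mul.1 h with h | h
      · exact Or.inl ((Nat.prime_dvd_prime_iff_eq hr Nat.prime_two).1 h)
      rcases hr.dvd_mul.1 h with h | h
      · exact Or.inr (Or.inl ((Nat.prime_dvd_prime_iff_eq hr Nat.prime_three).1 h))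
      · exact Or.inr (Or.inr ((Nat.prime_dvd_prime_iff_eq hr Nat.prime_five).1 h))
    rcases h235 with rfl | rfl | rfl
    · exact ⟨4, h2, pow_dvd_of_mul (a := 4) (b := 15) (N := 60) Nat.prime_two hNdvd (by norm_num)⟩
    · exact ⟨3, h1, pow_dvd_of_mul (a := 3) (b := 20) (N := 60) Nat.prime_three hNdvd (by norm_num)⟩
    · exact ⟨5, h3, pow_dvd_of_mul (a := 5) (b := 12) (N := 60) Nat.prime_five hNdvd (by norm_num)⟩
  have key : q ∈ charDegrees (Matrix.ProjectiveSpecialLinearGroup (Fin 2) F) ∧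
      q + 1 ∈ charDegrees (Matrix.ProjectiveSpecialLinearGroup (Fin 2) F) ∧
      q - 1 ∈ charDegrees (Matrix.ProjectiveSpecialLinearGroup (Fin 2) F) := by
    rcases Nat.even_or_odd q with h | h
    · have h2 : ringChar F = 2 := FiniteField.even_card_iff_char_two.2 (Nat.even_iff.1 h)
      have : CharP F 2 := h2 ▸ ringChar.charP F
      exact H664.R1.PSLTwo.degrees_even h4
    · refine H664.R1.PSLTwo.degrees_odd h ?_
      rw [Nat.odd_iff] at h
      omega
  obtain ⟨h1, h2, h3⟩ := key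
  -- `N` divides `q (q+1) (q-1)`
  have hNd : N ∣ q * ((q + 1) * (q - 1)) := by
    rcases Nat.even_or_odd q with h | h
    · rw [← hsq, hN, SmallSimple.PSLTwoPart.card_psl_two_even h]
    · rw [← hsq, ← SmallSimple.PSLTwoPart.card_psl_two_odd h]
      exact ⟨2, by ring⟩
  have hP : r ^ N.factorization r ∣ q * ((q + 1) * (q - 1)) := hNdvd.trans hNd
  have hfac : r ∣ q * ((q + 1) * (q - 1)) := hd.trans hNd
  by_cases hrq : r ∣ q
  · refine ⟨q, h1, pow_dvd_of_mul hr hP ?_⟩
    intro h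
    rcases hr.dvd_mul.1 h with h | h
    · have := (Nat.dvd_add_right hrq).1 h
      exact hr.one_lt.ne' (Nat.dvd_one.1 this)
    · have h6 : r ∣ q - (q - 1) := Nat.dvd_sub hrq h
      rw [Nat.sub_sub_self (by omega)] at h6
      exact hr.one_lt.ne' (Nat.dvd_one.1 h6)
  have hP' : r ^ N.factorization r ∣ (q + 1) * (q - 1) := by
    rw [mul_comm] at hP
    exact pow_dvd_of_mul hr hP hrq
  rcases eq_or_ne r 2 with rfl | hr2
  · -- `r = 2`, `q` odd
    have ho : Odd q := by
      rw [Nat.odd_iff]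
      omega
    have hcard : N * 2 = q * ((q + 1) * (q - 1)) := by
      rw [← hsq]
      have := SmallSimple.PSLTwoPart.card_psl_two_odd (F := F) ho
      linarith
    have hmod : q % 4 = 1 ∨ q % 4 = 3 := by
      rw [Nat.odd_iff] at ho
      omega
    rcases hmod with h | h
    · obtain ⟨m, hm⟩ : ∃ m, q + 1 = 2 * m := ⟨(q + 1) / 2, by omega⟩
      have hmo : ¬ 2 ∣ m := by omega
      have hNe : N = (q - 1) * (q * m) := by
        have : N * 2 = (q - 1) * (q * m) * 2 := by
          rw [hcard, hm]; ring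
        omega
      refine ⟨q - 1, h3, pow_dvd_of_mul (b := q * m) Nat.prime_two (hNe ▸ hNdvd) ?_⟩
      intro h6
      rcases Nat.prime_two.dvd_mul.1 h6 with h6 | h6
      · exact hrq h6
      · exact hmo h6
    · obtain ⟨m, hm⟩ : ∃ m, q - 1 = 2 * m := ⟨(q - 1) / 2, by omega⟩
      have hmo : ¬ 2 ∣ m := by omega
      have hNe : N = (q + 1) * (q * m) := by
        have : N * 2 = (q + 1) * (q * m) * 2 := by
          rw [hcard, hm]; ring
        omega
      refine ⟨q + 1, h2, pow_dvd_of_mul (b := q * m) Nat.prime_two (hNe ▸ hNdvd) ?_⟩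
      intro h6
      rcases Nat.prime_two.dvd_mul.1 h6 with h6 | h6
      · exact hrq h6
      · exact hmo h6
  · by_cases hp1 : r ∣ q + 1
    · refine ⟨q + 1, h2, pow_dvd_of_mul hr hP' ?_⟩
      intro h
      have h6 : r ∣ (q + 1) - (q - 1) := Nat.dvd_sub hp1 h
      have h7 : (q + 1) - (q - 1) = 2 := by omega
      rw [h7] at h6
      exact hr2 ((Nat.prime_dvd_prime_iff_eq hr Nat.prime_two).1 h6)
    · refine ⟨q - 1, h3, ?_⟩
      rw [mul_comm] at hP'
      exact pow_dvd_of_mul hr hP' hp1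

/-- **`PSL₂(q)`, `q ≥ 4`, has an irreducible character of `r`-defect zero for every prime `r`.** -/
theorem exists_defect_zero {S : Type u} [Group S] {F : Type*} [Field F] [Fintype F] (h4 : 4 ≤ Fintype.card F)
    (e : S ≃* Matrix.ProjectiveSpecialLinearGroup (Fin 2) F) {r : ℕ} (hr : r.Prime) (hd : r ∣ Nat.card S) :
    ∃ χ : IrrCharacter S, r ^ (Nat.card S).factorization r ∣ charDegree (χ : S → ℂ) := by
  have hc : Nat.card S = Nat.card (Matrix.ProjectiveSpecialLinearGroup (Fin 2) F) := Nat.card_congr e.toEquiv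
  rw [hc] at hd ⊢
  obtain ⟨n, hn, h⟩ := exists_mem h4 hr hd
  obtain ⟨χ, hχ⟩ := H664.R1.PSLTwo.mem_of_equiv e hn
  refine ⟨χ, ?_⟩
  rw [← hχ] at h
  exact h

theorem imc_of_equiv {S : Type u} [Group S] [Finite S] {F : Type*} [Field F] [Fintype F] (h4 : 4 ≤ Fintype.card F)
    (e : S ≃* Matrix.ProjectiveSpecialLinearGroup (Fin 2) F) {r : ℕ} [hr : Fact r.Prime]
    (hd : r ∣ Nat.card S) : IMC r S := by
  obtain ⟨χ, hχ⟩ := exists_defect_zero h4 e hr.out hd
  exact IMC.of_defect_zero hd χ hχ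

/-- **`IMC` for `PSL₂(q)`**, all primes. -/
theorem imc_psl2 {F : Type u} [Field F] [Fintype F] (h : 4 ≤ Fintype.card F) {r : ℕ} [hr : Fact r.Prime]
    (hd : r ∣ Nat.card (Matrix.ProjectiveSpecialLinearGroup (Fin 2) F)) :
    IMC r (Matrix.ProjectiveSpecialLinearGroup (Fin 2) F) :=
  imc_of_equiv h (MulEquiv.refl _) hd

theorem imc_isL2 {S : Type u} [Group S] [Finite S] (h : H671.H5.IsL2 S) {r : ℕ} [hr : Fact r.Prime]
    (hd : r ∣ Nat.card S) : IMC r S := by
  obtain ⟨F, _, _, h4, ⟨e⟩⟩ := h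
  exact imc_of_equiv h4 e hd

end Cfsg.Agent.H608.ImcPslTwo
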