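import Cfsg.Agent.H608.Klein
import Cfsg.Agent.H608.Indicator
import Cfsg.Agent.CharactersDeep.FeitOddAux

/-!
# Klein four Sylow 2-subgroups, the case `ε₁ ε₂ ε₃ = -1`

The two characters of the principal 2-block with value `1` at involutions are complex conjugate.
-/

set_option autoImplicit false

open Cfsg Subgroup Cfsg.Agent.Blocks Cfsg.Agent.Blocks.Basic Cfsg.Agent.Blocks.Local
open Cfsg.Agent.Characters
open scoped ComplexConjugate

namespace Cfsg.Agent.H608.Klein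

universe u

variable {G : Type u} [Group G] [Finite G]

theorem centralizer_inv_singleton (g : G) :
    centralizer ({g⁻¹} : Set G) = centralizer ({g} : Set G) := by
  ext x
  rw [mem_centralizer_singleton_iff, mem_centralizer_singleton_iff]
  constructor
  · intro h
    have h1 : Commute x g⁻¹ := h
    exact (Commute.inv_right_iff.1 h1).eq
  · intro h
    have h1 : Commute x g := h
    exact (Commute.inv_right_iff.2 h1).eq

theorem centralChar_conj {χ : G → ℂ} (hχ : IsIrrCharacter G χ) (g : G) :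
    centralChar (fun x => conj (χ x)) g = centralChar χ g⁻¹ := by
  obtain ⟨d, -, hd⟩ := Core.isIrr_apply_one hχ
  show ((centralizer ({g} : Set G)).index : ℂ) * conj (χ g) / conj (χ 1) =
    ((centralizer ({g⁻¹} : Set G)).index : ℂ) * χ g⁻¹ / χ 1
  rw [centralizer_inv_singleton, Core.isCharacter_apply_inv (Core.isIrr_isCharacter hχ), hd,
    map_natCast]

/-- The principal block is closed under complex conjugation. -/
theorem conj_mem_principalBlock {M : Ideal AlgInt} {χ : IrrCharacter G}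
    (hχ : χ ∈ principalBlock M G) :
    (⟨fun g => conj ((χ : G → ℂ) g), Core.isIrr_conj χ.2⟩ : IrrCharacter G) ∈
      principalBlock M G := by
  rw [PrincipalSection.mem_principalBlock_iff] at hχ ⊢
  intro g
  have h1 := hχ g⁻¹
  show MemLocalIdeal M (centralChar (fun _ => (1 : ℂ)) g -
    centralChar (fun x => conj ((χ : G → ℂ) x)) g)
  rw [centralChar_conj χ.2]
  have h2 : centralChar (fun _ : G => (1 : ℂ)) g = centralChar (fun _ : G => (1 : ℂ)) g⁻¹ := by
    unfold centralChar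
    rw [centralizer_inv_singleton]
  rw [h2]
  exact h1

variable {M : Ideal AlgInt} {g₀ : ℕ} {P : Sylow 2 G} {J : G} {χ₁ χ₂ χ₃ : IrrCharacter G}
  {ε₁ ε₂ ε₃ : ℤ}

/-- There are no elements whose square has `2`-part `J`. -/
theorem no_square (hP : IsKleinFour (P : Subgroup G)) (hJ2 : orderOf J = 2) (s : G)
    (u : centralizer ({J} : Set G)) (hu : ¬ 2 ∣ orderOf u) : s * s ≠ J * (u : G) := by
  have : Fact (Nat.Prime 2) := ⟨Nat.prime_two⟩
  intro hs
  have hJJ : J * J = 1 := by rw [← sq, ← hJ2, pow_orderOf_eq_one]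
  have hcu : Commute J (u : G) := (mem_centralizer_singleton_iff.1 u.2).symm
  obtain ⟨k, hk⟩ : Odd (orderOf u) := Nat.odd_iff.2 (by omega)
  have hpow : (s * s) ^ orderOf u = J := by
    rw [hs, hcu.mul_pow, ← Subgroup.orderOf_coe, pow_orderOf_eq_one, Subgroup.orderOf_coe, mul_one,
      hk, pow_succ, pow_mul, sq, hJJ, one_pow, one_mul]
  set r := s ^ orderOf u with hr
  have hrr : r * r = J := by
    refine Eq.trans ?_ hpow
    rw [hr, ← sq, ← sq, ← pow_mul, ← pow_mul, mul_comm]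
  have hr4 : r ^ 2 ^ 2 = 1 := by
    have : r ^ 2 ^ 2 = (r * r) * (r * r) := by
      rw [show (2 : ℕ) ^ 2 = 2 + 2 from rfl, pow_add, sq]
    rw [this, hrr, hJJ]
  have hzp : IsPGroup 2 (Subgroup.zpowers r) := by
    obtain ⟨k, -, hk⟩ := (Nat.dvd_prime_pow Nat.prime_two).1 (orderOf_dvd_of_pow_eq_one hr4)
    refine IsPGroup.of_card (n := k) ?_
    rw [Nat.card_zpowers, hk]
  obtain ⟨S', hS'⟩ := hzp.exists_le_sylow
  obtain ⟨g, hg⟩ := MulAction.exists_smul_eq G S' P
  have hmem : g * r * g⁻¹ ∈ (P : Subgroup G) := by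
    rw [← hg]
    exact ⟨r, hS' (Subgroup.mem_zpowers r), rfl⟩
  have hk := hP
  have h2 := IsKleinFour.mul_self (⟨_, hmem⟩ : (P : Subgroup G))
  have h3 : g * r * g⁻¹ * (g * r * g⁻¹) = 1 := congrArg Subtype.val h2
  have h4 : J = 1 := by
    rw [← hrr]
    calc r * r = g⁻¹ * (g * r * g⁻¹ * (g * r * g⁻¹)) * g := by group
      _ = 1 := by rw [h3]; group
  rw [h4, orderOf_one] at hJ2
  omega

theorem KHyp.odd_degree (h : KHyp M g₀ P J χ₁ χ₂ χ₃ ε₁ ε₂ ε₃) {χ : IrrCharacter G} {ε : ℤ}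
    (hε : ε = 1 ∨ ε = -1) (hv : (χ : G → ℂ) J = ε) : Odd (charDegree (χ : G → ℂ)) := by
  obtain ⟨x, hx, hx'⟩ := CharactersDeep.FeitOddAux.exists_int_apply χ.2 h.hJ2
  have h1 := hx' _ (KHyp.deg χ).1
  rw [hv] at hx
  have h2 : ε = x := by exact_mod_cast hx
  rw [← h2] at h1
  obtain ⟨k, hk⟩ := h1
  rw [Nat.odd_iff]
  rcases hε with rfl | rfl <;> omega

/-- The indicator of an irreducible character of odd degree is `0` or `1`; if it is `0`, then the
character is not real. -/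
theorem exists_indicator_of_odd [Fintype G] (χ : IrrCharacter G)
    (hodd : Odd (charDegree (χ : G → ℂ))) :
    ∃ n : ℤ, (n = 0 ∨ n = 1) ∧ (Nat.card G : ℂ)⁻¹ * ∑ s : G, (χ : G → ℂ) (s * s) = n ∧
      (n = 0 → ∃ g, ((χ : G → ℂ) g).im ≠ 0) := by
  obtain ⟨n, h1, h2, h3⟩ := CharactersDeep.FeitOddAux.exists_indicator χ.2
  refine ⟨n, ?_, h2, h3.1⟩
  rcases h1 with h1 | h1 | h1
  · exact Or.inl h1
  · exact Or.inr h1
  · exfalso
    rw [← Nat.not_even_iff_odd] at hodd
    apply hodd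
    refine Indicator.even_of_indicator χ.2 (fun g => ?_) (by rw [h2, h1]; simp) (KHyp.deg χ).1
    by_contra hg
    have := h3.2 ⟨g, hg⟩
    omega

theorem KHyp.signs (h : KHyp M g₀ P J χ₁ χ₂ χ₃ ε₁ ε₂ ε₃) (hprod : ε₁ * ε₂ * ε₃ = -1)
    (hε₃ : ε₃ = -1) : ε₁ = 1 ∧ ε₂ = 1 := by
  obtain ⟨h1, h2, -⟩ := h.hε
  have h3 := h.degree_eq
  have d1 := (KHyp.deg χ₁).2
  have d2 := (KHyp.deg χ₂).2
  have d3 := (KHyp.deg χ₃).2
  subst hε₃
  rcases h1 with rfl | rfl <;> rcases h2 with rfl | rfl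
  · exact ⟨rfl, rfl⟩
  · omega
  · omega
  · exfalso; omega

theorem KHyp.charDegree_eq (h : KHyp M g₀ P J χ₁ χ₂ χ₃ ε₁ ε₂ ε₃) (hprod : ε₁ * ε₂ * ε₃ = -1)
    (hε₃ : ε₃ = -1) : charDegree (χ₁ : G → ℂ) = charDegree (χ₂ : G → ℂ) := by
  classical
  have := Fintype.ofFinite G
  have : Fact (Nat.Prime 2) := ⟨Nat.prime_two⟩
  obtain ⟨e1, e2⟩ := h.signs hprod hε₃
  obtain ⟨ρ, hρ, hH⟩ := h.ret
  have h1 := SecProj.sum_indicator h.hM hH (fun s u hu => no_square h.klein h.hJ2 s u hu)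
  rw [h.finsum_eq] at h1
  obtain ⟨v1, v2, v3⟩ := h.hval
  obtain ⟨n1, a1, b1, c1⟩ := exists_indicator_of_odd χ₁ (h.odd_degree h.hε.1 v1)
  obtain ⟨n2, a2, b2, c2⟩ := exists_indicator_of_odd χ₂ (h.odd_degree h.hε.2.1 v2)
  obtain ⟨n3, a3, b3, c3⟩ := exists_indicator_of_odd χ₃ (h.odd_degree h.hε.2.2 v3)
  have hG : (Nat.card G : ℂ) ≠ 0 := by exact_mod_cast Nat.card_pos.ne'
  have b0 : (Nat.card G : ℂ)⁻¹ * ∑ s : G, ((⟨fun _ => 1, isIrrCharacter_one⟩ : IrrCharacter G) :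
      G → ℂ) (s * s) = 1 := by
    simp only [Finset.sum_const, Finset.card_univ, nsmul_eq_mul, mul_one]
    rw [← Nat.card_eq_fintype_card]
    exact inv_mul_cancel₀ hG
  rw [b0, b1, b2, b3, v1, v2, v3, e1, e2, hε₃] at h1
  simp only [map_one, map_intCast] at h1
  have h2 : (1 : ℤ) + n1 + n2 - n3 = 0 := by
    have : (((1 : ℤ) + n1 + n2 - n3 : ℤ) : ℂ) = ((0 : ℤ) : ℂ) := by
      push_cast
      push_cast at h1
      rw [← h1]; ring
    exact_mod_cast this
  have h3 : n1 = 0 := by omega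
  obtain ⟨g, hg⟩ := c1 h3
  have hmem : χ₁ ∈ principalBlock M G := by
    rw [h.hB]; exact Or.inr (Or.inl rfl)
  have hc := conj_mem_principalBlock hmem
  rw [h.hB] at hc
  rcases hc with hc | hc | hc | hc
  · exfalso
    have hc' : (fun g => conj ((χ₁ : G → ℂ) g)) = fun _ => 1 := hc
    have := congrFun hc' g
    apply hg
    have h4 := congrArg Complex.im this
    simp at h4
    exact h4
  · exfalso
    have := congrFun (congrArg Subtype.val hc) g
    apply hg
    exact Complex.conj_eq_iff_im.1 this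
  · rw [← hc]
    obtain ⟨d, -, hd⟩ := Core.isIrr_apply_one χ₁.2
    unfold charDegree
    simp [hd]
  · exfalso
    have := congrFun (congrArg Subtype.val hc) J
    have h5 : conj ((χ₁ : G → ℂ) J) = (χ₃ : G → ℂ) J := this
    rw [v1, v3, e1, hε₃] at h5
    simp at h5
    norm_num at h5

end Cfsg.Agent.H608.Klein
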