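import Mathlib
import Cfsg.Agent.H764.Ov

/-!
# The torus in the configuration of case I of S5177 (task 92)

`core`: the linear form of the statement; `ov_torus`: the statement of the task.
-/

set_option autoImplicit false

namespace Cfsg.Agent.H608.OvTorus

section Linear

variable {p : ℕ} [hp : Fact p.Prime] {Γ W : Type*} [Group Γ] [AddCommGroup W] [Module (ZMod p) W]

/-- The linear version of the configuration. -/
structure Lin (ρ : Γ →* Module.End (ZMod p) W) (G T : Subgroup Γ) (H : Submodule (ZMod p) W)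
    (x z : W) : Prop where
  inj : Function.Injective ρ
  z_mem : z ∈ H
  z_ne : z ≠ 0
  x_not : x ∉ H
  index : ∀ v : W, ∃ i : ZMod p, v + i • x ∈ H
  T_le : T ≤ G
  T_comm : ∀ s ∈ T, ∀ t ∈ T, s * t = t * s
  T_z : ∀ t ∈ T, ρ t z = z
  T_H : ∀ t ∈ T, ∀ w ∈ H, ∃ j : ZMod p, ρ t w = w + j • z
  T_x : ∀ t ∈ T, ∃ w ∈ H, ρ t x = x + w
  T_surj : ∀ w ∈ H, ∃ t ∈ T, ∃ i : ZMod p, ρ t x = x + w + i • z
  T_inj : ∀ t ∈ T, ∀ i : ZMod p, ρ t x = x + i • z → t = 1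
  trans : ∃ α ∈ G, ρ α z = x
  hI : ∀ β ∈ G, ρ β z ∈ H → ∃ i : ZMod p, ρ β z = i • z
  hA : ∀ t ∈ T, t ≠ 1 → ∀ w : W, ρ t x = x + w → ρ t w ≠ w
  hB : ∀ β ∈ G, (∀ i : ZMod p, ρ β z ≠ i • z) → ∃ t ∈ T, ∃ i : ZMod p, ρ β z = i • ρ t x
  hS : ∀ N : Subgroup Γ, N ≤ G → IsPGroup p N → T ≤ N → N = T

variable {ρ : Γ →* Module.End (ZMod p) W} {G T : Subgroup Γ} {H : Submodule (ZMod p) W} {x z : W}

theorem rho_mul (ρ : Γ →* Module.End (ZMod p) W) (a b : Γ) (v : W) : ρ (a * b) v = ρ a (ρ b v) := by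
  rw [map_mul, Module.End.mul_apply]

theorem rho_inv_apply (ρ : Γ →* Module.End (ZMod p) W) (a : Γ) (v : W) : ρ a⁻¹ (ρ a v) = v := by
  rw [← rho_mul, inv_mul_cancel, map_one, Module.End.one_apply]

theorem rho_apply_inv (ρ : Γ →* Module.End (ZMod p) W) (a : Γ) (v : W) : ρ a (ρ a⁻¹ v) = v := by
  rw [← rho_mul, mul_inv_cancel, map_one, Module.End.one_apply]

theorem rho_ne_zero (ρ : Γ →* Module.End (ZMod p) W) (a : Γ) {v : W} (hv : v ≠ 0) : ρ a v ≠ 0 := by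
  intro h
  apply hv
  rw [← rho_inv_apply ρ a v, h, map_zero]

/-- The functional with kernel `H`. -/
theorem exists_xi (h : Lin ρ G T H x z) : ∃ ξ : W →ₗ[ZMod p] ZMod p, ξ x = 1 ∧
    ∀ v, v ∈ H ↔ ξ v = 0 := by
  have hlt : H < ⊤ := by
    refine lt_of_le_of_ne le_top fun he => h.x_not ?_
    rw [he]
    trivial
  obtain ⟨f, hf, hle⟩ := Submodule.exists_le_ker_of_lt_top H hlt
  have hfx : f x ≠ 0 := by
    intro h0
    apply hf
    ext v
    obtain ⟨i, hi⟩ := h.index v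
    have := LinearMap.mem_ker.1 (hle hi)
    rw [map_add, map_smul, h0, smul_zero, add_zero] at this
    rw [this, LinearMap.zero_apply]
  refine ⟨(f x)⁻¹ • f, ?_, fun v => ⟨fun hv => ?_, fun hv => ?_⟩⟩
  · rw [LinearMap.smul_apply, smul_eq_mul, inv_mul_cancel₀ hfx]
  · rw [LinearMap.smul_apply, LinearMap.mem_ker.1 (hle hv), smul_zero]
  · rw [LinearMap.smul_apply, smul_eq_mul] at hv
    have hv' : f v = 0 := by
      rcases mul_eq_zero.1 hv with h1 | h1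
      · exact absurd h1 (inv_ne_zero hfx)
      · exact h1
    obtain ⟨i, hi⟩ := h.index v
    have := LinearMap.mem_ker.1 (hle hi)
    rw [map_add, map_smul, hv', zero_add, smul_eq_mul] at this
    rcases mul_eq_zero.1 this with h1 | h1
    · rw [h1, zero_smul, add_zero] at hi
      exact hi
    · exact absurd h1 hfx

/-- An element of `G` stabilizing `⟨z⟩` stabilizes `H`. -/
theorem map_H (h : Lin ρ G T H x z) {γ : Γ} (hγ : γ ∈ G) {μ : ZMod p} (hμ : ρ γ z = μ • z) {w : W}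
    (hw : w ∈ H) : ρ γ w ∈ H := by
  obtain ⟨ξ, hξx, hξ⟩ := exists_xi h
  by_contra hn
  rw [hξ] at hn
  set c := ξ (ρ γ w) with hc
  have hμ0 : μ ≠ 0 := by
    rintro rfl
    rw [zero_smul] at hμ
    exact rho_ne_zero ρ γ h.z_ne hμ
  have hmem : c⁻¹ • ρ γ w - x ∈ H := by
    rw [hξ, map_sub, map_smul, hξx, ← hc, smul_eq_mul, inv_mul_cancel₀ hn, sub_self]
  obtain ⟨t, ht, l, hl⟩ := h.T_surj _ hmem
  obtain ⟨α, hα, hαz⟩ := h.trans
  have h1 : ρ t x = ρ γ (c⁻¹ • w + (l * μ⁻¹) • z) := by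
    rw [map_add, map_smul, map_smul, hμ, smul_smul, mul_assoc, inv_mul_cancel₀ hμ0, mul_one, hl]
    abel
  have h2 : ρ (γ⁻¹ * t * α) z = c⁻¹ • w + (l * μ⁻¹) • z := by
    rw [rho_mul, rho_mul, hαz, h1, rho_inv_apply]
  obtain ⟨i, hi⟩ := h.hI (γ⁻¹ * t * α) (G.mul_mem (G.mul_mem (G.inv_mem hγ) (h.T_le ht)) hα) (by
    rw [h2]
    exact H.add_mem (H.smul_mem _ hw) (H.smul_mem _ h.z_mem))
  rw [h2] at hi
  rw [hi, map_smul, hμ, smul_smul] at h1
  have h3 : ρ t x ∈ H := by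
    rw [h1]
    exact H.smul_mem _ h.z_mem
  obtain ⟨w', hw', h4⟩ := h.T_x t ht
  rw [h4] at h3
  exact h.x_not ((H.add_mem_iff_left hw').1 h3)

theorem rho_pow (ρ : Γ →* Module.End (ZMod p) W) {t : Γ} {v z : W} {c : ZMod p} (hz : ρ t z = z)
    (hv : ρ t v = v + c • z) (k : ℕ) : ρ (t ^ k) v = v + ((k : ZMod p) * c) • z := by
  have hz' : ∀ k : ℕ, ρ (t ^ k) z = z := by
    intro k
    induction k with
    | zero => rw [pow_zero, map_one, Module.End.one_apply]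
    | succ k ih => rw [pow_succ, rho_mul, hz, ih]
  induction k with
  | zero => rw [pow_zero, map_one, Module.End.one_apply, Nat.cast_zero, zero_mul, zero_smul, add_zero]
  | succ k ih =>
    rw [pow_succ, rho_mul, hv, map_add, map_smul, ih, hz']
    push_cast
    rw [add_mul, one_mul, add_smul]
    abel

/-- The subgroup of `G` of the elements trivial on `⟨z⟩`, `H / ⟨z⟩`, `V / H`. -/
def D (ρ : Γ →* Module.End (ZMod p) W) (G : Subgroup Γ) (H : Submodule (ZMod p) W) (x z : W)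
    (hz : z ∈ H) : Subgroup Γ where
  carrier := {γ | γ ∈ G ∧ ρ γ z = z ∧ (∀ w ∈ H, ∃ j : ZMod p, ρ γ w = w + j • z) ∧
    ∃ w ∈ H, ρ γ x = x + w}
  one_mem' := ⟨G.one_mem, by rw [map_one, Module.End.one_apply], fun w _ => ⟨0, by
    rw [map_one, Module.End.one_apply, zero_smul, add_zero]⟩, 0, H.zero_mem, by
    rw [map_one, Module.End.one_apply, add_zero]⟩
  mul_mem' := by
    rintro a b ⟨ha, haz, haH, wa, hwa, hax⟩ ⟨hb, hbz, hbH, wb, hwb, hbx⟩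
    refine ⟨G.mul_mem ha hb, by rw [rho_mul, hbz, haz], fun w hw => ?_, ?_⟩
    · obtain ⟨j, hj⟩ := hbH w hw
      obtain ⟨i, hi⟩ := haH w hw
      refine ⟨i + j, ?_⟩
      rw [rho_mul, hj, map_add, map_smul, hi, haz, add_smul]
      abel
    · obtain ⟨i, hi⟩ := haH wb hwb
      refine ⟨wa + (wb + i • z), H.add_mem hwa (H.add_mem hwb (H.smul_mem _ hz)), ?_⟩
      rw [rho_mul, hbx, map_add, hax, hi]
      abel
  inv_mem' := by
    rintro a ⟨ha, haz, haH, wa, hwa, hax⟩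
    have hz' : ρ a⁻¹ z = z := by
      conv_lhs => rw [← haz]
      rw [rho_inv_apply]
    have hH' : ∀ w ∈ H, ∃ j : ZMod p, ρ a⁻¹ w = w + j • z := by
      intro w hw
      obtain ⟨j, hj⟩ := haH w hw
      refine ⟨-j, ?_⟩
      have h1 : ρ a⁻¹ (ρ a w) = w := rho_inv_apply ρ a w
      rw [hj, map_add, map_smul, hz'] at h1
      rw [neg_smul, ← sub_eq_add_neg, eq_sub_iff_add_eq]
      exact h1
    refine ⟨G.inv_mem ha, hz', hH', ?_⟩
    obtain ⟨j, hj⟩ := hH' wa hwa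
    refine ⟨-(wa + j • z), H.neg_mem (H.add_mem hwa (H.smul_mem _ hz)), ?_⟩
    have h1 : ρ a⁻¹ (ρ a x) = x := rho_inv_apply ρ a x
    rw [hax, map_add, hj] at h1
    rw [← sub_eq_add_neg, eq_sub_iff_add_eq]
    exact h1

theorem D_eq (hp2 : p ≠ 2) (h : Lin ρ G T H x z) : D ρ G H x z h.z_mem = T := by
  refine h.hS _ (fun γ hγ => hγ.1) ?_ fun t ht =>
    ⟨h.T_le ht, h.T_z t ht, h.T_H t ht, h.T_x t ht⟩
  intro γ
  refine ⟨1, ?_⟩
  rw [pow_one]
  obtain ⟨γ, hγ, hz, hH, w, hw, hx⟩ := γ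
  apply Subtype.ext
  show γ ^ p = 1
  apply h.inj
  rw [map_one]
  obtain ⟨c, hc⟩ := hH w hw
  have hpow : ∀ k : ℕ, ρ (γ ^ k) x = x + (k : ZMod p) • w + ((k.choose 2 : ℕ) * c : ZMod p) • z := by
    intro k
    induction k with
    | zero => simp
    | succ k ih =>
      rw [pow_succ', rho_mul, ih, map_add, map_add, map_smul, map_smul, hx, hc, hz,
        Nat.choose_succ_succ' k 1, Nat.choose_one_right]
      push_cast
      rw [add_mul, add_smul, add_smul, one_smul, smul_add, smul_smul]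
      abel
  have hodd : p.choose 2 = p * ((p - 1) / 2) := by
    rw [Nat.choose_two_right]
    obtain ⟨k, hk⟩ := (hp.out.odd_of_ne_two hp2)
    subst hk
    rw [Nat.add_sub_cancel, Nat.mul_div_cancel_left _ (by norm_num),
      show (2 * k + 1) * (2 * k) = 2 * ((2 * k + 1) * k) by ring,
      Nat.mul_div_cancel_left _ (by norm_num)]
  have hx' : ρ (γ ^ p) x = x := by
    rw [hpow p, hodd]
    simp
  ext v
  obtain ⟨i, hi⟩ := h.index v
  obtain ⟨j, hj⟩ := hH _ hi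
  have h1 := rho_pow ρ hz hj p
  rw [ZMod.natCast_self, zero_mul, zero_smul, add_zero, map_add, map_smul, hx'] at h1
  rw [Module.End.one_apply]
  exact add_right_cancel h1

/-- An element of `G` stabilizing `⟨z⟩` normalizes `T`. -/
theorem conj_mem (hp2 : p ≠ 2) (h : Lin ρ G T H x z) {n : Γ} (hn : n ∈ G) {μ : ZMod p}
    (hμ : ρ n z = μ • z) {t : Γ} (ht : t ∈ T) : n * t * n⁻¹ ∈ T := by
  have hμ0 : μ ≠ 0 := by
    rintro rfl
    rw [zero_smul] at hμ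
    exact rho_ne_zero ρ n h.z_ne hμ
  have hinv : ρ n⁻¹ z = μ⁻¹ • z := by
    have h1 : ρ n⁻¹ (ρ n z) = z := rho_inv_apply ρ n z
    rw [hμ, map_smul] at h1
    rw [← h1, smul_smul, inv_mul_cancel₀ hμ0, one_smul, h1]
  have key : n * t * n⁻¹ ∈ D ρ G H x z h.z_mem := by
    refine ⟨G.mul_mem (G.mul_mem hn (h.T_le ht)) (G.inv_mem hn), ?_, ?_, ?_⟩
    · rw [rho_mul, rho_mul, hinv, map_smul, h.T_z t ht, map_smul, hμ, smul_smul,
        inv_mul_cancel₀ hμ0, one_smul]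
    · intro w hw
      obtain ⟨j, hj⟩ := h.T_H t ht _ (map_H h (G.inv_mem hn) hinv hw)
      refine ⟨j * μ, ?_⟩
      rw [rho_mul, rho_mul, hj, map_add, rho_apply_inv, map_smul, hμ, smul_smul]
    · -- trivial on `V / H`
      obtain ⟨ξ, hξx, hξ⟩ := exists_xi h
      set u := ρ n⁻¹ x with hu
      obtain ⟨i, hi⟩ := h.index u
      obtain ⟨w, hw, hx⟩ := h.T_x t ht
      obtain ⟨j, hj⟩ := h.T_H t ht _ hi
      have h1 : ρ t u = u + (j • z - i • w) := by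
        rw [map_add, map_smul, hx, smul_add] at hj
        have : ρ t u = u + i • x + j • z - (i • x + i • w) := by
          rw [eq_sub_iff_add_eq]
          exact hj
        rw [this]
        abel
      refine ⟨ρ n (j • z - i • w), map_H h hn hμ (H.sub_mem (H.smul_mem _ h.z_mem)
        (H.smul_mem _ hw)), ?_⟩
      rw [rho_mul, rho_mul, ← hu, h1, map_add, hu, rho_apply_inv]
  rw [D_eq hp2 h] at key
  exact key

/-- `w t = t x - x`. -/
def wt (ρ : Γ →* Module.End (ZMod p) W) (x : W) (t : Γ) : W := ρ t x - x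

theorem wt_mem (h : Lin ρ G T H x z) {t : Γ} (ht : t ∈ T) : wt ρ x t ∈ H := by
  obtain ⟨w, hw, h1⟩ := h.T_x t ht
  unfold wt
  rw [h1, add_sub_cancel_left]
  exact hw

theorem rho_x (t : Γ) : ρ t x = x + wt ρ x t := by
  unfold wt
  abel

theorem wt_mul (s t : Γ) : wt ρ x (s * t) = wt ρ x s + ρ s (wt ρ x t) := by
  unfold wt
  rw [rho_mul, map_sub]
  abel

theorem wt_symm (h : Lin ρ G T H x z) {s t : Γ} (hs : s ∈ T) (ht : t ∈ T) :
    ρ s (wt ρ x t) - wt ρ x t = ρ t (wt ρ x s) - wt ρ x s := by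
  have h1 := wt_mul (ρ := ρ) (x := x) s t
  rw [h.T_comm s hs t ht, wt_mul] at h1
  rw [sub_eq_sub_iff_add_eq_add]
  rw [add_comm (ρ s (wt ρ x t)), ← h1]
  abel

theorem eq_of_wt (h : Lin ρ G T H x z) {s t : Γ} (hs : s ∈ T) (ht : t ∈ T) {i : ZMod p}
    (hi : wt ρ x s = wt ρ x t + i • z) : s = t := by
  have h1 : t⁻¹ * s = 1 := by
    refine h.T_inj _ (T.mul_mem (T.inv_mem ht) hs) i ?_
    rw [rho_mul, rho_x s, hi]
    have h2 : ρ t⁻¹ (ρ t x) = x := rho_inv_apply ρ t x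
    rw [rho_x t] at h2
    rw [← add_assoc, map_add, h2, map_smul, h.T_z _ (T.inv_mem ht)]
  rw [inv_mul_eq_one] at h1
  exact h1.symm

/-- The functional `ζ` with `ζ z = 1`, `ζ x = 0` and kernel `α H`. -/
theorem exists_zeta (h : Lin ρ G T H x z) : ∃ α ∈ G, ρ α z = x ∧ ∃ ζ : W →ₗ[ZMod p] ZMod p,
    ζ z = 1 ∧ ζ x = 0 ∧ ∀ v, ζ v = 0 ↔ ρ α⁻¹ v ∈ H := by
  obtain ⟨ξ, hξx, hξ⟩ := exists_xi h
  obtain ⟨α, hα, hαz⟩ := h.trans
  have hαx : ρ α⁻¹ x = z := by rw [← hαz, rho_inv_apply]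
  have hne : ξ (ρ α⁻¹ z) ≠ 0 := by
    intro h0
    rw [← hξ] at h0
    obtain ⟨i, hi⟩ := h.hI α⁻¹ (G.inv_mem hα) h0
    have h1 : z = i • x := by
      rw [← rho_apply_inv ρ α z, hi, map_smul, hαz]
    have hi0 : i ≠ 0 := by
      rintro rfl
      rw [zero_smul] at h1
      exact h.z_ne h1
    apply h.x_not
    have : x = i⁻¹ • z := by rw [h1, smul_smul, inv_mul_cancel₀ hi0, one_smul]
    rw [this]
    exact H.smul_mem _ h.z_mem
  refine ⟨α, hα, hαz, (ξ (ρ α⁻¹ z))⁻¹ • (ξ ∘ₗ (ρ α⁻¹ : W →ₗ[ZMod p] W)), ?_, ?_, fun v => ?_⟩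
  · rw [LinearMap.smul_apply, LinearMap.comp_apply, smul_eq_mul, inv_mul_cancel₀ hne]
  · rw [LinearMap.smul_apply, LinearMap.comp_apply, hαx, (hξ z).1 h.z_mem, smul_zero]
  · rw [LinearMap.smul_apply, LinearMap.comp_apply, smul_eq_mul, hξ]
    constructor
    · intro h1
      rcases mul_eq_zero.1 h1 with h2 | h2
      · exact absurd h2 (inv_ne_zero hne)
      · exact h2
    · intro h1
      rw [h1, mul_zero]

/-- The key element `n_t` swapping `⟨z⟩` and `⟨x⟩`. -/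
theorem exists_swap (h : Lin ρ G T H x z) {α : Γ} (hα : α ∈ G) (hαz : ρ α z = x)
    {ζ : W →ₗ[ZMod p] ZMod p} (hζz : ζ z = 1) (hζx : ζ x = 0)
    (hζ : ∀ v, ζ v = 0 ↔ ρ α⁻¹ v ∈ H) {t : Γ} (ht : t ∈ T) (ht1 : t ≠ 1) :
    ζ (wt ρ x t) ≠ 0 ∧ ∃ n ∈ G, ∃ k l : ZMod p, k ≠ 0 ∧ l ≠ 0 ∧ ρ n z = k • x ∧ ρ n x = l • z ∧
      ∀ b ∈ H, ζ b = 0 → ∀ f : ZMod p, ρ t b = b + f • z →
        ρ n b = b - (f / ζ (wt ρ x t)) • (wt ρ x t - ζ (wt ρ x t) • z) := by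
  obtain ⟨ξ, hξx, hξ⟩ := exists_xi h
  have hαx : ρ α⁻¹ x = z := by rw [← hαz, rho_inv_apply]
  have hwt := wt_mem h ht
  have hsmul : ∀ {i : ZMod p} {u v : W}, i ≠ 0 → u = i • v → v = i⁻¹ • u := by
    intro i u v hi h1
    rw [h1, smul_smul, inv_mul_cancel₀ hi, one_smul]
  have hwt0 : wt ρ x t ≠ 0 := by
    intro h0
    exact ht1 (h.T_inj t ht 0 (by rw [rho_x t, h0, zero_smul]))
  -- `t x` is not in `⟨z⟩` or `⟨x⟩`
  have htx : ρ t x ∉ H := by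
    rw [rho_x t]
    intro h1
    exact h.x_not ((H.add_mem_iff_left hwt).1 h1)
  -- `t'`
  obtain ⟨t', ht', i, hi⟩ := h.hB (α⁻¹ * t * α)
    (G.mul_mem (G.mul_mem (G.inv_mem hα) (h.T_le ht)) hα) (by
      intro i hi
      rw [rho_mul, rho_mul, hαz] at hi
      have h1 : ρ t x = i • x := by
        rw [← rho_apply_inv ρ α (ρ t x), hi, map_smul, hαz]
      rw [rho_x t] at h1
      have h2 : wt ρ x t = (i - 1) • x := by
        rw [sub_smul, one_smul, ← h1]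
        abel
      have h3 : i - 1 = 0 := by
        have h4 := (hξ _).1 hwt
        rw [h2, map_smul, hξx, smul_eq_mul, mul_one] at h4
        exact h4
      rw [h3, zero_smul] at h2
      exact hwt0 h2)
  rw [rho_mul, rho_mul, hαz] at hi
  obtain ⟨t₂, ht₂, j, hj⟩ := h.hB α⁻¹ (G.inv_mem hα) (by
    intro i hi
    have h1 : z = i • x := by rw [← rho_apply_inv ρ α z, hi, map_smul, hαz]
    have hi0 : i ≠ 0 := by
      rintro rfl
      rw [zero_smul] at h1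
      exact h.z_ne h1
    apply h.x_not
    rw [hsmul hi0 h1]
    exact H.smul_mem _ h.z_mem)
  have hi0 : i ≠ 0 := by
    rintro rfl
    rw [zero_smul] at hi
    refine rho_ne_zero ρ α⁻¹ (v := ρ t x) ?_ hi
    intro h0
    rw [h0] at htx
    exact htx H.zero_mem
  have hj0 : j ≠ 0 := by
    rintro rfl
    rw [zero_smul] at hj
    exact rho_ne_zero ρ α⁻¹ h.z_ne hj
  set s' : Γ := t₂ * t'⁻¹ with hs'
  have hs'T : s' ∈ T := T.mul_mem ht₂ (T.inv_mem ht')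
  set s : Γ := α * s' * α⁻¹ with hs
  have hsG : s ∈ G := G.mul_mem (G.mul_mem hα (h.T_le hs'T)) (G.inv_mem hα)
  have hsx : ρ s x = x := by
    rw [hs, rho_mul, rho_mul, hαx, h.T_z _ hs'T, hαz]
  have hstx : ρ s (ρ t x) = (i * j⁻¹) • z := by
    rw [hs, rho_mul, rho_mul, hi, map_smul, hs', rho_mul, rho_inv_apply, map_smul]
    have h1 : ρ α (ρ t₂ x) = j⁻¹ • z := by
      rw [hsmul hj0 hj, map_smul, rho_apply_inv]
    rw [h1, smul_smul]
  have hl0 : i * j⁻¹ ≠ 0 := mul_ne_zero hi0 (inv_ne_zero hj0)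
  -- `s z`
  obtain ⟨t₁, ht₁, k, hk⟩ := h.hB s hsG (by
    intro m hm
    have hm0 : m ≠ 0 := by
      rintro rfl
      rw [zero_smul] at hm
      exact rho_ne_zero ρ s h.z_ne hm
    have h1 : ρ s (m⁻¹ • (i * j⁻¹) • z) = ρ s (ρ t x) := by
      rw [hstx, map_smul, map_smul, hm, smul_smul, smul_smul]
      congr 1
      field_simp
    have h2 : m⁻¹ • (i * j⁻¹) • z = ρ t x := by
      rw [← rho_inv_apply ρ s (ρ t x), ← h1, rho_inv_apply]
    apply htx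
    rw [← h2]
    exact H.smul_mem _ (H.smul_mem _ h.z_mem))
  have hk0 : k ≠ 0 := by
    rintro rfl
    rw [zero_smul] at hk
    exact rho_ne_zero ρ s h.z_ne hk
  -- trivial actions of `s`
  have hsζ : ∀ v, ζ v = 0 → ∃ c : ZMod p, ρ s v = v + c • x := by
    intro v hv
    obtain ⟨c, hc⟩ := h.T_H s' hs'T _ ((hζ v).1 hv)
    refine ⟨c, ?_⟩
    rw [hs, rho_mul, rho_mul, hc, map_add, rho_apply_inv, map_smul, hαz]
  have hsζ' : ∀ v, ζ (ρ s v) = ζ v := by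
    intro v
    rw [← sub_eq_zero, ← map_sub, hζ, map_sub, hs, rho_mul, rho_mul, rho_inv_apply]
    set u := ρ α⁻¹ v
    obtain ⟨i, hi⟩ := h.index u
    obtain ⟨w, hw, hx⟩ := h.T_x s' hs'T
    obtain ⟨j, hj⟩ := h.T_H s' hs'T _ hi
    rw [map_add, map_smul, hx, smul_add] at hj
    have h1 : ρ s' u - u = j • z - i • w := by
      have : ρ s' u = u + i • x + j • z - (i • x + i • w) := by
        rw [eq_sub_iff_add_eq]
        exact hj
      rw [this]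
      abel
    rw [h1]
    exact H.sub_mem (H.smul_mem _ h.z_mem) (H.smul_mem _ hw)
  have hg : ζ (wt ρ x t) = i * j⁻¹ := by
    have h1 := hsζ' (ρ t x)
    rw [hstx, map_smul, hζz, smul_eq_mul, mul_one, rho_x t, map_add, hζx, zero_add] at h1
    exact h1.symm
  have hg0 : ζ (wt ρ x t) ≠ 0 := by
    rw [hg]
    exact hl0
  refine ⟨hg0, t₁⁻¹ * s * t, G.mul_mem (G.mul_mem (G.inv_mem (h.T_le ht₁)) hsG) (h.T_le ht), k,
    i * j⁻¹, hk0, hl0, ?_, ?_, ?_⟩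
  · rw [rho_mul, rho_mul, h.T_z t ht, hk, map_smul, rho_inv_apply]
  · rw [rho_mul, rho_mul, hstx, map_smul, h.T_z _ (T.inv_mem ht₁)]
  · intro b hbH hbζ f hf
    set n : Γ := t₁⁻¹ * s * t with hn
    have hnG : n ∈ G := G.mul_mem (G.mul_mem (G.inv_mem (h.T_le ht₁)) hsG) (h.T_le ht)
    have hnz : ρ n z = k • x := by
      rw [hn, rho_mul, rho_mul, h.T_z t ht, hk, map_smul, rho_inv_apply]
    have hnx : ρ n x = (i * j⁻¹) • z := by
      rw [hn, rho_mul, rho_mul, hstx, map_smul, h.T_z _ (T.inv_mem ht₁)]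
    -- `n b ∈ H`, `ζ (n b) = 0`
    have h1 : ρ n b ∈ H := by
      have h2 := map_H h (γ := n * α) (G.mul_mem hnG hα) (μ := i * j⁻¹) (by
        rw [rho_mul, hαz, hnx]) ((hζ b).1 hbζ)
      rw [rho_mul, rho_apply_inv] at h2
      exact h2
    have h2 : ζ (ρ n b) = 0 := by
      rw [hζ]
      have h3 := map_H h (γ := α⁻¹ * n) (G.mul_mem (G.inv_mem hα) hnG) (μ := k) (by
        rw [rho_mul, hnz, map_smul, hαx]) hbH
      rw [rho_mul] at h3
      exact h3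
    -- compute
    set g := ζ (wt ρ x t) with hgdef
    set bt := wt ρ x t - g • z with hbt
    have hbtH : bt ∈ H := H.sub_mem hwt (H.smul_mem _ h.z_mem)
    have hbtζ : ζ bt = 0 := by
      rw [hbt, map_sub, map_smul, hζz, smul_eq_mul, mul_one, ← hgdef, sub_self]
    obtain ⟨c, hc⟩ := hsζ bt hbtζ
    obtain ⟨c', hc'⟩ := hsζ b hbζ
    have hwteq : wt ρ x t = bt + g • z := by rw [hbt]; abel
    have hgz : g • ρ s z = g • z - bt - (1 + c) • x := by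
      have h3 := hstx
      rw [rho_x t, map_add, hsx, hwteq, map_add, map_smul, hc, ← hg] at h3
      have h4 : g • ρ s z = g • z - (x + (bt + c • x)) := by
        rw [eq_sub_iff_add_eq, ← h3]
        abel
      rw [h4, add_smul, one_smul]
      abel
    have hsz : ρ s z = z - g⁻¹ • bt - (g⁻¹ * (1 + c)) • x := by
      rw [hsmul hg0 (rfl : g • ρ s z = g • ρ s z), hgz, smul_sub, smul_sub, smul_smul,
        inv_mul_cancel₀ hg0, one_smul, smul_smul]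
    have hst : ρ s (ρ t b) = (b - (f / g) • bt + f • z) + (c' - f * (g⁻¹ * (1 + c))) • x := by
      rw [hf, map_add, map_smul, hc', hsz, smul_sub, smul_sub, smul_smul, smul_smul, sub_smul,
        div_eq_mul_inv]
      abel
    obtain ⟨w₁, hw₁, hx₁⟩ := h.T_x t₁⁻¹ (T.inv_mem ht₁)
    have hmemH : b - (f / g) • bt + f • z ∈ H :=
      H.add_mem (H.sub_mem hbH (H.smul_mem _ hbtH)) (H.smul_mem _ h.z_mem)
    obtain ⟨e, he⟩ := h.T_H t₁⁻¹ (T.inv_mem ht₁) _ hmemH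
    have hnb : ρ n b = (b - (f / g) • bt + f • z + e • z) +
        (c' - f * (g⁻¹ * (1 + c))) • (x + w₁) := by
      rw [hn, rho_mul, rho_mul, hst, map_add, he, map_smul, hx₁]
    set c₃ := c' - f * (g⁻¹ * (1 + c)) with hc₃
    have hc₃0 : c₃ = 0 := by
      have h3 := (hξ _).1 h1
      rw [hnb, map_add, (hξ _).1 (H.add_mem hmemH (H.smul_mem e h.z_mem)), map_smul, map_add,
        hξx, (hξ _).1 hw₁, zero_add, add_zero, smul_eq_mul, mul_one] at h3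
      exact h3
    rw [hc₃0, zero_smul, add_zero] at hnb
    have h4 : f + e = 0 := by
      have h5 := h2
      rw [hnb, map_add, map_add, map_sub, map_smul, map_smul, map_smul, hbζ, hbtζ, hζz, smul_zero,
        smul_eq_mul, smul_eq_mul, mul_one, mul_one] at h5
      simpa using h5
    rw [hnb, add_assoc, ← add_smul, h4, zero_smul, add_zero]

/-- The bilinear form. -/
def fo (ρ : Γ →* Module.End (ZMod p) W) (x : W) (ζ : W →ₗ[ZMod p] ZMod p) (s t : Γ) : ZMod p :=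
  ζ (ρ s (wt ρ x t) - wt ρ x t)

theorem fo_eq (h : Lin ρ G T H x z) {ζ : W →ₗ[ZMod p] ZMod p} (hζz : ζ z = 1) {s : Γ}
    (hs : s ∈ T) {w : W} (hw : w ∈ H) : ρ s w = w + ζ (ρ s w - w) • z := by
  obtain ⟨j, hj⟩ := h.T_H s hs w hw
  rw [hj, add_sub_cancel_left, map_smul, hζz, smul_eq_mul, mul_one]

theorem fo_mul_right (h : Lin ρ G T H x z) {ζ : W →ₗ[ZMod p] ZMod p} {s a b : Γ}
    (hs : s ∈ T) (ha : a ∈ T) (hb : b ∈ T) :
    fo ρ x ζ s (a * b) = fo ρ x ζ s a + fo ρ x ζ s b := by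
  unfold fo
  obtain ⟨j, hj⟩ := h.T_H a ha _ (wt_mem h hb)
  rw [← map_add, wt_mul, hj, map_add, map_add, map_smul, h.T_z s hs]
  congr 1
  abel

theorem fo_symm (h : Lin ρ G T H x z) {ζ : W →ₗ[ZMod p] ZMod p} {s t : Γ} (hs : s ∈ T)
    (ht : t ∈ T) : fo ρ x ζ s t = fo ρ x ζ t s := by
  unfold fo
  rw [wt_symm h hs ht]

theorem fo_self_ne (h : Lin ρ G T H x z) {ζ : W →ₗ[ZMod p] ZMod p} (hζz : ζ z = 1) {t : Γ}
    (ht : t ∈ T) (ht1 : t ≠ 1) : fo ρ x ζ t t ≠ 0 := by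
  intro h0
  refine h.hA t ht ht1 (wt ρ x t) (rho_x t) ?_
  rw [fo_eq h hζz ht (wt_mem h ht)]
  unfold fo at h0
  rw [h0, zero_smul, add_zero]

theorem wt_pow (h : Lin ρ G T H x z) {t : Γ} (ht : t ∈ T) (k : ℕ) :
    ∃ c : ZMod p, wt ρ x (t ^ k) = (k : ZMod p) • wt ρ x t + c • z := by
  induction k with
  | zero =>
    refine ⟨0, ?_⟩
    simp [wt]
  | succ k ih =>
    obtain ⟨c, hc⟩ := ih
    obtain ⟨d, hd⟩ := h.T_H (t ^ k) (T.pow_mem ht k) _ (wt_mem h ht)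
    refine ⟨c + d, ?_⟩
    rw [pow_succ, wt_mul, hc, hd]
    push_cast
    rw [add_smul, add_smul, one_smul]
    abel

theorem fo_pow (h : Lin ρ G T H x z) {ζ : W →ₗ[ZMod p] ZMod p} {s t : Γ} (hs : s ∈ T)
    (ht : t ∈ T) (k : ℕ) : fo ρ x ζ s (t ^ k) = k * fo ρ x ζ s t := by
  induction k with
  | zero => simp [fo, wt]
  | succ k ih =>
    rw [pow_succ, fo_mul_right h hs (T.pow_mem ht k) ht, ih]
    push_cast
    ring

/-- The linear form of the theorem. -/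
theorem core (hp2 : p ≠ 2) (h : Lin ρ G T H x z) (hT : Nat.card T = p ^ 2) :
    ∃ t₁ ∈ T, ∃ t₂ ∈ T, ∃ n ∈ G, ∃ μ a₁ a₂ : ZMod p,
      (∀ t ∈ T, ∃ i j : ℕ, t = t₁ ^ i * t₂ ^ j) ∧
      (∀ t ∈ T, n * t * n⁻¹ ∈ T) ∧ ρ n z = μ • z ∧ n * t₁ * n⁻¹ = t₁ ^ a₁.val ∧
      n * t₂ * n⁻¹ = t₂ ^ a₂.val ∧ a₁ ≠ μ ∧ a₂ ≠ μ := by
  obtain ⟨α, hα, hαz, ζ, hζz, hζx, hζ⟩ := exists_zeta h
  have hfinT : Finite T := Nat.finite_of_card_ne_zero (by
    rw [hT]
    exact pow_ne_zero _ hp.out.ne_zero)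
  -- `t₁`
  obtain ⟨t₁, ht₁, ht₁1⟩ : ∃ t₁ ∈ T, t₁ ≠ 1 := by
    by_contra hcon
    push Not at hcon
    have : Nat.card T = 1 := by
      rw [Nat.card_eq_one_iff_unique]
      exact ⟨⟨fun a b => Subtype.ext ((hcon a a.2).trans (hcon b b.2).symm)⟩, ⟨1⟩⟩
    rw [hT] at this
    have h2 := hp.out.one_lt
    nlinarith
  have hf11 := fo_self_ne h hζz ht₁ ht₁1
  -- `t₂`
  obtain ⟨t₂, ht₂, ht₂1, hf12⟩ : ∃ t₂ ∈ T, t₂ ≠ 1 ∧ fo ρ x ζ t₁ t₂ = 0 := by
    by_contra hcon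
    push Not at hcon
    have hinj : Function.Injective (fun t : T => fo ρ x ζ t₁ t) := by
      intro a b hab
      by_contra hne
      have h1 : (a : Γ) * (b : Γ)⁻¹ ≠ 1 := by
        intro h1
        rw [mul_inv_eq_one] at h1
        exact hne (Subtype.ext h1)
      refine hcon _ (T.mul_mem a.2 (T.inv_mem b.2)) h1 ?_
      have h2 := fo_mul_right h (ζ := ζ) ht₁ (T.mul_mem a.2 (T.inv_mem b.2)) b.2
      rw [inv_mul_cancel_right] at h2
      simp only at hab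
      rw [← hab] at h2
      linear_combination -h2
    have h3 := Nat.card_le_card_of_injective _ hinj
    rw [hT, Nat.card_zmod] at h3
    have h2 := hp.out.one_lt
    nlinarith
  have hf22 := fo_self_ne h hζz ht₂ ht₂1
  have hf21 : fo ρ x ζ t₂ t₁ = 0 := by rw [fo_symm h ht₂ ht₁, hf12]
  -- generation
  have hgen : ∀ t ∈ T, ∃ i j : ℕ, t = t₁ ^ i * t₂ ^ j := by
    let F : ZMod p × ZMod p → T := fun ij =>
      ⟨t₁ ^ ij.1.val * t₂ ^ ij.2.val, T.mul_mem (T.pow_mem ht₁ _) (T.pow_mem ht₂ _)⟩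
    have hFinj : Function.Injective F := by
      rintro ⟨i, j⟩ ⟨i', j'⟩ hij
      have h1 : t₁ ^ i.val * t₂ ^ j.val = t₁ ^ i'.val * t₂ ^ j'.val := congrArg Subtype.val hij
      have e1 := congrArg (fo ρ x ζ t₁) h1
      have e2 := congrArg (fo ρ x ζ t₂) h1
      rw [fo_mul_right h ht₁ (T.pow_mem ht₁ _) (T.pow_mem ht₂ _),
        fo_mul_right h ht₁ (T.pow_mem ht₁ _) (T.pow_mem ht₂ _), fo_pow h ht₁ ht₁,
        fo_pow h ht₁ ht₁, fo_pow h ht₁ ht₂, fo_pow h ht₁ ht₂, hf12, mul_zero, mul_zero, add_zero,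
        add_zero, ZMod.natCast_zmod_val, ZMod.natCast_zmod_val] at e1
      rw [fo_mul_right h ht₂ (T.pow_mem ht₁ _) (T.pow_mem ht₂ _),
        fo_mul_right h ht₂ (T.pow_mem ht₁ _) (T.pow_mem ht₂ _), fo_pow h ht₂ ht₁,
        fo_pow h ht₂ ht₁, fo_pow h ht₂ ht₂, fo_pow h ht₂ ht₂, hf21, mul_zero, mul_zero, zero_add,
        zero_add, ZMod.natCast_zmod_val, ZMod.natCast_zmod_val] at e2
      exact Prod.ext (mul_right_cancel₀ hf11 e1) (mul_right_cancel₀ hf22 e2)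
    have hcard : Nat.card T ≤ Nat.card (ZMod p × ZMod p) := by
      rw [hT, Nat.card_prod, Nat.card_zmod, pow_two]
    have hbij := hFinj.bijective_of_nat_card_le hcard
    intro t ht
    obtain ⟨ij, hij⟩ := hbij.2 ⟨t, ht⟩
    exact ⟨ij.1.val, ij.2.val, (congrArg Subtype.val hij).symm⟩
  -- the swaps
  obtain ⟨hg₁, n₁, hn₁, k₁, l₁, hk₁, hl₁, hn₁z, hn₁x, hn₁b⟩ :=
    exists_swap h hα hαz hζz hζx hζ ht₁ ht₁1
  obtain ⟨hg₂, n₂, hn₂, k₂, l₂, hk₂, hl₂, hn₂z, hn₂x, hn₂b⟩ :=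
    exists_swap h hα hαz hζz hζx hζ ht₂ ht₂1
  set g₁ := ζ (wt ρ x t₁) with hg₁d
  set g₂ := ζ (wt ρ x t₂) with hg₂d
  set b₁ := wt ρ x t₁ - g₁ • z with hb₁
  set b₂ := wt ρ x t₂ - g₂ • z with hb₂
  have hb₁H : b₁ ∈ H := H.sub_mem (wt_mem h ht₁) (H.smul_mem _ h.z_mem)
  have hb₂H : b₂ ∈ H := H.sub_mem (wt_mem h ht₂) (H.smul_mem _ h.z_mem)
  have hb₁ζ : ζ b₁ = 0 := by rw [hb₁, map_sub, map_smul, hζz, smul_eq_mul, mul_one, sub_self]
  have hb₂ζ : ζ b₂ = 0 := by rw [hb₂, map_sub, map_smul, hζz, smul_eq_mul, mul_one, sub_self]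
  have hb₁0 : b₁ ≠ 0 := by
    intro h0
    rw [hb₁, sub_eq_zero] at h0
    exact ht₁1 (h.T_inj t₁ ht₁ g₁ (by rw [rho_x t₁, h0]))
  have hb₂0 : b₂ ≠ 0 := by
    intro h0
    rw [hb₂, sub_eq_zero] at h0
    exact ht₂1 (h.T_inj t₂ ht₂ g₂ (by rw [rho_x t₂, h0]))
  have hact : ∀ {s t : Γ}, s ∈ T → t ∈ T →
      ρ s (wt ρ x t - ζ (wt ρ x t) • z) = (wt ρ x t - ζ (wt ρ x t) • z) + fo ρ x ζ s t • z := by
    intro s t hs ht
    rw [map_sub, map_smul, h.T_z s hs, fo_eq h hζz hs (wt_mem h ht)]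
    unfold fo
    abel
  have e11 : ρ t₁ b₁ = b₁ + fo ρ x ζ t₁ t₁ • z := hact ht₁ ht₁
  have e12 : ρ t₁ b₂ = b₂ + (0 : ZMod p) • z := by
    have := hact ht₁ ht₂
    rw [hf12] at this
    exact this
  have e21 : ρ t₂ b₁ = b₁ + (0 : ZMod p) • z := by
    have := hact ht₂ ht₁
    rw [hf21] at this
    exact this
  have e22 : ρ t₂ b₂ = b₂ + fo ρ x ζ t₂ t₂ • z := hact ht₂ ht₂
  set f₁ := fo ρ x ζ t₁ t₁ with hf₁
  set f₂ := fo ρ x ζ t₂ t₂ with hf₂
  have n11 : ρ n₁ b₁ = (1 - f₁ / g₁) • b₁ := by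
    rw [hn₁b b₁ hb₁H hb₁ζ _ e11, sub_smul, one_smul]
  have n12 : ρ n₁ b₂ = b₂ := by
    rw [hn₁b b₂ hb₂H hb₂ζ _ e12, zero_div, zero_smul, sub_zero]
  have n21 : ρ n₂ b₁ = b₁ := by
    rw [hn₂b b₁ hb₁H hb₁ζ _ e21, zero_div, zero_smul, sub_zero]
  have n22 : ρ n₂ b₂ = (1 - f₂ / g₂) • b₂ := by
    rw [hn₂b b₂ hb₂H hb₂ζ _ e22, sub_smul, one_smul]
  set n := n₂ * n₁ with hn
  have hnG : n ∈ G := G.mul_mem hn₂ hn₁
  set μ := k₁ * l₂ with hμ
  set ν := l₁ * k₂ with hν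
  have hμ0 : μ ≠ 0 := mul_ne_zero hk₁ hl₂
  have hν0 : ν ≠ 0 := mul_ne_zero hl₁ hk₂
  have hnz : ρ n z = μ • z := by rw [hn, rho_mul, hn₁z, map_smul, hn₂x, smul_smul]
  have hnx : ρ n x = ν • x := by rw [hn, rho_mul, hn₁x, map_smul, hn₂z, smul_smul]
  have hninvx : ρ n⁻¹ x = ν⁻¹ • x := by
    have h1 : ρ n⁻¹ (ρ n x) = x := rho_inv_apply ρ n x
    rw [hnx, map_smul] at h1
    rw [← h1, smul_smul, inv_mul_cancel₀ hν0, one_smul, h1]
  -- the main computation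
  have hmain : ∀ {t : Γ}, t ∈ T → t ≠ 1 → ∀ (b : W) (g η f : ZMod p), wt ρ x t = b + g • z →
      b ≠ 0 → f ≠ 0 → g ≠ 0 → ρ t b = b + f • z → η = 1 - f / g → ρ n b = η • b →
      ∃ a : ZMod p, n * t * n⁻¹ = t ^ a.val ∧ a ≠ μ := by
    intro t ht ht1 b g η f hw hb0 hf0 hg0 htb hη hnb
    have hconj := conj_mem hp2 h hnG hnz ht
    have hη0 : η ≠ 0 := by
      rintro h0
      rw [h0, zero_smul] at hnb
      exact rho_ne_zero ρ n hb0 hnb
    set a := η / ν with ha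
    have hw' : wt ρ x (n * t * n⁻¹) = a • b + (ν⁻¹ * (g * μ)) • z := by
      unfold wt
      rw [rho_mul, rho_mul, hninvx, map_smul, rho_x t, hw, map_smul, map_add, hnx, map_add, hnb,
        map_smul, hnz, smul_add, smul_add, smul_smul, smul_smul, smul_smul, smul_smul,
        inv_mul_cancel₀ hν0, one_smul, add_sub_cancel_left, ha, div_eq_mul_inv, mul_comm η, mul_assoc]
    have heq : n * t * n⁻¹ = t ^ a.val := by
      obtain ⟨c, hc⟩ := wt_pow h ht a.val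
      rw [ZMod.natCast_zmod_val] at hc
      refine eq_of_wt h hconj (T.pow_mem ht _) (i := ν⁻¹ * (g * μ) - a * g - c) ?_
      rw [hw', hc, hw, smul_add, smul_smul, sub_smul, sub_smul]
      abel
    refine ⟨a, heq, ?_⟩
    -- `a * η = μ`
    have h1 : ρ (n * t * n⁻¹) (ρ n b) = η • b + (f * μ) • z := by
      rw [rho_mul, rho_mul, rho_inv_apply, htb, map_add, map_smul, hnz, hnb, smul_smul]
    have h2 : ρ (t ^ a.val) b = b + (a * f) • z := by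
      have := rho_pow ρ (h.T_z t ht) htb a.val
      rwa [ZMod.natCast_zmod_val] at this
    rw [heq, hnb, map_smul, h2, smul_add, smul_smul] at h1
    have h3 := add_left_cancel h1
    have h4 : η * (a * f) = f * μ := by
      have := congrArg ζ h3
      rwa [map_smul, map_smul, hζz, smul_eq_mul, smul_eq_mul, mul_one, mul_one] at this
    have h5 : a * η = μ := by
      have : (a * η) * f = μ * f := by linear_combination h4
      exact mul_right_cancel₀ hf0 this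
    intro h6
    have ha0 : a ≠ 0 := by
      rw [ha]
      exact div_ne_zero hη0 hν0
    have h7 : a * η = a * 1 := by rw [h5, mul_one, h6]
    have h8 : η = 1 := mul_left_cancel₀ ha0 h7
    rw [hη] at h8
    have h9 : f / g = 0 := by linear_combination -h8
    exact div_ne_zero hf0 hg0 h9
  obtain ⟨a₁, ha₁, ha₁'⟩ := hmain ht₁ ht₁1 b₁ g₁ (1 - f₁ / g₁) f₁ (by rw [hb₁]; abel) hb₁0 hf11
    hg₁ e11 rfl (by rw [hn, rho_mul, n11, map_smul, n21])
  obtain ⟨a₂, ha₂, ha₂'⟩ := hmain ht₂ ht₂1 b₂ g₂ (1 - f₂ / g₂) f₂ (by rw [hb₂]; abel) hb₂0 hf22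
    hg₂ e22 rfl (by rw [hn, rho_mul, n12, n22])
  exact ⟨t₁, ht₁, t₂, ht₂, n, hnG, μ, a₁, a₂, hgen, fun t ht => conj_mem hp2 h hnG hnz ht, hnz,
    ha₁, ha₂, ha₁', ha₂'⟩

end Linear

section Convert

variable {p : ℕ} [hp : Fact p.Prime] {V : Type*} [CommGroup V]

/-- Automorphisms as linear maps. -/
noncomputable def toLin (p : ℕ) [Module (ZMod p) (Additive V)] :
    MulAut V →* Module.End (ZMod p) (Additive V) where
  toFun γ := AddMonoidHom.toZModLinearMap p (MonoidHom.toAdditive (γ : V ≃* V).toMonoidHom)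
  map_one' := rfl
  map_mul' _ _ := rfl

theorem toLin_ofMul [Module (ZMod p) (Additive V)] (γ : MulAut V) (v : V) :
    toLin p γ (Additive.ofMul v) = Additive.ofMul (γ v) := rfl

theorem int_smul [Module (ZMod p) (Additive V)] (i : ℤ) (v : V) :
    (i : ZMod p) • Additive.ofMul v = Additive.ofMul (v ^ i) := by
  rw [Int.cast_smul_eq_zsmul, ofMul_zpow]

theorem zmod_smul [Module (ZMod p) (Additive V)] (i : ZMod p) (v : V) :
    i • Additive.ofMul v = Additive.ofMul (v ^ (i.val : ℤ)) := by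
  have : ((i.val : ℤ) : ZMod p) = i := by
    rw [Int.cast_natCast, ZMod.natCast_zmod_val]
  rw [← int_smul (p := p), this]

theorem ov_torus_comm [Finite V] (hp2 : p ≠ 2) {G T : Subgroup (MulAut V)} {H : Subgroup V}
    {x z : V} (h : Cfsg.Agent.H764.Ov p G T H x z) (hT : Nat.card T = p ^ 2)
    (hA : ∀ t ∈ T, t ≠ 1 → ∀ w : V, t x = x * w → t w ≠ w)
    (hB : ∀ β ∈ G, β z ∉ Subgroup.zpowers z → ∃ t ∈ T, ∃ i : ℤ, β z = (t x) ^ i)
    (hS : ∀ N : Subgroup (MulAut V), N ≤ G → IsPGroup p N → T ≤ N → N = T) :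
    ∃ t₁ ∈ T, ∃ t₂ ∈ T, ∃ n ∈ G, ∃ μ a₁ a₂ : ℤ, (∀ t ∈ T, ∃ i j : ℤ, t = t₁ ^ i * t₂ ^ j) ∧
      (∀ t ∈ T, n * t * n⁻¹ ∈ T) ∧ n z = z ^ μ ∧ n * t₁ * n⁻¹ = t₁ ^ a₁ ∧
      n * t₂ * n⁻¹ = t₂ ^ a₂ ∧ ¬ (p : ℤ) ∣ a₁ - μ ∧ ¬ (p : ℤ) ∣ a₂ - μ := by
  let _ : Module (ZMod p) (Additive V) := AddCommGroup.zmodModule (n := p) (fun v => by
    have := h.exp v.toMul
    exact this)
  let H' : Submodule (ZMod p) (Additive V) :=
    AddSubgroup.toZModSubmodule p (Subgroup.toAddSubgroup H)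
  have hlin : Lin (toLin p) G T H' (Additive.ofMul x) (Additive.ofMul z) := by
    refine ⟨?_, h.z_mem, fun h0 => h.z_ne h0, h.x_not, ?_, h.T_le, h.T_comm, ?_, ?_, ?_, ?_, ?_, ?_,
      ?_, ?_, ?_, hS⟩
    · intro γ δ hγδ
      ext v
      have := LinearMap.congr_fun hγδ (Additive.ofMul v)
      exact this
    · intro v
      obtain ⟨i, hi⟩ := h.index v.toMul
      refine ⟨(i : ZMod p), ?_⟩
      rw [int_smul]
      exact hi
    · intro t ht
      exact congrArg Additive.ofMul (h.T_z t ht)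
    · intro t ht w hw
      obtain ⟨j, hj⟩ := h.T_H t ht w.toMul hw
      refine ⟨(j : ZMod p), ?_⟩
      rw [int_smul]
      exact congrArg Additive.ofMul hj
    · intro t ht
      obtain ⟨w, hw, h1⟩ := h.T_x t ht
      exact ⟨Additive.ofMul w, hw, congrArg Additive.ofMul h1⟩
    · intro w hw
      obtain ⟨t, ht, i, hi⟩ := h.T_surj w.toMul hw
      refine ⟨t, ht, (i : ZMod p), ?_⟩
      rw [int_smul]
      exact congrArg Additive.ofMul hi
    · intro t ht i hi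
      rw [zmod_smul] at hi
      exact h.T_inj t ht i.val (congrArg Additive.toMul hi)
    · obtain ⟨α, hα, hαz⟩ := h.trans
      exact ⟨α, hα, congrArg Additive.ofMul hαz⟩
    · intro β hβ hβz
      obtain ⟨i, hi⟩ := h.hI β hβ hβz
      refine ⟨(i : ZMod p), ?_⟩
      rw [int_smul]
      exact congrArg Additive.ofMul hi.symm
    · intro t ht ht1 w hw h1
      exact hA t ht ht1 w.toMul (congrArg Additive.toMul hw) (congrArg Additive.toMul h1)
    · intro β hβ hβz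
      obtain ⟨t, ht, i, hi⟩ := hB β hβ (by
        rintro ⟨i, hi⟩
        refine hβz (i : ZMod p) ?_
        rw [int_smul]
        exact congrArg Additive.ofMul hi.symm)
      refine ⟨t, ht, (i : ZMod p), ?_⟩
      rw [toLin_ofMul, toLin_ofMul, int_smul]
      exact congrArg Additive.ofMul hi
  obtain ⟨t₁, ht₁, t₂, ht₂, n, hn, μ, a₁, a₂, hgen, hconj, hnz, hn₁, hn₂, ha₁, ha₂⟩ :=
    core hp2 hlin hT
  have hdvd : ∀ a : ZMod p, a ≠ μ → ¬ (p : ℤ) ∣ (a.val : ℤ) - (μ.val : ℤ) := by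
    intro a ha hd
    apply ha
    rw [← ZMod.intCast_zmod_eq_zero_iff_dvd] at hd
    push_cast at hd
    rw [ZMod.natCast_zmod_val, ZMod.natCast_zmod_val, sub_eq_zero] at hd
    exact hd
  refine ⟨t₁, ht₁, t₂, ht₂, n, hn, μ.val, a₁.val, a₂.val, fun t ht => ?_, hconj, ?_, ?_, ?_,
    hdvd a₁ ha₁, hdvd a₂ ha₂⟩
  · obtain ⟨i, j, hij⟩ := hgen t ht
    exact ⟨i, j, by rw [hij, zpow_natCast, zpow_natCast]⟩
  · rw [zmod_smul] at hnz
    exact congrArg Additive.toMul hnz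
  · rw [hn₁, zpow_natCast]
  · rw [hn₂, zpow_natCast]

end Convert

/-- Task 92. -/
theorem ov_torus {p : ℕ} [Fact p.Prime] (hp : p ≠ 2) {V : Type*} [Group V] [Finite V]
    {G T : Subgroup (MulAut V)} {H : Subgroup V} {x z : V} (h : Cfsg.Agent.H764.Ov p G T H x z)
    (hT : Nat.card T = p ^ 2)
    (hA : ∀ t ∈ T, t ≠ 1 → ∀ w : V, t x = x * w → t w ≠ w)
    (hB : ∀ β ∈ G, β z ∉ Subgroup.zpowers z → ∃ t ∈ T, ∃ i : ℤ, β z = (t x) ^ i)
    (hS : ∀ N : Subgroup (MulAut V), N ≤ G → IsPGroup p N → T ≤ N → N = T) :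
    ∃ t₁ ∈ T, ∃ t₂ ∈ T, ∃ n ∈ G, ∃ μ a₁ a₂ : ℤ, (∀ t ∈ T, ∃ i j : ℤ, t = t₁ ^ i * t₂ ^ j) ∧
      (∀ t ∈ T, n * t * n⁻¹ ∈ T) ∧ n z = z ^ μ ∧ n * t₁ * n⁻¹ = t₁ ^ a₁ ∧
      n * t₂ * n⁻¹ = t₂ ^ a₂ ∧ ¬ (p : ℤ) ∣ a₁ - μ ∧ ¬ (p : ℤ) ∣ a₂ - μ := by
  let _ : CommGroup V := { (inferInstance : Group V) with mul_comm := h.comm }
  exact ov_torus_comm hp h hT hA hB hS

end Cfsg.Agent.H608.OvTorus
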